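import Cfsg.Agent.H318.Four.RowE6
import Cfsg.Agent.H83.RootCount
import Cfsg.Agent.H971.RV.FrOKE7_m3
import Cfsg.Agent.H720.TwFr
import Cfsg.Agent.H392.KKL.X2a_mg
import Cfsg.Agent.UGT.U2.FOne.TwESixEnd
import Mathlib
import Cfsg.Agent.ChevalleyStructure.SL2Hom
import Cfsg.Agent.H482.Car.TwoInv
import Cfsg.Agent.ChevFast.E6
import Cfsg.Agent.H557.LrData
import Cfsg.Agent.H557.LrE7
import Cfsg.Agent.H808.RV.FMain
import Cfsg.Agent.H984.SLTable
import Cfsg.Agent.H681.DegBasic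
import Cfsg.Agent.H624.MGroupA
import Cfsg.Agent.CharactersDeep.CliffordSum
import Cfsg.Agent.H613.KKL.Defs
import Cfsg.Agent.H553.KKL.E7One
import Cfsg.Agent.ChevFast.E7
import Cfsg.Agent.FastGrp
import Cfsg.Agent.Prune
set_option linter.all false

section
prune_inst 0x7ffcbcf92bacb7ffdfff7e3faed6dffc31800fffe6dff9433fe021af0bdf038009c56b850de010fe0e43e01410b87813f97eca3fea6bdc7ffffd5df41ffbee1fe5f6b508519488340f380ffe03f0778a6f3fffffffffdfffffffffffffffffbeffbffbfeffff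

-- part: H836/KKL/Rows
section
prune_inst 0x106805008002000004000080001c839300000000088000000400000480cc40000288200000010a0020080400340008125c00000020000000000000011c01801000000080080008400008000000410000000000020000000000000000000000004010000
set_option linter.all false
open scoped Cfsg.Agent.FastGrp

-- part: H836/KKL/ESix
section
/-!
# S4546, rows `E₆(q)`, `²E₆(q)`, `q` odd (helper836)

* `no_sixteen` : linear algebra: not all seven involutions of a `2^3` on a space of dimension 27 have a `-1`-eigenspace of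
  dimension 16.
-/

set_option autoImplicit false
set_option linter.unusedSectionVars false

namespace Cfsg.Agent.H836.KKL

open LinearMap

section LA
variable {k V : Type*} [Field k] [AddCommGroup V] [Module k V] [FiniteDimensional k V]

theorem split (h2 : (2 : k) ≠ 0) {g : Module.End k V} (hg : ∀ v, g (g v) = v) (W : Submodule k V)
    (hW : ∀ w ∈ W, g w ∈ W) :
    Module.finrank k W = Module.finrank k ↥(W ⊓ ker (g - 1)) + Module.finrank k ↥(W ⊓ ker (g + 1)) := by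
  have h1 : (W ⊓ ker (g - 1)) ⊔ (W ⊓ ker (g + 1)) = W := by
    apply le_antisymm (sup_le inf_le_left inf_le_left)
    intro w hw
    have e : w = (2 : k)⁻¹ • (w + g w) + (2 : k)⁻¹ • (w - g w) := by
      rw [← smul_add, add_add_sub_cancel, ← two_smul k w, smul_smul, inv_mul_cancel₀ h2, one_smul]
    rw [e]
    refine Submodule.add_mem_sup ⟨W.smul_mem _ (W.add_mem hw (hW w hw)), ?_⟩
      ⟨W.smul_mem _ (W.sub_mem hw (hW w hw)), ?_⟩
    · show (g - 1) _ = 0
      rw [map_smul, LinearMap.sub_apply, map_add, hg, Module.End.one_apply, add_comm (g w), sub_self, smul_zero]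
    · show (g + 1) _ = 0
      rw [map_smul, LinearMap.add_apply, map_sub, hg, Module.End.one_apply, sub_add_sub_cancel, sub_self, smul_zero]
  have h3 : (W ⊓ ker (g - 1)) ⊓ (W ⊓ ker (g + 1)) = ⊥ := by
    rw [eq_bot_iff]
    rintro v ⟨⟨-, ha⟩, -, hb⟩
    have ha' : (g - 1) v = 0 := ha
    have hb' : (g + 1) v = 0 := hb
    rw [LinearMap.sub_apply, Module.End.one_apply, sub_eq_zero] at ha'
    rw [LinearMap.add_apply, Module.End.one_apply, ha', ← two_smul k v, smul_eq_zero] at hb'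
    exact (Submodule.mem_bot k).2 (hb'.resolve_left h2)
  have h4 := Submodule.finrank_sup_add_finrank_inf_eq (W ⊓ ker (g - 1)) (W ⊓ ker (g + 1))
  rw [h1, h3, finrank_bot, add_zero] at h4
  exact h4

variable {a b c : Module.End k V}

theorem mem_m {v : V} : v ∈ ker (a + 1) ↔ a v = -v := by
  rw [mem_ker, LinearMap.add_apply, Module.End.one_apply, add_eq_zero_iff_eq_neg]

theorem mem_p {v : V} : v ∈ ker (a - 1) ↔ a v = v := by
  rw [mem_ker, LinearMap.sub_apply, Module.End.one_apply, sub_eq_zero]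

theorem inv_m (hab : ∀ v, a (b v) = b (a v)) : ∀ w ∈ ker (a + 1), b w ∈ ker (a + 1) := by
  intro w hw
  rw [mem_m] at hw ⊢
  rw [hab, hw, map_neg]

theorem inv_p (hab : ∀ v, a (b v) = b (a v)) : ∀ w ∈ ker (a - 1), b w ∈ ker (a - 1) := by
  intro w hw
  rw [mem_p] at hw ⊢
  rw [hab, hw]

theorem inf_inv {W W' : Submodule k V} (h : ∀ w ∈ W, b w ∈ W) (h' : ∀ w ∈ W', b w ∈ W') :
    ∀ w ∈ W ⊓ W', b w ∈ W ⊓ W' := fun w hw => ⟨h w hw.1, h' w hw.2⟩

/-- the dimensions for a four-group on an invariant subspace -/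
theorem four (h2 : (2 : k) ≠ 0) (ha : ∀ v, a (a v) = v) (hb : ∀ v, b (b v) = v) (hab : ∀ v, a (b v) = b (a v))
    (W : Submodule k V) (hWa : ∀ w ∈ W, a w ∈ W) (hWb : ∀ w ∈ W, b w ∈ W) : ∃ u v w f : ℕ,
    Module.finrank k ↥(W ⊓ ker (a + 1)) = u + v ∧ Module.finrank k ↥(W ⊓ ker (b + 1)) = v + w ∧
    Module.finrank k ↥(W ⊓ ker (a * b + 1)) = u + w ∧ Module.finrank k W = u + v + w + f ∧
    Module.finrank k ↥((W ⊓ ker (b - 1)) ⊓ ker (a + 1)) = u := by
  have hba : ∀ v, b (a v) = a (b v) := fun v => (hab v).symm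
  have e1 := split h2 hb (W ⊓ ker (a + 1)) (inf_inv hWb (inv_m hab))
  have e2 := split h2 ha (W ⊓ ker (b + 1)) (inf_inv hWa (inv_m hba))
  have e3 := split h2 hb (W ⊓ ker (a * b + 1)) (inf_inv hWb (inv_m (a := a * b) fun v => by
    rw [Module.End.mul_apply, Module.End.mul_apply, hab]))
  have e4 := split h2 ha W hWa
  have e5 := split h2 hb (W ⊓ ker (a - 1)) (inf_inv hWb (inv_p hab))
  have h1 : (W ⊓ ker (a * b + 1)) ⊓ ker (b - 1) = (W ⊓ ker (a + 1)) ⊓ ker (b - 1) := by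
    ext v
    simp only [Submodule.mem_inf, mem_m, mem_p, Module.End.mul_apply]
    constructor
    · rintro ⟨⟨h1, h2⟩, h3⟩
      exact ⟨⟨h1, by rwa [h3] at h2⟩, h3⟩
    · rintro ⟨⟨h1, h2⟩, h3⟩
      exact ⟨⟨h1, by rwa [h3]⟩, h3⟩
  have h3 : (W ⊓ ker (a * b + 1)) ⊓ ker (b + 1) = (W ⊓ ker (a - 1)) ⊓ ker (b + 1) := by
    ext v
    simp only [Submodule.mem_inf, mem_m, mem_p, Module.End.mul_apply]
    constructor
    · rintro ⟨⟨h1, h2⟩, h3⟩
      exact ⟨⟨h1, by rw [h3, map_neg, neg_inj] at h2; exact h2⟩, h3⟩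
    · rintro ⟨⟨h1, h2⟩, h3⟩
      exact ⟨⟨h1, by rw [h3, map_neg, h2]⟩, h3⟩
  have h4 : (W ⊓ ker (b + 1)) ⊓ ker (a - 1) = (W ⊓ ker (a - 1)) ⊓ ker (b + 1) := inf_right_comm _ _ _
  have h5 : (W ⊓ ker (b + 1)) ⊓ ker (a + 1) = (W ⊓ ker (a + 1)) ⊓ ker (b + 1) := inf_right_comm _ _ _
  have h6 : (W ⊓ ker (b - 1)) ⊓ ker (a + 1) = (W ⊓ ker (a + 1)) ⊓ ker (b - 1) := inf_right_comm _ _ _
  rw [h1, h3] at e3
  rw [h4, h5] at e2
  refine ⟨Module.finrank k ↥((W ⊓ ker (a + 1)) ⊓ ker (b - 1)), Module.finrank k ↥((W ⊓ ker (a + 1)) ⊓ ker (b + 1)),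
    Module.finrank k ↥((W ⊓ ker (a - 1)) ⊓ ker (b + 1)), Module.finrank k ↥((W ⊓ ker (a - 1)) ⊓ ker (b - 1)),
    e1, ?_, ?_, ?_, by rw [h6]⟩
  · rw [e2, add_comm]
  · rw [e3]
  · rw [e4, e5, e1]; ring

theorem no_sixteen (h2 : (2 : k) ≠ 0) (hV : Module.finrank k V = 27) (ha : ∀ v, a (a v) = v) (hb : ∀ v, b (b v) = v)
    (hc : ∀ v, c (c v) = v) (hab : ∀ v, a (b v) = b (a v)) (hac : ∀ v, a (c v) = c (a v))
    (hbc : ∀ v, b (c v) = c (b v)) (na : Module.finrank k ↥(ker (a + 1)) = 16)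
    (nb : Module.finrank k ↥(ker (b + 1)) = 16) (nc : Module.finrank k ↥(ker (c + 1)) = 16)
    (nac : Module.finrank k ↥(ker (a * c + 1)) = 16)
    (nbc : Module.finrank k ↥(ker (b * c + 1)) = 16) (nab : Module.finrank k ↥(ker (a * b + 1)) = 16)
    (nabc : Module.finrank k ↥(ker (a * b * c + 1)) = 16) : False := by
  have key : ∀ {g : Module.End k V}, (∀ v, g (g v) = v) → (∀ v, g (c v) = c (g v)) →
      Module.finrank k ↥(ker (g + 1)) = 16 → Module.finrank k ↥(ker (g * c + 1)) = 16 →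
      Module.finrank k ↥(ker (c - 1) ⊓ ker (g + 1)) = 8 ∧ Module.finrank k ↥(ker (c - 1)) = 11 := by
    intro g hg hgc ng ngc
    obtain ⟨u, v, w, f, e1, e2, e3, e4, e5⟩ := four h2 hg hc hgc ⊤ (fun _ _ => trivial) fun _ _ => trivial
    rw [top_inf_eq] at e1 e2 e3 e5
    rw [finrank_top, hV] at e4
    have e6 := split h2 hc ⊤ fun _ _ => trivial
    rw [top_inf_eq, top_inf_eq, finrank_top, hV, nc] at e6
    exact ⟨by rw [e5]; omega, by omega⟩
  obtain ⟨k1, k4⟩ := key ha hac na nac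
  obtain ⟨k2, -⟩ := key hb hbc nb nbc
  obtain ⟨k3, -⟩ := key (g := a * b) (fun v => by
    rw [Module.End.mul_apply, Module.End.mul_apply, ← hab (b v), hb, ha]) (fun v => by
    rw [Module.End.mul_apply, Module.End.mul_apply, hbc, hac]) nab nabc
  obtain ⟨u, v, w, f, e1, e2, e3, e4, -⟩ := four h2 ha hb hab (ker (c - 1)) (inv_p fun v => (hac v).symm)
    (inv_p fun v => (hbc v).symm)
  omega

end LA

open Cfsg Cfsg.Lie
open Cfsg.Agent.H351.SpSix (rep rep_apply)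

/-- the dimension of the `-1`-eigenspace of an involution from the rank -/
theorem finrank_m {K : Type*} [Group K] {F : Type*} [Field F] (h2 : (2 : F) ≠ 0) {ι : Type*} [Fintype ι] [DecidableEq ι]
    (φ : K →* Matrix.GeneralLinearGroup ι F) {x : K} (hx : x * x = 1) :
    Module.finrank F ↥(ker (rep φ x + 1)) = ((φ x : Matrix ι ι F) - 1).rank := by
  have h1 : ker (rep φ x - 1) = LinearMap.ker (Matrix.mulVecLin ((φ x : Matrix ι ι F) - 1)) := by
    ext w
    rw [mem_p, LinearMap.mem_ker, Matrix.mulVecLin_apply, Matrix.sub_mulVec, Matrix.one_mulVec, sub_eq_zero, rep_apply]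
  have h3 : ((φ x : Matrix ι ι F) - 1).rank + Module.finrank F ↥(ker (rep φ x - 1)) = Module.finrank F (ι → F) := by
    rw [h1]
    exact LinearMap.finrank_range_add_finrank_ker _
  have h4 := split (k := F) h2 (g := rep φ x) (fun v => by
    rw [← Module.End.mul_apply, ← map_mul, hx, map_one, Module.End.one_apply]) ⊤ fun _ _ => trivial
  rw [top_inf_eq, top_inf_eq, finrank_top] at h4
  omega

/-! ### the involutions of a `2^3` -/

section Gp
open Cfsg.Agent.H613.KKL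

/-- three generators of a `2^3` -/
theorem exists_gen {G : Type*} [Group G] {D : Subgroup G} (h8 : E8 D) : ∃ a ∈ D, ∃ b ∈ D, ∃ c ∈ D,
    a ≠ 1 ∧ b ≠ 1 ∧ c ≠ 1 ∧ a * b ≠ 1 ∧ a * c ≠ 1 ∧ b * c ≠ 1 ∧ a * b * c ≠ 1 := by
  classical
  have hfin : Finite D := Nat.finite_of_card_ne_zero (by rw [h8.card]; norm_num)
  have key : ∀ s : Finset D, s.card < 8 → ∃ d : D, d ∉ s := by
    intro s hs
    by_contra hcon
    push Not at hcon
    have := Fintype.ofFinite D
    have h1 : s = Finset.univ := Finset.eq_univ_iff_forall.2 hcon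
    rw [h1, Finset.card_univ, ← Nat.card_eq_fintype_card, h8.card] at hs
    omega
  have hsq : ∀ d : D, d * d = 1 := fun d => Subtype.ext (h8.inv d d.2)
  have hc : ∀ d e : D, d * e = e * d := by
    intro d e
    have h1 := hsq (d * e)
    calc d * e = d * e * ((d * e) * (e * d)) := by
          rw [show d * e * (e * d) = d * (e * e) * d by group, hsq, mul_one, hsq, mul_one]
      _ = (d * e * (d * e)) * (e * d) := by group
      _ = e * d := by rw [h1, one_mul]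
  obtain ⟨a, ha⟩ := key {1} (by rw [Finset.card_singleton]; norm_num)
  obtain ⟨b, hb⟩ := key {1, a} ((Finset.card_le_two).trans_lt (by norm_num))
  obtain ⟨c, hc'⟩ := key {1, a, b, a * b} ((Finset.card_le_four).trans_lt (by norm_num))
  simp only [Finset.mem_insert, Finset.mem_singleton, not_or] at ha hb hc'
  obtain ⟨hb1, hb2⟩ := hb
  obtain ⟨hc1, hc2, hc3, hc4⟩ := hc'
  have hinv : ∀ d e : D, d * e = 1 → e = d := by
    intro d e h
    calc e = d * d * e := by rw [hsq, one_mul]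
      _ = d * (d * e) := by group
      _ = d := by rw [h, mul_one]
  refine ⟨a, a.2, b, b.2, c, c.2, fun h => ha (Subtype.ext h), fun h => hb1 (Subtype.ext h),
    fun h => hc1 (Subtype.ext h), ?_, ?_, ?_, ?_⟩
  · intro h; exact hb2 (hinv a b (Subtype.ext h))
  · intro h; exact hc2 (hinv a c (Subtype.ext h))
  · intro h; exact hc3 (hinv b c (Subtype.ext h))
  · intro h; exact hc4 (hinv (a * b) c (Subtype.ext h))

open Cfsg.Agent.H318.Four

/-- lifting a `2^3` -/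
theorem lift {L K : Type*} [Group L] [Group K] {π : L →* K} (hk : Lift.Ker3 π) (hs : Function.Surjective π)
    {D : Subgroup K} (h8 : E8 D) : ∃ s : K → L, (∀ d ∈ D, s d * s d = 1) ∧ (∀ d ∈ D, π (s d) = d) ∧
      ∀ d ∈ D, ∀ e ∈ D, s (d * e) = s d * s e := by
  classical
  have h1 : ∀ d : K, ∃ x : L, d ∈ D → x * x = 1 ∧ π x = d := by
    intro d
    by_cases hd : d ∈ D
    · obtain ⟨x, hx⟩ := Lift.exists_lift hk hs (h8.inv d hd)
      exact ⟨x, fun _ => hx⟩
    · exact ⟨1, fun h => absurd h hd⟩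
  choose s hs' using h1
  refine ⟨s, fun d hd => (hs' d hd).1, fun d hd => (hs' d hd).2, fun d hd e he => ?_⟩
  obtain ⟨a1, a2⟩ := hs' d hd
  obtain ⟨b1, b2⟩ := hs' e he
  obtain ⟨c1, c2⟩ := hs' (d * e) (mul_mem hd he)
  have hz : π (s d * s e * (s d * s e)) = 1 := by
    rw [map_mul, map_mul, a2, b2]
    exact h8.inv _ (mul_mem hd he)
  obtain ⟨z1, z2⟩ := hk _ hz
  have h3 : s d * (s d * s e * (s d * s e)) = s d * s e * (s d * s e) * s d := z1 (s d)
  have h4 : s d * s e * (s d * s e) = s e * s d * (s e * s d) := by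
    have h5 : s d * (s d * (s d * s e * (s d * s e))) = s d * (s d * s e * (s d * s e) * s d) := by rw [h3]
    rw [← mul_assoc, a1, one_mul] at h5
    rw [h5, show s d * (s d * s e * (s d * s e) * s d) = (s d * s d) * s e * (s d * s e) * s d by group, a1, one_mul]
    group
  have h5 : s d * s e * (s d * s e) * (s d * s e * (s d * s e)) = 1 := by
    nth_rewrite 2 [h4]
    calc s d * s e * (s d * s e) * (s e * s d * (s e * s d)) = s d * s e * s d * (s e * s e) * s d * s e * s d := by group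
      _ = s d * s e * (s d * s d) * s e * s d := by rw [b1]; group
      _ = s d * (s e * s e) * s d := by rw [a1]; group
      _ = 1 := by rw [b1, mul_one, a1]
  exact Lift.unique hk c1 (Lift.eq_one_of hk hz h5) (by rw [map_mul, a2, b2, c2])

open Cfsg.Agent.ChevalleyStructure.E6Min.Tables Cfsg.Agent.ChevalleyStructure.E6Min.Basic
  Cfsg.Agent.ChevalleyStructure.E6Min.Adjoint

theorem eq_zero_of_rank {F ι : Type*} [Field F] [Fintype ι] [DecidableEq ι] {A : Matrix ι ι F} (h : A.rank = 0) :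
    A = 0 := by
  have h1 : LinearMap.range A.mulVecLin = ⊥ := Submodule.finrank_eq_zero.1 h
  have h2 : A.mulVecLin = 0 := LinearMap.range_eq_bot.1 h1
  ext i j
  have h3 := congrFun (LinearMap.congr_fun h2 (Pi.single j 1)) i
  rw [Matrix.mulVecLin_apply, Matrix.mulVec_single_one] at h3
  exact h3

variable {F : Type} [Field F] [Fintype F]

theorem rank_conj {x g : Matrix.GeneralLinearGroup I27 F} :
    (((x * g * x⁻¹ : Matrix.GeneralLinearGroup I27 F) : Matrix I27 I27 F) - 1).rank = ((g : Matrix I27 I27 F) - 1).rank := by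
  have h4 : ((x * g * x⁻¹ : Matrix.GeneralLinearGroup I27 F) : Matrix I27 I27 F) - 1 =
      (x : Matrix I27 I27 F) * (((g : Matrix I27 I27 F) - 1) *
          ((x⁻¹ : Matrix.GeneralLinearGroup I27 F) : Matrix I27 I27 F)) := by
    rw [Matrix.sub_mul, Matrix.mul_sub, one_mul, ← Units.val_mul x, mul_inv_cancel, Units.val_one,
      ← Units.val_mul, ← Units.val_mul, ← mul_assoc]
  have hd : ∀ x : Matrix.GeneralLinearGroup I27 F, IsUnit (x : Matrix I27 I27 F).det := fun x =>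
    (Matrix.isUnit_iff_isUnit_det _).1 x.isUnit
  rw [h4, Matrix.rank_mul_eq_right_of_isUnit_det _ _ (hd _), Matrix.rank_mul_eq_left_of_isUnit_det _ _ (hd _)]

/-- **the involutions of a `2^3` with a `7`: rank 12 on the 27-dimensional module** -/
theorem rank_twelve (ho : Odd (Fintype.card F)) {D : Subgroup ↥(chevE6.group F)} (h8 : E8 D) {y : ↥(chevE6.group F)}
    (hy : Seven D y) : ∀ t ∈ D, t ≠ 1 → ∃ g : Zgrp F, g * g = 1 ∧ ad F g = t ∧
      (((g : Matrix.GeneralLinearGroup I27 F) : Matrix I27 I27 F) - 1).rank = 12 := by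
  have h2 := H351.SpSix.two_ne_zero_of_odd ho
  obtain ⟨s, s1, s2, s3⟩ := lift (RowE6.ker3 F) ad_surjective h8
  let ψ : Zgrp F →* Matrix.GeneralLinearGroup I27 F := (Zgrp F).subtype
  have hsub : ∀ g : Zgrp F, ψ g = (g : Matrix.GeneralLinearGroup I27 F) := fun _ => rfl
  have hne : ∀ d ∈ D, d ≠ 1 → (((s d : Zgrp F) : Matrix.GeneralLinearGroup I27 F) : Matrix I27 I27 F) - 1 ≠ 0 := by
    intro d hd hd1 h
    apply hd1
    rw [← s2 d hd]
    have h3 : s d = 1 := Subtype.ext (Units.ext (sub_eq_zero.1 h))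
    rw [h3, map_one]
  have hr : ∀ d ∈ D, d ≠ 1 → ((((s d : Zgrp F) : Matrix.GeneralLinearGroup I27 F) : Matrix I27 I27 F) - 1).rank = 12 ∨
      ((((s d : Zgrp F) : Matrix.GeneralLinearGroup I27 F) : Matrix I27 I27 F) - 1).rank = 16 := by
    intro d hd hd1
    rcases E6Inv.rank_inv ho h2 (s1 d hd) with h | h
    · exact absurd (eq_zero_of_rank h) (hne d hd hd1)
    · exact h
  have hcon : ∀ d ∈ D, d ≠ 1 → ∀ e ∈ D, e ≠ 1 →
      ((((s e : Zgrp F) : Matrix.GeneralLinearGroup I27 F) : Matrix I27 I27 F) - 1).rank =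
      ((((s d : Zgrp F) : Matrix.GeneralLinearGroup I27 F) : Matrix I27 I27 F) - 1).rank := by
    intro d hd hd1 e he he1
    obtain ⟨k, hk⟩ := hy.trans d hd hd1 e he he1
    obtain ⟨Y, hY⟩ := ad_surjective (y ^ k)
    have h3 : s e = Y * s d * Y⁻¹ := by
      refine Lift.unique (RowE6.ker3 F) (s1 e he) ?_ ?_
      · rw [show Y * s d * Y⁻¹ * (Y * s d * Y⁻¹) = Y * (s d * s d) * Y⁻¹ by group, s1 d hd, mul_one, mul_inv_cancel]
      · rw [map_mul, map_mul, map_inv, hY, s2 d hd, s2 e he, hk]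
    rw [h3]
    exact rank_conj
  intro t ht ht1
  refine ⟨s t, s1 t ht, s2 t ht, ?_⟩
  rcases hr t ht ht1 with h | h
  · exact h
  exfalso
  have h16 : ∀ d ∈ D, d ≠ 1 → Module.finrank F ↥(ker (rep ψ (s d) + 1)) = 16 := by
    intro d hd hd1
    rw [finrank_m h2 ψ (s1 d hd), ← h]
    exact hcon t ht ht1 d hd hd1
  obtain ⟨a, ha, b, hb, c, hc, ha1, hb1, hc1, hab, hac, hbc, habc⟩ := exists_gen h8
  have hcomm : ∀ d ∈ D, ∀ e ∈ D, s d * s e = s e * s d := by
    intro d hd e he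
    have h3 := s1 (d * e) (mul_mem hd he)
    rw [s3 d hd e he] at h3
    calc s d * s e = s d * s e * ((s e * s e) * (s d * s d))⁻¹ := by rw [s1 d hd, s1 e he]; group
      _ = (s d * s e) * ((s d)⁻¹ * (s d)⁻¹ * (s e)⁻¹ * (s e)⁻¹) := by group
      _ = (s d * s e * (s d * s e)) * ((s e)⁻¹ * (s d)⁻¹ * (s d)⁻¹ * (s d)⁻¹ * (s e)⁻¹ * (s e)⁻¹) := by group
      _ = _ := by
        have e1 : (s d)⁻¹ = s d := inv_eq_of_mul_eq_one_left (s1 d hd)
        have e2 : (s e)⁻¹ = s e := inv_eq_of_mul_eq_one_left (s1 e he)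
        rw [h3, e1, e2, one_mul, mul_assoc (s e) (s d), s1 d hd, mul_one, mul_assoc (s e * s d), s1 e he, mul_one]
  have hinv : ∀ d ∈ D, ∀ v, rep ψ (s d) (rep ψ (s d) v) = v := by
    intro d hd v
    rw [← Module.End.mul_apply, ← map_mul, s1 d hd, map_one, Module.End.one_apply]
  have hcm : ∀ d ∈ D, ∀ e ∈ D, ∀ v, rep ψ (s d) (rep ψ (s e) v) = rep ψ (s e) (rep ψ (s d) v) := by
    intro d hd e he v
    rw [← Module.End.mul_apply, ← map_mul, hcomm d hd e he, map_mul, Module.End.mul_apply]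
  refine no_sixteen (k := F) (V := I27 → F) h2 (RowE6.finrank_27 F) (hinv a ha) (hinv b hb) (hinv c hc)
    (hcm a ha b hb) (hcm a ha c hc) (hcm b hb c hc) (h16 a ha ha1) (h16 b hb hb1) (h16 c hc hc1) ?_ ?_ ?_ ?_
  · rw [← map_mul, ← s3 a ha c hc]; exact h16 _ (mul_mem ha hc) hac
  · rw [← map_mul, ← s3 b hb c hc]; exact h16 _ (mul_mem hb hc) hbc
  · rw [← map_mul, ← s3 a ha b hb]; exact h16 _ (mul_mem ha hb) hab
  · rw [← map_mul, ← map_mul, ← s3 a ha b hb, ← s3 _ (mul_mem ha hb) c hc]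
    exact h16 _ (mul_mem (mul_mem ha hb) hc) habc

end Gp

/-! ### diagonal involutions on the 27-dimensional module -/

section E6M

open Matrix
open Cfsg.Agent.ChevalleyStructure.E6Min Cfsg.Agent.ChevalleyStructure.E6Min.Tables
  Cfsg.Agent.ChevalleyStructure.E6Min.Basic Cfsg.Agent.ChevalleyStructure.E6Min.Forms
  Cfsg.Agent.ChevalleyStructure.E6Min.Inv Cfsg.Agent.ChevalleyStructure.E6Min.Elim
  Cfsg.Agent.ChevalleyStructure.E6Min.Torus Cfsg.Agent.ChevalleyStructure.E6Min.Adjoint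
open Cfsg.Agent.H318.Four Cfsg.Agent.H318.Four.E6Inv

variable {F : Type} [Field F]

/-- the signs of a diagonal involution on the 27-dimensional module -/
theorem exists_n (h2 : (2 : F) ≠ 0) {g : Matrix.GeneralLinearGroup I27 F} (hg : g ∈ Zgrp F) (hgg : g * g = 1)
    (hc : ∀ i < 6, (g : Matrix I27 I27 F) * Hm F i = Hm F i * (g : Matrix I27 I27 F)) :
    ∃ n < 64, (g : Matrix I27 I27 F) = Matrix.diagonal (fun x => sb F ((Xr n 6).testBit (code x))) ∧
      ((g : Matrix I27 I27 F) - 1).rank = cnt (Xr n 6) 27 := by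
  classical
  obtain ⟨d, hd⟩ : ∃ d : I27 → F, ∀ x, d x = (g : Matrix I27 I27 F) x x := ⟨_, fun _ => rfl⟩
  have hgd : (g : Matrix I27 I27 F) = Matrix.diagonal d := by
    ext x y
    by_cases hxy : x = y
    · subst hxy; rw [Matrix.diagonal_apply_eq, hd]
    · rw [Matrix.diagonal_apply_ne _ hxy]; exact diag_of_comm h2 hc hxy
  have he : ∀ x, (g : Matrix I27 I27 F) *ᵥ e F x = d x • e F x := by
    intro x
    rw [hgd]
    funext y
    rw [Matrix.mulVec_diagonal, e_apply, Pi.smul_apply, e_apply]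
    by_cases h : y = x
    · rw [if_pos h, h, smul_eq_mul]
    · rw [if_neg h, mul_zero, smul_zero]
  have hdd : ∀ x, d x * d x = 1 := by
    intro x
    have h1 := congrArg (fun g : Matrix.GeneralLinearGroup I27 F => (g : Matrix I27 I27 F) x x) hgg
    simp only [Units.val_mul, Units.val_one, hgd, Matrix.diagonal_mul_diagonal, Matrix.diagonal_apply_eq,
      Matrix.one_apply_eq] at h1
    exact h1
  obtain ⟨n, hn, hs⟩ := exists_signs hdd fun m k h => diag_rel (Zgrp_le F hg) he h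
  have hgd' : (g : Matrix I27 I27 F) = Matrix.diagonal (fun x => sb F ((Xr n 6).testBit (code x))) := by
    rw [hgd]; congr 1; funext x; exact hs x
  refine ⟨n, hn, hgd', ?_⟩
  have hmat : (g : Matrix I27 I27 F) - 1 =
      Matrix.diagonal (fun x => if (Xr n 6).testBit (code x) then (-2 : F) else 0) := by
    rw [hgd', ← Matrix.diagonal_one, Matrix.diagonal_sub]
    congr 1
    funext x
    cases (Xr n 6).testBit (code x)
    · simp [sb]
    · simp only [sb, if_true]; ring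
  rw [hmat, Matrix.rank_diagonal, E6Inv.cnt_eq, Fintype.card_subtype]
  symm
  refine Finset.card_bij (fun s _ => dec s) ?_ ?_ ?_
  · intro s hs
    rw [Finset.mem_filter, Finset.mem_range] at hs
    rw [Finset.mem_filter]
    refine ⟨Finset.mem_univ _, ?_⟩
    rw [code_dec hs.1, if_pos hs.2]
    exact neg_ne_zero.2 h2
  · intro s hs s' hs' h
    rw [Finset.mem_filter, Finset.mem_range] at hs hs'
    rw [← code_dec hs.1, ← code_dec hs'.1, h]
  · intro x hx
    rw [Finset.mem_filter] at hx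
    refine ⟨code x, ?_, dec_code x⟩
    rw [Finset.mem_filter, Finset.mem_range]
    refine ⟨code_lt x, ?_⟩
    by_contra h4
    exact hx.2 (if_neg h4)

/-- the value of a root on a diagonal element of the group on the 27-dimensional module -/
theorem root_val {g : Zgrp F} {n : ℕ} (hg : ((g : Matrix.GeneralLinearGroup I27 F) : Matrix I27 I27 F) =
      Matrix.diagonal (fun x => sb F ((Xr n 6).testBit (code x)))) {c : chevE6.Idx → F}
    (hc : ((ad F g : ↥(chevE6.group F)) : Matrix.GeneralLinearGroup chevE6.Idx F).val = Matrix.diagonal c)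
    {r : ℕ} (hr : r < 72) :
    c (Sum.inr ⟨r, hr⟩) = sb F ((Xr n 6).testBit (rowN r) ^^ (Xr n 6).testBit (srN r (rowN r))) := by
  have h1 := (P_def _ _).1 (ad_P g) (Sum.inr ⟨r, hr⟩)
  rw [B_inr, hc, comb_def, Finset.sum_eq_single (Sum.inr ⟨r, hr⟩)] at h1
  · rw [B_inr, Matrix.diagonal_apply_eq, hg] at h1
    obtain ⟨h2, h3, -⟩ := row_spec hr
    have h4 := congrFun (congrFun h1 (_root_.Cfsg.Agent.ChevalleyStructure.E6Min.Adjoint.row r)) (sr r (_root_.Cfsg.Agent.ChevalleyStructure.E6Min.Adjoint.row r))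
    rw [Matrix.diagonal_mul, Matrix.smul_mul, Matrix.smul_apply, Matrix.mul_diagonal, Nm_apply, if_pos rfl] at h4
    have h5 := allLt_spec row_all r hr
    simp only [Bool.and_eq_true, Nat.blt_eq] at h5
    have e1 : code (_root_.Cfsg.Agent.ChevalleyStructure.E6Min.Adjoint.row r) = rowN r := code_dec h5.1.1.1
    have e2 : code (sr r (_root_.Cfsg.Agent.ChevalleyStructure.E6Min.Adjoint.row r)) = srN r (rowN r) := by rw [code_sr hr, e1]
    have h6 := sg_sq r (_root_.Cfsg.Agent.ChevalleyStructure.E6Min.Adjoint.row r) h2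
    have h7 : (((sg r (_root_.Cfsg.Agent.ChevalleyStructure.E6Min.Adjoint.row r) : ℤ) : F)) * ((sg r (_root_.Cfsg.Agent.ChevalleyStructure.E6Min.Adjoint.row r) : ℤ) : F) = 1 := by
      rw [← Int.cast_mul, h6, Int.cast_one]
    have h8 := E6Inv.sb_self (F := F) ((Xr n 6).testBit (code (sr r (_root_.Cfsg.Agent.ChevalleyStructure.E6Min.Adjoint.row r))))
    rw [e2] at h8
    rw [e1, e2, smul_eq_mul] at h4
    rw [← E6Inv.sb_mul]
    linear_combination (-c (Sum.inr ⟨r, hr⟩)) * h8 + (-c (Sum.inr ⟨r, hr⟩) * sb F ((Xr n 6).testBit (srN r (rowN r))) * sb F ((Xr n 6).testBit (srN r (rowN r))) + sb F ((Xr n 6).testBit (rowN r)) * sb F ((Xr n 6).testBit (srN r (rowN r)))) * h7 - (((sg r (_root_.Cfsg.Agent.ChevalleyStructure.E6Min.Adjoint.row r) : ℤ) : F)) * sb F ((Xr n 6).testBit (srN r (rowN r))) * h4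
  · intro row' _ hrow
    rw [Matrix.diagonal_apply_ne _ hrow, zero_smul]
  · intro h; exact absurd (Finset.mem_univ _) h

def bt (n j : ℕ) : Bool := (Xr n 6).testBit (rowN (chevE6.simple j)) ^^
  (Xr n 6).testBit (srN (chevE6.simple j) (rowN (chevE6.simple j)))

theorem simple_lt : ∀ j < 6, chevE6.simple j < 72 := by decide +kernel

theorem diag_data (h2 : (2 : F) ≠ 0) {g : Zgrp F} (hgg : g * g = 1)
    (hrk : (((g : Matrix.GeneralLinearGroup I27 F) : Matrix I27 I27 F) - 1).rank = 12) {c : chevE6.Idx → F}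
    (hc : ((ad F g : ↥(chevE6.group F)) : Matrix.GeneralLinearGroup chevE6.Idx F).val = Matrix.diagonal c)
    (h0 : ∀ i, c (Sum.inl i) = 1) :
    ∃ n < 64, cnt (Xr n 6) 27 = 12 ∧ ∀ j < 6, ∀ hr : chevE6.simple j < chevE6.nroots, c (Sum.inr ⟨chevE6.simple j, hr⟩) = sb F (bt n j) := by
  classical
  have hcomm : ∀ i < 6, ((g : GL I27 F) : Matrix I27 I27 F) * Hm F i = Hm F i * ((g : GL I27 F) : Matrix I27 I27 F) := by
    intro i hi
    have h1 := (P_def _ _).1 (ad_P g) (Sum.inl ⟨i, hi⟩)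
    rw [B_inl, hc, comb_def, Finset.sum_eq_single (Sum.inl ⟨i, hi⟩)] at h1
    · rw [h1, B_inl, Matrix.diagonal_apply_eq, h0, one_smul]
    · intro row _ hrow
      rw [Matrix.diagonal_apply_ne _ hrow, zero_smul]
    · intro h; exact absurd (Finset.mem_univ _) h
  obtain ⟨n, hn, hd, hr⟩ := exists_n h2 g.2 (congrArg Subtype.val hgg) hcomm
  refine ⟨n, hn, by rw [← hr]; exact hrk, fun j hj hr' => ?_⟩
  exact root_val hd hc (simple_lt j hj)

end E6M

/-! ### the class of the involutions of rank 12 -/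

section Cls

open CoxeterSystem Cfsg.Lie.ChevalleyDatum
open Cfsg.Agent.ChevalleyStructure Cfsg.Agent.ChevalleyStructure.Elts Cfsg.Agent.ChevalleyStructure.CoxeterGeom
  Cfsg.Agent.ChevalleyStructure.CoxeterGeomTypes Cfsg.Agent.ChevalleyStructure.NPerm
open Cfsg.Agent.Tits.Roots Cfsg.Agent.Tits.Core Cfsg.Agent.Nodes.Reps Cfsg.Agent.Nodes.BNOf
  Cfsg.Agent.Nodes.RGDChev Cfsg.Agent.Nodes.Bruhat
open Cfsg.Agent.KFacts.RgdField Cfsg.Agent.KFacts.RgdChevCoord
open Cfsg.Agent.BpExc.TowChev (LocFin)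
open Cfsg.Agent.Nodes.RGDFoldSL
open Cfsg.Agent.H167.EX Cfsg.Agent.H129.TorusChar
open Cfsg.Agent.H720.TwFr (hp6)
open Cfsg.Agent.ChevalleyStructure.E6Min.Tables Cfsg.Agent.ChevalleyStructure.E6Min.Adjoint
  Cfsg.Agent.ChevalleyStructure.E6Min.Inv Cfsg.Agent.ChevalleyStructure.E6Min.Torus
open Cfsg.Agent.H318.Four.E6Inv (Xr cnt sb exists_signs diag_of_comm)

/-- `t` is a classical involution of `D.group k` -/
def IsCl {D : ChevalleyDatum} {l : ℕ} {M : CoxeterMatrix (Fin l)} (hp : IsType D l M) {k : Type*} [Field k]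
    (t : ↥(D.group k)) : Prop :=
  ∃ (s : ℕ) (hs : s < D.nroots) (x : ↥(D.group k)), t = x * zz hp (k := k) hs * x⁻¹


def chk6 : Bool := (List.range 64).all fun n => !(_root_.Cfsg.Agent.H318.Four.E6Inv.cnt (Xr n 6) 27 == 12) || (List.range 72).any fun s =>
  (List.range 6).all fun j => bt n j == decide (HMatDiagAll.expo chevE6 s (chevE6.simple j) % 2 ≠ 0)

theorem chk6_ok : chk6 = true := by (delta Cfsg.Agent.ChevalleyStructure.HMatDiagAll.expo Cfsg.Agent.H836.KKL.chk6; rewrite [Cfsg.Agent.ChevFast.E6.chainEntry, Cfsg.Agent.ChevFast.E6.neg]; decide +kernel)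

theorem chk6_spec {n : ℕ} (hn : n < 64) (h : _root_.Cfsg.Agent.H318.Four.E6Inv.cnt (Xr n 6) 27 = 12) : ∃ s < 72, ∀ j < 6,
    bt n j = decide (HMatDiagAll.expo chevE6 s (chevE6.simple j) % 2 ≠ 0) := by
  have h1 := List.all_eq_true.1 chk6_ok n (List.mem_range.2 hn)
  rw [h] at h1
  simp only [beq_self_eq_true, Bool.not_true, Bool.false_or] at h1
  obtain ⟨s, hs, h2⟩ := List.any_eq_true.1 h1
  refine ⟨s, List.mem_range.1 hs, fun j hj => ?_⟩
  exact beq_iff_eq.1 (List.all_eq_true.1 h2 j (List.mem_range.2 hj))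

variable {F : Type} [Field F]

theorem cls [Fintype F] (ho : Odd (Fintype.card F)) {t : ↥(chevE6.group F)} (htt : t * t = 1) {g : E6Min.Basic.Zgrp F}
    (hgg : g * g = 1) (hgt : ad F g = t)
    (hrk : (((g : Matrix.GeneralLinearGroup I27 F) : Matrix I27 I27 F) - 1).rank = 12) : IsCl hp6 t := by
  classical
  have h2 := H351.SpSix.two_ne_zero_of_odd ho
  obtain ⟨p, hpp, hpc, -⟩ := H557.ToralTypes.exists_char F ho
  have : Fact p.Prime := ⟨hpp⟩
  have hk : LocFin F := fun S _ => ⟨⊤, inferInstance, fun x _ => Subfield.mem_top x⟩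
  obtain ⟨y, hy⟩ := H318.Four.E6Tor.toral_E6 F ho htt
  obtain ⟨Y, rfl⟩ := ad_surjective y
  obtain ⟨g', hg'⟩ : ∃ g' : E6Min.Basic.Zgrp F, g' = Y * g * Y⁻¹ := ⟨_, rfl⟩
  have ht' : ad F g' = ad F Y * t * (ad F Y)⁻¹ := by rw [hg', map_mul, map_mul, map_inv, hgt]
  have hTT : ad F g' ∈ TT chevE6 F := by rw [ht']; exact hy
  have hss : g' * g' = 1 := by
    rw [hg', show (Y * g * Y⁻¹) * (Y * g * Y⁻¹) = Y * (g * g) * Y⁻¹ by group, hgg, mul_one, mul_inv_cancel]
  have hrk' : (((g' : Matrix.GeneralLinearGroup I27 F) : Matrix I27 I27 F) - 1).rank = 12 := by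
    rw [hg', ← hrk]; exact rank_conj
  obtain ⟨n, hn, hcnt, hj⟩ := diag_data h2 hss hrk' (H83.RootCount.coe_eq_diagonal hp6 hTT) fun _ => rfl
  obtain ⟨s, hs, hsj⟩ := chk6_spec hn hcnt
  have hs' : s < chevE6.nroots := hs
  have key : ad F g' = zz hp6 (k := F) hs' := by
    refine cX_inj hp6 hTT (zz_mem hp6 hs') fun i => ?_
    have e1 : cX hp6 (ad F g') (sr i) = H318.Four.E6Inv.sb F (bt n i) := by
      rw [← hj i i.2 (simple_lt i i.2), Sum.elim_inr, vec_simple hp6 i]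
    rw [e1, ← vec_simple hp6 i, cX_vec hp6 (zz_mem hp6 hs') (simple_lt i i.2), zz,
      ch_ph_hS hp6 hs' p hk (neg_ne_zero.2 one_ne_zero) (simple_lt i i.2), hsj i i.2]
    by_cases hpar : HMatDiagAll.expo chevE6 s (chevE6.simple i) % 2 = 0
    · rw [Even.neg_one_zpow (Int.even_iff.2 hpar), decide_eq_false (not_not.2 hpar)]
      rfl
    · rw [Odd.neg_one_zpow (Int.odd_iff.2 (by omega)), decide_eq_true hpar]
      rfl
  refine ⟨s, hs', (ad F Y)⁻¹, ?_⟩
  rw [← key, ht']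
  group

theorem forty_tab : ((List.range 72).all fun s => ((List.range 72).filter fun r =>
    decide (HMatDiagAll.expo chevE6 s r % 2 ≠ 0)).length == 40) = true := by (delta Cfsg.Agent.ChevalleyStructure.HMatDiagAll.expo; rewrite [Cfsg.Agent.ChevFast.E6.chainEntry, Cfsg.Agent.ChevFast.E6.neg]; decide +kernel)

theorem forty {s : ℕ} (hs : s < 72) :
    ((Finset.range 72).filter fun r => HMatDiagAll.expo chevE6 s r % 2 ≠ 0).card = 40 := by
  have h1 := List.all_eq_true.1 forty_tab s (List.mem_range.2 hs)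
  rw [beq_iff_eq] at h1
  rw [← h1]
  rfl

theorem rank_zz [Fintype F] (ho : Odd (Fintype.card F)) {s : ℕ} (hs : s < chevE6.nroots) :
    (((zz hp6 (k := F) hs : Matrix.GeneralLinearGroup chevE6.Idx F) : Matrix chevE6.Idx chevE6.Idx F) - 1).rank =
      40 := by
  classical
  have h2 := H351.SpSix.two_ne_zero_of_odd ho
  obtain ⟨p, hpp, hpc, -⟩ := H557.ToralTypes.exists_char F ho
  have : Fact p.Prime := ⟨hpp⟩
  have hk : LocFin F := fun S _ => ⟨⊤, inferInstance, fun x _ => Subfield.mem_top x⟩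
  rw [H83.RootCount.rank_sub_one hp6 (zz_mem hp6 hs), ← forty hs]
  have e : ∀ r : Fin chevE6.nroots, cX hp6 (zz hp6 (k := F) hs) (vec chevE6 6 r) ≠ 1 ↔
      HMatDiagAll.expo chevE6 s r % 2 ≠ 0 := by
    intro r
    rw [cX_vec hp6 (zz_mem hp6 hs) r.2, zz, ch_ph_hS hp6 hs p hk (neg_ne_zero.2 one_ne_zero) r.2]
    by_cases hpar : HMatDiagAll.expo chevE6 s r % 2 = 0
    · rw [Even.neg_one_zpow (Int.even_iff.2 hpar)]
      exact ⟨fun h => absurd rfl h, fun h => absurd hpar h⟩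
    · rw [Odd.neg_one_zpow (Int.odd_iff.2 (by omega))]
      refine ⟨fun _ => hpar, fun _ h => h2 ?_⟩
      linear_combination -h
  rw [Nat.card_congr (Equiv.subtypeEquivRight e), Nat.card_eq_fintype_card, Fintype.card_subtype]
  refine Finset.card_bij (fun r _ => (r : ℕ)) ?_ ?_ ?_
  · intro r hr
    rw [Finset.mem_filter] at hr ⊢
    exact ⟨Finset.mem_range.2 r.2, hr.2⟩
  · intro r _ r' _ h
    exact Fin.ext h
  · intro r hr
    rw [Finset.mem_filter, Finset.mem_range] at hr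
    exact ⟨⟨r, hr.1⟩, by rw [Finset.mem_filter]; exact ⟨Finset.mem_univ _, hr.2⟩, rfl⟩

/-- a conjugate of `zz` has rank `40` on the module of dimension `78` -/
theorem rank_cl [Fintype F] (ho : Odd (Fintype.card F)) {t : ↥(chevE6.group F)} (ht : IsCl hp6 t) :
    (((t : Matrix.GeneralLinearGroup chevE6.Idx F) : Matrix chevE6.Idx chevE6.Idx F) - 1).rank = 40 := by
  obtain ⟨s, hs, x, rfl⟩ := ht
  rw [← rank_zz ho hs]
  have h1 : (((x * zz hp6 (k := F) hs * x⁻¹ : ↥(chevE6.group F)) : Matrix.GeneralLinearGroup chevE6.Idx F) :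
      Matrix chevE6.Idx chevE6.Idx F) - 1 = ((x : Matrix.GeneralLinearGroup chevE6.Idx F) : Matrix _ _ F) *
      (((((zz hp6 (k := F) hs : ↥(chevE6.group F)) : Matrix.GeneralLinearGroup chevE6.Idx F) : Matrix _ _ F) - 1) *
        (((x⁻¹ : ↥(chevE6.group F)) : Matrix.GeneralLinearGroup chevE6.Idx F) : Matrix _ _ F)) := by
    rw [Matrix.sub_mul, Matrix.mul_sub, one_mul, ← Units.val_mul, ← Units.val_mul, ← Units.val_mul,
      ← Subgroup.coe_mul, ← Subgroup.coe_mul, ← Subgroup.coe_mul, mul_inv_cancel, ← mul_assoc]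
    rfl
  rw [h1, Matrix.rank_mul_eq_right_of_isUnit_det, Matrix.rank_mul_eq_left_of_isUnit_det]
  · exact (Matrix.isUnit_iff_isUnit_det _).1 (Units.isUnit _)
  · exact (Matrix.isUnit_iff_isUnit_det _).1 (Units.isUnit _)

end Cls

/-! ### the rows -/

section Rows
open Cfsg.Agent.H613.KKL
open Cfsg.Agent.H720.TwFr (hp6)

theorem core {K : Type} [Group K] [Finite K] {F : Type} [Field F] [Fintype F] (ho : Odd (Fintype.card F))
    (φ : K →* ↥(chevE6.group F)) (hφ : Function.Injective φ) {D : Subgroup K} {x : K} (hc : Cfg0 D x)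
    (J : K → Subgroup K) (hJ : ∀ t, IsCl hp6 (φ t) → CI t (J t))
    (hy : ∀ y t : K, IsCl hp6 (φ t) → ∀ g, y * g * y⁻¹ ∈ J (y * t * y⁻¹) ↔ g ∈ J t) : False := by
  classical
  have h2 := H351.SpSix.two_ne_zero_of_odd ho
  obtain ⟨y, hy7⟩ := hc.seven
  have h8 : E8 (D.map φ) := by
    refine ⟨?_, ?_⟩
    · rw [← hc.e8.card]
      exact Nat.card_congr (D.equivMapOfInjective φ hφ).symm.toEquiv
    · rintro _ ⟨d, hd, rfl⟩
      rw [← map_mul, hc.e8.inv d hd, map_one]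
  have h7 : Seven (D.map φ) (φ y) := by
    refine ⟨fun d => ⟨?_, ?_⟩, ?_, ?_⟩
    · rintro ⟨e, he, h3⟩
      refine ⟨y⁻¹ * e * y, ?_, ?_⟩
      · have h4 := (hy7.norm (y⁻¹ * e * y)).1 (by rw [show y * (y⁻¹ * e * y) * y⁻¹ = e by group]; exact he)
        exact h4
      · rw [map_mul, map_mul, map_inv, h3]; group
    · rintro ⟨e, he, rfl⟩
      exact ⟨y * e * y⁻¹, (hy7.norm e).2 he, by rw [map_mul, map_mul, map_inv]⟩
    · obtain ⟨m, hm⟩ := hy7.seven
      exact ⟨m, by rw [orderOf_injective φ hφ, hm]⟩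
    · rintro _ ⟨a, ha, rfl⟩ ha1 _ ⟨b, hb, rfl⟩ hb1
      obtain ⟨k, hk⟩ := hy7.trans a ha (fun h => ha1 (by rw [h, map_one])) b hb fun h => hb1 (by rw [h, map_one])
      exact ⟨k, by rw [← hk, map_mul, map_mul, map_inv, map_pow]⟩
  have hcl : ∀ t ∈ D, t ≠ 1 → IsCl hp6 (φ t) := by
    intro t ht ht1
    obtain ⟨g, g1, g2, g3⟩ := rank_twelve ho h8 h7 (φ t) ⟨t, ht, rfl⟩ fun h => ht1 (hφ (by rw [h, map_one]))
    exact cls ho (by rw [← map_mul, hc.e8.inv t ht, map_one]) g1 g2 g3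
  obtain ⟨a, ha, -, -, -, -, ha1, -⟩ := exists_gen hc.e8
  obtain ⟨-, -, h3⟩ := H40.KKL.X1 hc J (fun t ht ht1 => hJ t (hcl t ht ht1))
    (fun y t ht ht1 => hy y t (hcl t ht ht1)) h2 (rep ((chevE6.group F).subtype.comp φ))
  have h4 := h3 a ha ha1
  rw [finrank_m h2 _ (hc.e8.inv a ha)] at h4
  have h5 := rank_cl ho (hcl a ha ha1)
  have h6 : (((((chevE6.group F).subtype.comp φ) a : Matrix.GeneralLinearGroup chevE6.Idx F) :
      Matrix chevE6.Idx chevE6.Idx F) - 1).rank = 40 := h5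
  rw [h6] at h4
  omega

end Rows

end Cfsg.Agent.H836.KKL
end

-- part: H482/KKL/TwAct
section
/-!
# `²E₆(q)`, `q` odd: the centralizer of the classical involution acts on the fundamental `SL₂(q)` through `GL₂(q)` (S4546, X2b)

* `act_long` : the representatives of the Weyl group act on the long root groups by scalars;
* `cent_act` : every `c` commuting with `ζ = Q(-1)`, `Q : SL₂(q) → ²E₆(q)` of the long node `0`, acts on `Q` as an element of
  `GL₂(q)`.
-/

set_option autoImplicit false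
set_option linter.unusedSectionVars false
set_option maxHeartbeats 400000

namespace Cfsg.Agent.H482.KKL.TwE

open CoxeterSystem Cfsg.Agent.ChevalleyStructure.CoxeterGeom Cfsg.Agent.Tits.Roots Cfsg.Agent.Tits.Core
  Cfsg.Agent.Tits.RootComb Cfsg.Agent.Nodes.Comb Cfsg.Agent.Nodes.Reps Cfsg.Agent.Nodes.BNOf
  Cfsg.Agent.Nodes.RGDTwGen Cfsg.Agent.Nodes.RGDChev Cfsg.Agent.Nodes.RGDFold
  Cfsg.Agent.Nodes.RGDFoldSL Cfsg.Agent.Nodes.RGDTwE6 Cfsg.Agent.Nodes.RGDTwTab Cfsg.Agent.Nodes.RGDTwCoordE6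
  Cfsg.Agent.Nodes.RGDTwCoord Cfsg.Agent.Nodes.RGDTwComE6 Cfsg.Agent.Nodes.RGDTwActE6
  Cfsg.Agent.Nodes.RGDLib Cfsg.Agent.Nodes.SubComb Cfsg.Agent.Nodes.Sub Cfsg.Agent.Nodes.Bruhat
open Cfsg.Lie Cfsg.Agent.ChevalleyStructure
  Cfsg.Agent.ChevalleyStructure.TwistedU Cfsg.Agent.ChevalleyStructure.TwistedFix
open Cfsg.Agent.ChevalleyStructure.SL2Hom (up lo)
open Cfsg.Agent.KFacts.TwESix.Comb (bf rts mem_rts bf_rep rho rho_root bf_rho pairing_eq)
open Cfsg.Agent.Nodes.RGDTwNode.E6 (nodeOK eps_one rest)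
open Cfsg.Agent.UGT.U2.FOne Cfsg.Agent.UGT.U2.FOne.TwESix
open scoped commutatorElement MatrixGroups

universe u

local notation "cl" => Cfsg.Agent.Nodes.RGDTwCoord.cl chevE6 J O

variable {K : Type u} [Field K] [Fintype K] {q : ℕ} {φ : K →+* K} (hφ : ∀ x, φ x = x ^ q)
  (hqq : ∀ t : K, (t ^ q) ^ q = t) {W : Type*} [Group W] {cs : CoxeterSystem CoxeterMatrix.F₄ W} {z w : Fin 4 → ℤ}

set_option maxRecDepth 20000 in
theorem tab_lg : ∀ x ∈ rts, bf x x = 4 → Lg x := by decide +kernel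

theorem lg_of (hz : IsRoot cs isCartan z) (hl : bf z z = 4) : Lg z := tab_lg z ((mem_rts cs).1 hz) hl

include hφ hqq in
theorem act_aux (p : ℕ) [Fact p.Prime] [CharP K p] (v : W) : ∃ k, Rp cs (_root_.Cfsg.Agent.Nodes.RGDTwE6.rgd cs hφ hqq p).nsys v k ∧
    ∀ z, IsRoot cs isCartan z → bf z z = 4 → ∃ c : K, c ≠ 0 ∧ φ c = c ∧ ∀ a, φ a = a →
      k * _root_.Cfsg.Agent.Nodes.RGDTwComE6.x φ q z a * k⁻¹ = _root_.Cfsg.Agent.Nodes.RGDTwComE6.x φ q (rep cs isCartan v z) (c * a) := by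
  induction v using cs.simple_induction_left with
  | one =>
    refine ⟨1, rp_one, fun z hz hl => ⟨1, one_ne_zero, map_one φ, fun a ha => ?_⟩⟩
    rw [map_one, Module.End.one_apply, one_mul, inv_one, mul_one, one_mul]
  | mul_simple_left v i ih =>
    obtain ⟨k, hk, h⟩ := ih
    refine ⟨_root_.Cfsg.Agent.Nodes.RGDTwE6.nn hφ i * k, (rp_simple cs (_root_.Cfsg.Agent.Nodes.RGDTwE6.rgd cs hφ hqq p).nsys i).mul hk, fun z hz hl => ?_⟩
    obtain ⟨c, hc, hc', h1⟩ := h z hz hl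
    have hvz : IsRoot cs isCartan (rep cs isCartan v z) := hz.act v
    have hvl : bf (rep cs isCartan v z) (rep cs isCartan v z) = 4 := by rw [bf_rep, hl]
    have hLg := lg_of hvz hvl
    obtain ⟨η, h2, h3⟩ := conj_nn hφ hqq hvz i
    have hη : η ≠ 0 ∧ φ η = η := by
      rcases h2 with rfl | rfl
      · exact ⟨one_ne_zero, map_one φ⟩
      · exact ⟨neg_ne_zero.2 one_ne_zero, by rw [map_neg, map_one]⟩
    refine ⟨η * c, mul_ne_zero hη.1 hc, by rw [map_mul, hη.2, hc'], fun a ha => ?_⟩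
    have h4 := (h3 (c * a) (ok_long hvz hLg (by rw [map_mul, hc', ha]))).2
    rw [if_neg (fun h => not_both hLg h.1)] at h4
    calc _root_.Cfsg.Agent.Nodes.RGDTwE6.nn hφ i * k * _root_.Cfsg.Agent.Nodes.RGDTwComE6.x φ q z a * (_root_.Cfsg.Agent.Nodes.RGDTwE6.nn hφ i * k)⁻¹ = _root_.Cfsg.Agent.Nodes.RGDTwE6.nn hφ i * (k * _root_.Cfsg.Agent.Nodes.RGDTwComE6.x φ q z a * k⁻¹) * (_root_.Cfsg.Agent.Nodes.RGDTwE6.nn hφ i)⁻¹ := by group
      _ = _root_.Cfsg.Agent.Nodes.RGDTwComE6.x φ q (rep cs isCartan (cs.simple i) (rep cs isCartan v z)) (η * (c * a)) := by rw [h1 a ha, h4]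
      _ = _ := by rw [← rep_mul_apply, mul_assoc]

include hφ hqq in
/-- **The representatives act on the long root groups by scalars.** -/
theorem act_long (p : ℕ) [Fact p.Prime] [CharP K p] {v : W} {k : ↥(twistedE6 K q)}
    (hk : Rp cs (_root_.Cfsg.Agent.Nodes.RGDTwE6.rgd cs hφ hqq p).nsys v k) (hz : IsRoot cs isCartan z) (hl : bf z z = 4) :
    ∃ c : K, c ≠ 0 ∧ φ c = c ∧ ∀ a, φ a = a → k * _root_.Cfsg.Agent.Nodes.RGDTwComE6.x φ q z a * k⁻¹ = _root_.Cfsg.Agent.Nodes.RGDTwComE6.x φ q (rep cs isCartan v z) (c * a) := by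
  obtain ⟨k₀, hk₀, h⟩ := act_aux (cs := cs) hφ hqq p v
  obtain ⟨c, hc, hc', h1⟩ := h z hz hl
  have ht : k₀⁻¹ * k ∈ T K q := hk₀.unique hk
  obtain ⟨χ, h2, h3, h4⟩ := conj_T hφ hqq hz ht
  have hLg := lg_of hz hl
  have h3' : φ χ = χ := (ok_iff_long hz hLg).1 h3
  refine ⟨c * χ, mul_ne_zero hc h2, by rw [map_mul, hc', h3'], fun a ha => ?_⟩
  calc k * _root_.Cfsg.Agent.Nodes.RGDTwComE6.x φ q z a * k⁻¹ = k₀ * (k₀⁻¹ * k * _root_.Cfsg.Agent.Nodes.RGDTwComE6.x φ q z a * (k₀⁻¹ * k)⁻¹) * k₀⁻¹ := by group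
    _ = _root_.Cfsg.Agent.Nodes.RGDTwComE6.x φ q (rep cs isCartan v z) (c * (χ * a)) := by
      rw [h4 a (ok_long hz hLg ha), h1 (χ * a) (by rw [map_mul, h3', ha])]
    _ = _ := by rw [mul_assoc]

/-! ### The fundamental subgroup of the node `0` -/

theorem cl_zero : cl (sr 0) = [46] := by decide +kernel

theorem sr_long : bf (sr 0) (sr 0) = 4 := by decide +kernel

include hφ hqq in
theorem P_up (a : Fq φ) : P hφ hqq 0 (up a) = _root_.Cfsg.Agent.Nodes.RGDTwComE6.x φ q (sr 0) (a : K) := by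
  apply Subtype.ext
  have hr := isRoot_sr CoxeterMatrix.F₄.toCoxeterSystem isCartan (0 : Fin 4)
  have ha : φ (a : K) = (a : K) := a.2
  rw [coe_x hφ hqq hr (ok_long hr (lg_of hr sr_long) ha)]
  have h1 : ((P hφ hqq 0 (up a) : ↥(twistedE6 K q)) : GL chevE6.Idx K) =
      yv (Elts.xG hp.inList) φ (Cfsg.Agent.Nodes.RGDTwNode.E6.rep 0 :: rest 0) (a : K) :=
    coe_Phi_up (foldGrp hφ hqq) (nodeOK 0) (hf 0) a
  rw [h1]
  unfold Y
  rw [cl_zero]
  show yv (Elts.xG hp.inList) φ [46] (a : K) = yv (xs hp dl) φ [46] (a : K)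
  unfold yv xs
  have : ((dl 46 : ℤ) : K) = 1 := by
    have : dl 46 = 1 := by decide +kernel
    rw [this, Int.cast_one]
  rw [this, one_mul]
  rfl

theorem wS_up {F : Type*} [Field F] (a : F) : (wS 1 * up a * (wS 1)⁻¹ : SL(2, F)) = lo (-a) := by
  rw [mul_inv_eq_iff_eq_mul]
  apply Subtype.ext
  show ((wS 1 : SL(2, F)) : Matrix (Fin 2) (Fin 2) F) * !![1, a; 0, 1] =
    !![1, 0; -a, 1] * ((wS 1 : SL(2, F)) : Matrix (Fin 2) (Fin 2) F)
  rw [coe_wS one_ne_zero]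
  ext i j
  (revert i j; simp only [Matrix.mul_apply, Fin.sum_univ_two, _root_.Fin.forall_fin_succ, _root_.inv_one, _root_.Matrix.of_apply, _root_.Matrix.cons_val', _root_.Matrix.cons_val_fin_one, Fin.isValue, _root_.Matrix.cons_val_zero, _root_.Matrix.cons_val_one, _root_.mul_one, _root_.MulZeroClass.mul_zero, _root_.add_zero, _root_.mul_neg, _root_.zero_add, _root_.Matrix.cons_val_succ, _root_.forall_const, _root_.neg_zero, _root_.MulZeroClass.zero_mul, _root_.and_self, _root_.neg_mul, _root_.one_mul, _root_.implies_true])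

theorem neg_sr_root : IsRoot CoxeterMatrix.F₄.toCoxeterSystem isCartan (-sr (0 : Fin 4)) :=
  (isRoot_sr CoxeterMatrix.F₄.toCoxeterSystem isCartan (0 : Fin 4)).neg

theorem neg_sr_long : bf (-sr 0) (-sr 0) = 4 := by decide +kernel

include hφ hqq in
theorem P_lo : ∃ η : K, Sg η ∧ ∀ a : Fq φ, P hφ hqq 0 (lo a) = _root_.Cfsg.Agent.Nodes.RGDTwComE6.x φ q (-sr 0) (η * (a : K)) := by
  have hr := isRoot_sr CoxeterMatrix.F₄.toCoxeterSystem isCartan (0 : Fin 4)
  obtain ⟨η, h1, h2⟩ := conj_nn hφ hqq hr 0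
  refine ⟨η * (-1), h1.mul (Or.inr rfl), fun a => ?_⟩
  have hb : φ ((-a : Fq φ) : K) = ((-a : Fq φ) : K) := (-a).2
  have h3 := (h2 ((-a : Fq φ) : K) (ok_long hr (lg_of hr sr_long) hb)).2
  rw [if_neg (fun h => not_both (lg_of hr sr_long) h.1), rep_simple_sr, ← P_up hφ hqq, ← P_wS hφ hqq 0, ← map_inv,
    ← map_mul, ← map_mul, wS_up, neg_neg] at h3
  rw [h3]
  congr 1
  rw [Subfield.coe_neg]
  ring

end Cfsg.Agent.H482.KKL.TwE
end

-- part: H482/KKL/ActGL
section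
/-!
# Elements acting on a subgroup `SL₂(F)` through `GL₂(F)` (S4546, X2b)

* `NQ Q` : the subgroup of the elements acting on `Q : SL(2, F) →* Y` as an element of `GL₂(F)`;
* `NQ.scal` : elements acting by scalars on both root groups lie in `NQ Q`.
-/

set_option autoImplicit false
set_option linter.unusedSectionVars false
set_option maxHeartbeats 400000

namespace Cfsg.Agent.H482.KKL

open Cfsg.Agent.ChevalleyStructure
open Cfsg.Agent.ChevalleyStructure.SL2Hom (up lo)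
open scoped MatrixGroups

section Act

variable {F : Type*} [Field F] {Y : Type*} [Group Y]

/-- conjugation by an element of `GL₂` -/
def cgl (g : GL (Fin 2) F) (s : SL(2, F)) : SL(2, F) :=
  ⟨g.1 * s.1 * (g⁻¹ : GL (Fin 2) F).1, by
    have h : (g.1).det * ((g⁻¹ : GL (Fin 2) F).1).det = 1 := by
      rw [← Matrix.det_mul, ← Units.val_mul, mul_inv_cancel, Units.val_one, Matrix.det_one]
    rw [Matrix.det_mul, Matrix.det_mul, s.2, mul_one, h]⟩

theorem cgl_mul (g h : GL (Fin 2) F) (s : SL(2, F)) : cgl (g * h) s = cgl g (cgl h s) := by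
  apply Subtype.ext
  show (g * h).1 * s.1 * ((g * h)⁻¹).1 = g.1 * (h.1 * s.1 * (h⁻¹).1) * (g⁻¹).1
  rw [mul_inv_rev, Units.val_mul, Units.val_mul]
  simp only [mul_assoc]

theorem cgl_one (s : SL(2, F)) : cgl 1 s = s := by
  apply Subtype.ext
  show (1 : Matrix (Fin 2) (Fin 2) F) * s.1 * ((1 : GL (Fin 2) F)⁻¹).1 = s.1
  rw [inv_one, Units.val_one, one_mul, mul_one]

theorem cgl_coe (t s : SL(2, F)) : cgl (t : GL (Fin 2) F) s = t * s * t⁻¹ := by
  apply Subtype.ext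
  rfl

/-- the elements acting on `Q` through `GL₂` -/
def NQ (Q : SL(2, F) →* Y) : Subgroup Y where
  carrier := {c | ∃ g : GL (Fin 2) F, ∀ s, c * Q s * c⁻¹ = Q (cgl g s)}
  mul_mem' := by
    rintro a b ⟨g, hg⟩ ⟨h, hh⟩
    refine ⟨g * h, fun s => ?_⟩
    rw [cgl_mul, ← hg, ← hh]
    group
  one_mem' := ⟨1, fun s => by rw [cgl_one]; group⟩
  inv_mem' := by
    rintro a ⟨g, hg⟩
    refine ⟨g⁻¹, fun s => ?_⟩
    have h1 := hg (cgl g⁻¹ s)
    rw [← cgl_mul, mul_inv_cancel, cgl_one] at h1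
    rw [← h1]
    group

theorem NQ.range (Q : SL(2, F) →* Y) : Q.range ≤ NQ Q := by
  rintro _ ⟨t, rfl⟩
  refine ⟨(t : GL (Fin 2) F), fun s => ?_⟩
  rw [cgl_coe, map_mul, map_mul, map_inv]

theorem NQ.cent {Q : SL(2, F) →* Y} {c : Y} (h : ∀ s, c * Q s = Q s * c) : c ∈ NQ Q :=
  ⟨1, fun s => by rw [cgl_one, h, mul_inv_cancel_right]⟩

/-- `diag (a, 1)` -/
def dgl (a : Fˣ) : GL (Fin 2) F where
  val := !![(a : F), 0; 0, 1]
  inv := !![((a⁻¹ : Fˣ) : F), 0; 0, 1]
  val_inv := by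
    ext i j
    (revert i j; simp only [Matrix.mul_apply, Fin.sum_univ_two, _root_.Fin.forall_fin_succ, _root_.Units.val_inv_eq_inv_val, _root_.Matrix.of_apply, _root_.Matrix.cons_val', _root_.Matrix.cons_val_fin_one, Fin.isValue, _root_.Matrix.cons_val_zero, _root_.Matrix.cons_val_one, _root_.MulZeroClass.mul_zero, _root_.add_zero, _root_.Matrix.cons_val_succ, _root_.mul_one, _root_.zero_add, _root_.IsEmpty.forall_iff, _root_.and_true, _root_.ne_eq, _root_.Units.ne_zero, _root_.not_false_eq_true, _root_.mul_inv_cancel₀, _root_.Matrix.one_apply_eq, Nat.reduceAdd, _root_.Fin.succ_zero_eq_one, _root_.zero_ne_one, _root_.Matrix.one_apply_ne, _root_.and_self, _root_.MulZeroClass.zero_mul, _root_.Fin.succ_ne_zero, _root_.true_and])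
  inv_val := by
    ext i j
    (revert i j; simp only [Matrix.mul_apply, Fin.sum_univ_two, _root_.Fin.forall_fin_succ, _root_.Units.val_inv_eq_inv_val, _root_.Matrix.of_apply, _root_.Matrix.cons_val', _root_.Matrix.cons_val_fin_one, Fin.isValue, _root_.Matrix.cons_val_zero, _root_.Matrix.cons_val_one, _root_.MulZeroClass.mul_zero, _root_.add_zero, _root_.Matrix.cons_val_succ, _root_.mul_one, _root_.zero_add, _root_.IsEmpty.forall_iff, _root_.and_true, _root_.ne_eq, _root_.Units.ne_zero, _root_.not_false_eq_true, _root_.inv_mul_cancel₀, _root_.Matrix.one_apply_eq, Nat.reduceAdd, _root_.Fin.succ_zero_eq_one, _root_.zero_ne_one, _root_.Matrix.one_apply_ne, _root_.and_self, _root_.MulZeroClass.zero_mul, _root_.Fin.succ_ne_zero, _root_.true_and])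

theorem cgl_dgl_up (a : Fˣ) (r : F) : cgl (dgl a) (up r) = up (a * r) := by
  apply Subtype.ext
  show !![(a : F), 0; 0, 1] * !![1, r; 0, 1] * !![((a⁻¹ : Fˣ) : F), 0; 0, 1] = !![1, (a : F) * r; 0, 1]
  ext i j
  (revert i j; simp only [Matrix.mul_apply, Fin.sum_univ_two, _root_.Fin.forall_fin_succ, _root_.Matrix.cons_mul, _root_.Nat.succ_eq_add_one, Nat.reduceAdd, _root_.Matrix.vecMul_cons, _root_.Matrix.head_cons, _root_.Matrix.smul_cons, _root_.smul_eq_mul, _root_.mul_one, _root_.Matrix.smul_empty, _root_.Matrix.tail_cons, _root_.zero_smul, _root_.Matrix.empty_vecMul, _root_.add_zero, _root_.one_smul, _root_.zero_add, _root_.Matrix.empty_mul, _root_.Equiv.symm_apply_apply, _root_.Units.val_inv_eq_inv_val, _root_.Matrix.of_apply, _root_.Matrix.cons_val', _root_.Matrix.cons_val_fin_one, Fin.isValue, _root_.Matrix.cons_val_zero, _root_.Matrix.cons_val_one, _root_.MulZeroClass.mul_zero, _root_.Matrix.cons_val_succ, _root_.implies_true,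 _root_.and_true, _root_.ne_eq, _root_.Units.ne_zero, _root_.not_false_eq_true, _root_.mul_inv_cancel₀, _root_.MulZeroClass.zero_mul, _root_.and_self])

theorem cgl_dgl_lo (a : Fˣ) (r : F) : cgl (dgl a) (lo r) = lo ((a : F)⁻¹ * r) := by
  apply Subtype.ext
  show !![(a : F), 0; 0, 1] * !![1, 0; r, 1] * !![((a⁻¹ : Fˣ) : F), 0; 0, 1] = !![1, 0; (a : F)⁻¹ * r, 1]
  ext i j
  (revert i j; simp [Matrix.mul_apply, Fin.sum_univ_two, mul_comm, _root_.Fin.forall_fin_succ])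

theorem hom_ext2 {f g : SL(2, F) →* Y} (h1 : ∀ a, f (up a) = g (up a)) (h2 : ∀ a, f (lo a) = g (lo a)) : f = g := by
  have h3 : (⊤ : Subgroup SL(2, F)) ≤ MonoidHom.eqLocus f g := by
    intro s _
    have h4 := SL2Hom.mem_closure_SL2 s
    refine (Subgroup.closure_le _).2 ?_ h4
    rintro y (⟨t, rfl⟩ | ⟨t, rfl⟩)
    · exact h1 t
    · exact h2 t
  exact MonoidHom.ext fun s => h3 (Subgroup.mem_top s)

/-- conjugation by `g` as a homomorphism -/
def cglHom (g : GL (Fin 2) F) : SL(2, F) →* SL(2, F) := MonoidHom.mk' (cgl g) fun s t => by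
  apply Subtype.ext
  show g.1 * (s.1 * t.1) * (g⁻¹).1 = (g.1 * s.1 * (g⁻¹).1) * (g.1 * t.1 * (g⁻¹).1)
  have h : (g⁻¹ : GL (Fin 2) F).1 * g.1 = 1 := by rw [← Units.val_mul, inv_mul_cancel, Units.val_one]
  calc g.1 * (s.1 * t.1) * (g⁻¹).1 = g.1 * s.1 * (1 * t.1) * (g⁻¹).1 := by rw [one_mul]; simp only [mul_assoc]
    _ = g.1 * s.1 * ((g⁻¹).1 * g.1 * t.1) * (g⁻¹).1 := by rw [h]
    _ = _ := by simp only [mul_assoc]

theorem scal_inv (h2 : (2 : F) ≠ 0) {Q : SL(2, F) →* Y} (hQ : Function.Injective Q) {c : Y} {a b : F} (ha : a ≠ 0)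
    (h1 : ∀ r, c * Q (up r) * c⁻¹ = Q (up (a * r))) (h3 : ∀ r, c * Q (lo r) * c⁻¹ = Q (lo (b * r))) : b = a⁻¹ := by
  have hb : b ≠ 0 := by
    rintro rfl
    have e1 := h3 1
    have e0 : lo (0 : F) = 1 := by
      apply Subtype.ext
      show !![1, 0; 0, 1] = (1 : Matrix (Fin 2) (Fin 2) F)
      exact Matrix.one_fin_two.symm
    rw [zero_mul, e0, map_one, mul_inv_eq_one, mul_eq_left] at e1
    have e2 : lo (1 : F) = 1 := hQ (by rw [e1, map_one])
    have e3 := congrArg (fun s : SL(2, F) => s.1 1 0) e2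
    have e4 : (1 : F) = 0 := e3
    exact one_ne_zero e4
  -- the image of `w = up 1 * lo (-1) * up 1`, `w² = -1`
  have e1 : c * Q (up 1 * lo (-1) * up 1) * c⁻¹ = Q (up a * lo (-b) * up a) := by
    have h4 := h1 1
    have h5 := h3 (-1)
    rw [mul_one] at h4
    rw [mul_neg, mul_one] at h5
    rw [map_mul, map_mul, map_mul, map_mul, ← h4, ← h5]
    group
  have e2 : (up (1 : F) * lo (-1) * up 1) * (up 1 * lo (-1) * up 1) = -1 := by
    apply Subtype.ext
    show (!![1, 1; 0, 1] * !![1, 0; -1, 1] * !![1, 1; 0, 1]) * (!![1, 1; 0, 1] * !![1, 0; -1, 1] * !![1, 1; 0, 1]) =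
      ((-1 : SL(2, F)) : Matrix (Fin 2) (Fin 2) F)
    ext i j
    (revert i j; simp only [Matrix.mul_apply, Fin.sum_univ_two, _root_.Fin.forall_fin_succ, _root_.Matrix.cons_mul, _root_.Nat.succ_eq_add_one, Nat.reduceAdd, _root_.Matrix.vecMul_cons, _root_.Matrix.head_cons, _root_.one_smul, _root_.Matrix.tail_cons, _root_.Matrix.empty_vecMul, _root_.add_zero, _root_.Matrix.add_cons, _root_.add_neg_cancel, _root_.zero_add, _root_.Matrix.empty_add_empty, _root_.zero_smul, _root_.Matrix.empty_mul, _root_.Equiv.symm_apply_apply, _root_.neg_smul, _root_.Matrix.neg_cons, _root_.Matrix.neg_empty, _root_.neg_add_cancel, _root_.Matrix.of_apply, _root_.Matrix.cons_val', _root_.Matrix.cons_val_fin_one, Fin.isValue, _root_.Matrix.cons_val_zero, _root_.Matrix.cons_val_one, _root_.Matrix.SpecialLinearGroup.coe_neg, _root_.Matrix.SpecialLinearGroup.coe_one, _root_.Matrix.neg_apply, _root_.MulZeroClass.mul_zero, _root_.mul_neg, _root_.mul_one,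 _root_.neg_inj, _root_.Matrix.cons_val_succ, _root_.IsEmpty.forall_iff, _root_.and_true, _root_.Matrix.one_apply_eq, _root_.Fin.succ_zero_eq_one, _root_.ne_eq, _root_.zero_ne_one, _root_.not_false_eq_true, _root_.Matrix.one_apply_ne, _root_.neg_zero, _root_.and_self, _root_.Fin.succ_ne_zero, _root_.true_and])
  have e3 : ∀ s : SL(2, F), (-1 : SL(2, F)) * s = s * (-1) := fun s => by rw [neg_one_mul, mul_neg_one]
  obtain ⟨w, hw⟩ : ∃ w, w = (up (1 : F) * lo (-1) * up 1) := ⟨_, rfl⟩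
  obtain ⟨m, hm⟩ : ∃ m, m = (up a * lo (-b) * up a) := ⟨_, rfl⟩
  rw [← hw] at e1 e2
  rw [← hm] at e1
  have e4 : (m * m) * up 1 = up 1 * (m * m) := by
    apply hQ
    have h5 : Q (up 1) = c * Q (up (a⁻¹ * 1)) * c⁻¹ := by
      rw [h1, mul_inv_cancel_left₀ ha]
    rw [map_mul, map_mul Q (up 1), map_mul Q m, ← e1, h5]
    calc c * Q w * c⁻¹ * (c * Q w * c⁻¹) * (c * Q (up (a⁻¹ * 1)) * c⁻¹)
        = c * (Q w * Q w * Q (up (a⁻¹ * 1))) * c⁻¹ := by group
      _ = c * (Q (up (a⁻¹ * 1)) * (Q w * Q w)) * c⁻¹ := by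
          rw [← map_mul, ← map_mul, ← map_mul, e2, e3]
      _ = _ := by group
  have key : m.1 = !![1 - a * b, a + (1 - a * b) * a; -b, 1 - a * b] := by
    rw [hm]
    show !![1, a; 0, 1] * !![1, 0; -b, 1] * !![1, a; 0, 1] = _
    ext i j
    (revert i j; simp only [Matrix.mul_apply, Fin.sum_univ_two, _root_.Fin.forall_fin_succ, _root_.Matrix.cons_mul, _root_.Nat.succ_eq_add_one, Nat.reduceAdd, _root_.Matrix.vecMul_cons, _root_.Matrix.head_cons, _root_.one_smul, _root_.Matrix.tail_cons, _root_.Matrix.smul_cons, _root_.smul_eq_mul, _root_.mul_neg, _root_.mul_one, _root_.Matrix.smul_empty, _root_.Matrix.empty_vecMul, _root_.add_zero, _root_.Matrix.add_cons, _root_.zero_add, _root_.Matrix.empty_add_empty, _root_.zero_smul, _root_.Matrix.empty_mul, _root_.Equiv.symm_apply_apply, _root_.Matrix.of_apply, _root_.Matrix.cons_val', _root_.Matrix.cons_val_fin_one, Fin.isValue, _root_.Matrix.cons_val_zero, _root_.Matrix.cons_val_one,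 _root_.MulZeroClass.mul_zero, _root_.Matrix.cons_val_succ, _root_.forall_const, _root_.neg_mul, _root_.true_and]) <;> (repeat' with_reducible apply And.intro) <;> ring
  have key2 : (m.1 * m.1) 1 0 = -b * (1 - a * b) * 2 := by
    rw [key]
    simp only [Matrix.mul_apply, Fin.sum_univ_two, _root_.Fin.isValue, _root_.Matrix.of_apply, _root_.Matrix.cons_val', _root_.Matrix.cons_val_fin_one, _root_.Matrix.cons_val_one, _root_.Matrix.cons_val_zero, _root_.neg_mul, _root_.mul_neg]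
    ring
  have e5 := congrArg (fun s : SL(2, F) => s.1 0 0) e4
  have e6 : ((m.1 * m.1 : Matrix (Fin 2) (Fin 2) F) * (!![1, 1; 0, 1] : Matrix (Fin 2) (Fin 2) F)) 0 0 =
      ((!![1, 1; 0, 1] : Matrix (Fin 2) (Fin 2) F) * (m.1 * m.1 : Matrix (Fin 2) (Fin 2) F)) 0 0 := e5
  obtain ⟨N, hN⟩ : ∃ N : Matrix (Fin 2) (Fin 2) F, N = m.1 * m.1 := ⟨_, rfl⟩
  have e7 : (m.1 * m.1 : Matrix (Fin 2) (Fin 2) F) 1 0 = 0 := by
    rw [← hN] at e6 ⊢
    rw [Matrix.mul_apply, Matrix.mul_apply, Fin.sum_univ_two, Fin.sum_univ_two] at e6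
    simpa using e6
  rw [key2] at e7
  have e8 : 1 - a * b = 0 := by
    rcases mul_eq_zero.1 e7 with h | h
    · rcases mul_eq_zero.1 h with h | h
      · exact absurd (neg_eq_zero.1 h) hb
      · exact h
    · exact absurd h h2
  exact eq_inv_of_mul_eq_one_right (by linear_combination -e8)

/-- an element acting by scalars on the root elements -/
theorem NQ.scal (h2 : (2 : F) ≠ 0) {Q : SL(2, F) →* Y} (hQ : Function.Injective Q) {c : Y} {a b : F} (ha : a ≠ 0)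
    (h1 : ∀ r, c * Q (up r) * c⁻¹ = Q (up (a * r))) (h3 : ∀ r, c * Q (lo r) * c⁻¹ = Q (lo (b * r))) : c ∈ NQ Q := by
  have hb := scal_inv h2 hQ ha h1 h3
  refine ⟨dgl (Units.mk0 a ha), fun s => ?_⟩
  have h4 : (MulAut.conj c).toMonoidHom.comp Q = Q.comp (cglHom (dgl (Units.mk0 a ha))) := by
    refine hom_ext2 (fun r => ?_) fun r => ?_
    · show c * Q (up r) * c⁻¹ = Q (cgl (dgl (Units.mk0 a ha)) (up r))
      rw [h1, cgl_dgl_up]
      rfl
    · show c * Q (lo r) * c⁻¹ = Q (cgl (dgl (Units.mk0 a ha)) (lo r))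
      rw [h3, cgl_dgl_lo, hb]
      rfl
  exact DFunLike.congr_fun h4 s

end Act

end Cfsg.Agent.H482.KKL
end

-- part: H482/KKL/TwCent
section
/-!
# `²E₆(q)`, `q` odd: `cent_act` (S4546, X2b)

Every `c` commuting with `ζ = Q(-1)`, `Q = P 0 : SL₂(q) → ²E₆(q)`, acts on `Q` as an element of `GL₂(q)`.
-/

set_option autoImplicit false
set_option linter.unusedSectionVars false
set_option maxHeartbeats 400000

namespace Cfsg.Agent.H482.KKL.TwE

open CoxeterSystem Cfsg.Agent.ChevalleyStructure.CoxeterGeom Cfsg.Agent.Tits.Roots Cfsg.Agent.Tits.Core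
  Cfsg.Agent.Tits.RootComb Cfsg.Agent.Nodes.Comb Cfsg.Agent.Nodes.Reps Cfsg.Agent.Nodes.BNOf
  Cfsg.Agent.Nodes.RGDTwGen Cfsg.Agent.Nodes.RGDChev Cfsg.Agent.Nodes.RGDFold
  Cfsg.Agent.Nodes.RGDFoldSL Cfsg.Agent.Nodes.RGDTwE6 Cfsg.Agent.Nodes.RGDTwTab Cfsg.Agent.Nodes.RGDTwCoordE6
  Cfsg.Agent.Nodes.RGDTwCoord Cfsg.Agent.Nodes.RGDTwComE6 Cfsg.Agent.Nodes.RGDTwActE6
  Cfsg.Agent.Nodes.RGDLib Cfsg.Agent.Nodes.SubComb Cfsg.Agent.Nodes.Sub Cfsg.Agent.Nodes.Bruhat
open Cfsg.Lie Cfsg.Agent.ChevalleyStructure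
  Cfsg.Agent.ChevalleyStructure.TwistedU Cfsg.Agent.ChevalleyStructure.TwistedFix
open Cfsg.Agent.ChevalleyStructure.SL2Hom (up lo)
open Cfsg.Agent.KFacts.TwESix.Comb (bf rts mem_rts bf_rep rho rho_root bf_rho pairing_eq)
open Cfsg.Agent.Nodes.RGDTwNode.E6 (nodeOK eps_one rest)
open Cfsg.Agent.UGT.U2.FOne Cfsg.Agent.UGT.U2.FOne.TwESix
open scoped commutatorElement MatrixGroups

universe u

section Gen

variable {I W Y : Type*} [Fintype I] [DecidableEq I] [Group W] [Group Y] {M : CoxeterMatrix I}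
  {cs : CoxeterSystem M W} {A : I → I → ℤ} {h : IsCartan M A} {p : ℕ} {T : Subgroup Y} {n : I → Y}
  {X : (I → ℤ) → Subgroup Y} [Finite W]

/-- the centralizer of an element of the torus is generated by elements of the root groups and of `N` -/
theorem centralizer_le (R : RGD cs h p T n X) {z : Y} (hz : z ∈ T) (hG : GG cs h T X = ⊤) {H : Subgroup Y}
    (hX : ∀ x, IsRoot cs h x → ∀ u ∈ X x, u * z = z * u → u ∈ H)
    (hN : ∀ w k, Rp cs R.nsys w k → k * z = z * k → k ∈ H) {g : Y} (hg : g * z = z * g) : g ∈ H := by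
  have hg' : g ∈ Subgroup.centralizer ({z} : Set Y) := by
    rw [Subgroup.mem_centralizer_iff]
    rintro _ rfl
    exact hg.symm
  obtain ⟨u, hu, w, k, hk, hkz, v, hv, rfl⟩ := Cfsg.Agent.Nodes.NormalForm.mem_centralizer R
    (Set.singleton_subset_iff.2 hz) (by rw [hG]; trivial) hg'
  have h1 : RGD.Sup (fun x => X x ⊓ Subgroup.centralizer ({z} : Set Y)) (RGD.Pos cs h) ≤ H := by
    refine RGD.Sup_le fun x hx u hu => ?_
    exact hX x hx.1 u hu.1 (Subgroup.mem_centralizer_iff.1 hu.2 z rfl).symm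
  exact mul_mem (mul_mem (h1 hu) (hN w k hk (Subgroup.mem_centralizer_iff.1 hkz z rfl).symm)) (h1 hv)

end Gen

variable {K : Type u} [Field K] [Fintype K] {q : ℕ} {φ : K →+* K} (hφ : ∀ x, φ x = x ^ q)
  (hqq : ∀ t : K, (t ^ q) ^ q = t) {z w : Fin 4 → ℤ}

local notation "CS" => CoxeterMatrix.F₄.toCoxeterSystem

include hφ hqq in
/-- **The centralizer of the involution acts on the fundamental `SL₂(q)` through `GL₂(q)`.** -/
theorem cent_act (p : ℕ) [Fact p.Prime] [CharP K p] (h2K : (2 : K) ≠ 0) {c : ↥(twistedE6 K q)}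
    (hc : c * zn hφ hqq 0 = zn hφ hqq 0 * c) : c ∈ NQ (P hφ hqq 0) := by
  have : Finite CoxeterMatrix.F₄.Group := Cfsg.Agent.KFacts.TwESix.Comb.finiteW CS
  have H : _root_.Cfsg.Agent.UGT.U2.FOne.TwESix.Inv CS φ q (sr 0) (zn hφ hqq 0) := inv_zn hφ hqq h2K
  have hr : sr 0 ∈ [sr 0, rho] := by simp
  have hrr := isRoot_sr CS isCartan (0 : Fin 4)
  refine centralizer_le (_root_.Cfsg.Agent.Nodes.RGDTwE6.rgd CS hφ hqq p) (zn_mem hφ hqq 0) (GG_top φ hφ hqq) ?_ ?_ hc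
  · intro z hz u hu hc
    by_cases hev : bf z (sr 0) % 4 = 0
    · rcases ((tab_long _ hr).2 z ((mem_rts CS).1 hz)).1 hev with rfl | rfl | h0
      · obtain ⟨a, rfl⟩ := (_root_.Cfsg.Agent.UGT.U2.FOne.TwESix.mem_X_sr hφ hqq 0).1 hu
        exact NQ.range _ ⟨_, rfl⟩
      · obtain ⟨a, rfl⟩ := (mem_X_neg hφ hqq 0).1 hu
        exact NQ.range _ ⟨_, rfl⟩
      · obtain ⟨h1, h2, h3, h4⟩ := ((tab_long _ hr).2 z ((mem_rts CS).1 hz)).2 h0
        have h5 : RA (X φ q) (sr 0) ≤ Subgroup.centralizer ({u} : Set ↥(twistedE6 K q)) := by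
          refine sup_le ?_ ?_
          · intro v hv
            rw [Subgroup.mem_centralizer_iff]
            rintro _ rfl
            exact commute_X hφ hqq hz hrr h1 (fun h => h4 (by rw [h, neg_neg])) _ hu _ hv
          · intro v hv
            rw [Subgroup.mem_centralizer_iff]
            rintro _ rfl
            exact commute_X hφ hqq hz hrr.neg (by rw [← sub_eq_add_neg]; exact h2)
              (fun h => h3 (neg_injective h).symm) _ hu _ hv
        refine NQ.cent fun s => ?_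
        have h6 : P hφ hqq 0 s ∈ RA (X φ q) (sr 0) := by
          rw [← range_P hφ hqq]
          exact ⟨s, rfl⟩
        exact Subgroup.mem_centralizer_iff.1 (h5 h6) u rfl
    · rw [H.odd z hz hev u hu hc]
      exact one_mem _
  · -- the representatives
    have hF2 : (2 : Fq φ) ≠ 0 := by
      intro h
      apply h2K
      have h1 := congrArg (Fq φ).subtype h
      rw [map_ofNat, map_zero] at h1
      exact h1
    have key : ∀ (v : CoxeterMatrix.F₄.Group) (k : ↥(twistedE6 K q)), Rp CS (_root_.Cfsg.Agent.Nodes.RGDTwE6.rgd CS hφ hqq p).nsys v k →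
        rep CS isCartan v (sr 0) = sr 0 → k ∈ NQ (P hφ hqq 0) := by
      intro v k hk hv
      obtain ⟨c1, hc1, hc1', h1⟩ := act_long (cs := CS) hφ hqq p hk hrr sr_long
      obtain ⟨c2, hc2, hc2', h2⟩ := act_long (cs := CS) hφ hqq p hk neg_sr_root neg_sr_long
      obtain ⟨η, hη, h3⟩ := P_lo hφ hqq
      have hη0 : φ η = η := by
        rcases hη with rfl | rfl
        · exact map_one φ
        · rw [map_neg, map_one]
      refine NQ.scal (F := Fq φ) hF2 (P_injective hφ hqq h2K) (a := ⟨c1, hc1'⟩) (b := ⟨c2, hc2'⟩)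
        (fun h => hc1 (congrArg Subtype.val h)) (fun r => ?_) fun r => ?_
      · have hr2 : φ (r : K) = r := r.2
        rw [P_up hφ hqq, P_up hφ hqq, h1 _ hr2, hv]
        rfl
      · have hr2 : φ (r : K) = r := r.2
        rw [h3, h3, h2 _ (by rw [map_mul, hη0, hr2]), map_neg, hv]
        congr 1
        show c2 * (η * (r : K)) = η * (c2 * (r : K))
        ring
    intro v k hk hc
    rcases rep_r hφ hqq p hr hrr H hk hc with h1 | h1
    · exact key v k hk h1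
    · have h2 := key (CoxeterMatrix.F₄.toCoxeterSystem.simple 0 * v) (_root_.Cfsg.Agent.Nodes.RGDTwE6.nn hφ 0 * k) ((rp_simple CS (_root_.Cfsg.Agent.Nodes.RGDTwE6.rgd CS hφ hqq p).nsys 0).mul hk) (by
        rw [rep_mul_apply, h1, map_neg, rep_simple_sr, neg_neg])
      have h3 : _root_.Cfsg.Agent.Nodes.RGDTwE6.nn hφ 0 ∈ NQ (P hφ hqq 0) := by
        rw [← P_wS hφ hqq 0]
        exact NQ.range _ ⟨_, rfl⟩
      have h4 := mul_mem (inv_mem h3) h2
      rwa [inv_mul_cancel_left] at h4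

end Cfsg.Agent.H482.KKL.TwE
end

-- part: H482/KKL/TwEMain
section
/-!
# `²E₆(q)`, `q` odd: classical involutions (S4546, X2b)

`exists_J_twE6` : the involutions of `²E₆(q)` which are conjugate to some `h_s(-1)` in `E₆(q²)` are classical
involutions (`CI`), with an equivariant choice of the fundamental subgroup `J t ≅ SL₂(q)`.
-/

set_option autoImplicit false
set_option linter.unusedSectionVars false
set_option maxHeartbeats 400000

namespace Cfsg.Agent.H482.KKL.TwE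

open CoxeterSystem Cfsg.Agent.ChevalleyStructure.CoxeterGeom Cfsg.Agent.Tits.Roots
  Cfsg.Agent.Nodes.RGDFold
  Cfsg.Agent.Nodes.RGDFoldSL Cfsg.Agent.Nodes.RGDTwE6 Cfsg.Agent.Nodes.RGDTwTab Cfsg.Agent.Nodes.RGDTwCoordE6
  Cfsg.Agent.Nodes.RGDTwCoord Cfsg.Agent.Nodes.RGDTwComE6 Cfsg.Agent.Nodes.RGDTwActE6
open Cfsg.Lie Cfsg.Agent.ChevalleyStructure Cfsg.Agent.ChevalleyStructure.Elts
open Cfsg.Agent.UGT.U2.FOne Cfsg.Agent.UGT.U2.FOne.TwESix
open Cfsg.Agent.H613.KKL (CI)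
open Cfsg.Agent.H392.KKL (Act ci_of_hom exists_J)
open scoped MatrixGroups

/-- the centralizer of `zn 0` acts through `GL₂` -/
theorem act_zn {K : Type} [Field K] [Fintype K] {q : ℕ} {φ : K →+* K} (hφ : ∀ x, φ x = x ^ q)
    (hqq : ∀ t : K, (t ^ q) ^ q = t) (p : ℕ) [Fact p.Prime] [CharP K p] (h2K : (2 : K) ≠ 0) {c : ↥(twistedE6 K q)}
    (hc : c * P hφ hqq 0 (-1) = P hφ hqq 0 (-1) * c) : Act (P hφ hqq 0) c := by
  obtain ⟨g, hg⟩ := cent_act hφ hqq p h2K hc
  exact ⟨g, fun s => (hg s).trans (congrArg (P hφ hqq 0) (Subtype.ext rfl))⟩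

/-- **The fundamental subgroup of `²E₆(q)`.** -/
theorem ci_zn {K : Type} [Field K] [Fintype K] {q : ℕ} {φ : K →+* K} (hφ : ∀ x, φ x = x ^ q)
    (hqq : ∀ t : K, (t ^ q) ^ q = t) (p : ℕ) [Fact p.Prime] [CharP K p] (h2K : (2 : K) ≠ 0) :
    CI (zn hφ hqq 0) (P hφ hqq 0).range := by
  have hfin : Finite (Fq φ) := inferInstance
  have := Fintype.ofFinite (Fq φ)
  have hF2 : (2 : Fq φ) ≠ 0 := by
    intro h
    apply h2K
    have h1 := congrArg (Fq φ).subtype h
    rw [map_ofNat, map_zero] at h1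
    exact h1
  refine ci_of_hom (F := Fq φ) hF2 (P hφ hqq 0) ?_ fun c hc => act_zn hφ hqq p h2K hc
  intro h
  have h1 := P_injective hφ hqq h2K (h.trans (map_one _).symm)
  have h2 := congrArg (fun s : SL(2, Fq φ) => s.1 0 0) h1
  have h3 : (-1 : Fq φ) = 1 := h2
  apply hF2
  linear_combination -h3

/-- **X2b of S4546.** -/
theorem exists_J_twE6 {K : Type} [Field K] [Fintype K] {q : ℕ} (hqp : IsPrimePow q) (ho : Odd q)
    (hK : Fintype.card K = q ^ 2) :
    ∃ J : ↥(twistedE6 K q) → Subgroup ↥(twistedE6 K q), (∀ t, ClT t → CI t (J t)) ∧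
      ∀ y t g, y * g * y⁻¹ ∈ J (y * t * y⁻¹) ↔ g ∈ J t := by
  obtain ⟨p, hp⟩ := CharP.exists K
  have hprime : p.Prime := CharP.char_prime_of_ne_zero K (CharP.char_ne_zero_of_finite K p)
  have : Fact p.Prime := ⟨hprime⟩
  obtain ⟨φ, hφ, hqq⟩ := ChevalleyStructure.TwE6Basic.exists_frob hqp hK
  have hF : Odd (Fintype.card K) := by
    rw [hK]
    exact ho.pow
  have hp2 : p ≠ 2 := by
    rintro rfl
    obtain ⟨n, -, hn⟩ := FiniteField.card K 2
    rw [hn] at hF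
    exact absurd hF (Nat.not_odd_iff_even.2 (even_two.pow_of_ne_zero n.ne_zero))
  have hpo : Odd p := hprime.odd_of_ne_two hp2
  have h2K := (H557.LrIso.odd_card (F := K) hpo).2
  have hq2 : 2 ≤ q := hqp.two_le
  have hS := Cfsg.Agent.S1070.result hqp hK
  have hs : IsSimpleGroup ↥(Lie.twistedE6 K q) := hS.1
  have hZ : Subgroup.center ↥(Lie.twistedE6 K q) = ⊥ := by
    rcases (inferInstance : (Subgroup.center ↥(Lie.twistedE6 K q)).Normal).eq_bot_or_eq_top with h1 | h1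
    · exact h1
    · exfalso
      apply hS.2
      exact ⟨⟨fun a b => by
        have h2 : a ∈ Subgroup.center ↥(Lie.twistedE6 K q) := by rw [h1]; exact Subgroup.mem_top a
        exact (Subgroup.mem_center_iff.1 h2 b).symm⟩⟩
  obtain ⟨J, -, h1, h2⟩ := exists_J (ci_zn hφ hqq p h2K)
  exact ⟨J, fun t ht => h1 t (isConj_of_cl hφ hqq p hpo hq2 hK hZ ht), h2⟩

end Cfsg.Agent.H482.KKL.TwE
end

-- part: H836/KKL/Rows
section
/-!
# S4546, rows `E₆(q)`, `²E₆(q)`, `q` odd (helper836)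
-/

set_option autoImplicit false
set_option linter.unusedSectionVars false

namespace Cfsg.Agent.H836.KKL

open Cfsg Cfsg.Lie Cfsg.Agent.H613.KKL
open Cfsg.Agent.H167.EX Cfsg.Agent.Nodes.RGDFoldSL
open Cfsg.Agent.H720.TwFr (hp6)

variable {F : Type} [Field F] [Fintype F] {p : ℕ} [Fact p.Prime] [CharP F p] (hp : p ≠ 2)

include hp in
theorem odd_card : Odd (Fintype.card F) := by
  have h1 : ringChar F = p := ringChar.eq F p |>.symm ▸ rfl
  exact Nat.odd_iff.2 (FiniteField.odd_card_of_char_ne_two (by rw [h1]; exact hp))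

/-- **row `E₆(q)`, from X2a** -/
theorem E_E6_of (ho : Odd (Fintype.card F))
    (hX : ∃ J : ↥(chevE6.group F) → Subgroup ↥(chevE6.group F), (∀ t, IsCl hp6 t → CI t (J t)) ∧
      ∀ y t, IsCl hp6 t → ∀ g, y * g * y⁻¹ ∈ J (y * t * y⁻¹) ↔ g ∈ J t) : NoCfg ↥(chevE6.group F) := by
  intro D x hc
  obtain ⟨J, h1, h2⟩ := hX
  exact core ho (MonoidHom.id _) (fun _ _ h => h) hc J h1 h2

open Cfsg.Agent.Nodes.RGDChev Cfsg.Agent.GenExc.Chev in
/-- all conjugates of the `zz`'s are conjugate -/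
theorem isConj_of_isCl (ho : Odd (Fintype.card F)) {t : ↥(chevE6.group F)} (ht : IsCl hp6 t) :
    IsConj (zS isType_E6 F [1]) t := by
  have h2 := H351.SpSix.two_ne_zero_of_odd ho
  have hcs := (CoxeterMatrix.E₆).toCoxeterSystem
  have htt : t * t = 1 := by
    obtain ⟨s, hs, z, rfl⟩ := ht
    have h3 := zz_sq hp6 (k := F) hs
    rw [pow_two] at h3
    rw [show z * zz hp6 hs * z⁻¹ * (z * zz hp6 hs * z⁻¹) = z * (zz hp6 hs * zz hp6 hs) * z⁻¹ by group, h3, mul_one,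
      mul_inv_cancel]
  have h40 : Module.finrank F ↥(LinearMap.ker (H392.KKL.rho chevE6 F t + 1)) = 40 := by
    have h3 := finrank_m h2 (chevE6.group F).subtype htt
    rw [show (((chevE6.group F).subtype t : Matrix.GeneralLinearGroup chevE6.Idx F) :
      Matrix chevE6.Idx chevE6.Idx F) = ((t : Matrix.GeneralLinearGroup chevE6.Idx F) :
      Matrix chevE6.Idx chevE6.Idx F) from rfl, rank_cl ho ht] at h3
    rw [← h3]
    have h4 : H351.SpSix.rep (chevE6.group F).subtype t = H392.KKL.rho chevE6 F t := by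
      apply LinearMap.ext
      intro v
      rw [H351.SpSix.rep_apply, H392.KKL.rho_apply, Matrix.toLin'_apply]
      rfl
    rw [h4]
  have h1 := H392.KKL.finrank_zS (K := F) isType_E6 hcs h2 [1] (n := 40) (by decide +kernel)
  have h12 := H392.KKL.finrank_zS (K := F) isType_E6 hcs h2 [1, 2] (n := 32) (by decide +kernel)
  have h035 := H392.KKL.finrank_zS (K := F) isType_E6 hcs h2 [0, 3, 5] (n := 40) (by decide +kernel)
  have hz1 : zS isType_E6 F [1] * zS isType_E6 F [1] = 1 := zS_sq isType_E6 F [1]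
  have key : ∀ u : ↥(chevE6.group F), u * u = 1 →
      Module.finrank F ↥(LinearMap.ker (H392.KKL.rho chevE6 F u + 1)) = 40 → IsConj (zS isType_E6 F [0, 3, 5]) u := by
    intro u hu hd
    rcases H482.Car.E6_cases ho hu with h | h | h
    · exfalso
      rw [h, map_one] at hd
      have h5 : LinearMap.ker ((1 : Module.End F (chevE6.Idx → F)) + 1) = ⊥ := by
        rw [Submodule.eq_bot_iff]
        intro v hv
        rw [LinearMap.mem_ker, LinearMap.add_apply, Module.End.one_apply, ← two_smul F v, smul_eq_zero] at hv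
        exact hv.resolve_left h2
      rw [h5, finrank_bot] at hd
      omega
    · exfalso
      rw [H392.KKL.finrank_of_isConj (H392.KKL.rho chevE6 F) h] at hd
      omega
    · exact h
  exact (key _ hz1 h1).symm.trans (key _ htt h40)

include hp in
/-- **row `E₆(q)`** -/
theorem E_E6 : NoCfg ↥(Lie.chevE6.group F) := by
  have ho : Odd (Fintype.card F) := odd_card hp
  obtain ⟨J, -, h1, h2⟩ := H392.KKL.x2a_E6 (F := F) (H351.SpSix.two_ne_zero_of_odd ho)
  exact E_E6_of ho ⟨J, fun t ht => h1 t (isConj_of_isCl ho ht), fun y t _ => h2 y t⟩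

include hp in
/-- **row `²E₆(q)`** -/
theorem E_2E6 (q : ℕ) (hq : Fintype.card F = q ^ 2) : NoCfg (Lie.twistedE6 F q) := by
  intro D x hc
  have ho : Odd (Fintype.card F) := odd_card hp
  have hq' : IsPrimePow q := (isPrimePow_pow_iff two_ne_zero).1 (hq ▸ Fintype.isPrimePow_card_of_field)
  have hoq : Odd q := by rw [hq] at ho; exact (Nat.odd_pow_iff two_ne_zero).1 ho
  obtain ⟨J, h1, h2⟩ := H482.KKL.TwE.exists_J_twE6 hq' hoq hq
  have hle : twistedE6 F q ≤ chevE6.group F := H351.SpSix.genSubgroup_le H351.SpSix.IdealE.lac_E6.inList _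
  have : Finite ↥(twistedE6 F q) := inferInstance
  refine core ho (Subgroup.inclusion hle) (Subgroup.inclusion_injective hle) hc J (fun t ht => h1 t ?_)
    fun y t _ g => h2 y t g
  obtain ⟨s, hs, z, hz⟩ := ht
  refine ⟨s, hs, z, z.2, ?_⟩
  have h3 := congrArg (Subtype.val) hz
  rw [Subgroup.coe_mul, Subgroup.coe_mul, Subgroup.coe_inv] at h3
  have h4 : ((zz hp6 (k := F) hs : ↥(chevE6.group F)) : Matrix.GeneralLinearGroup chevE6.Idx F) =
      ChevalleyStructure.Elts.hG hp6.inList s (-1) := by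
    rw [zz, coe_ph, psi_hS hp6.inList hs]
  rw [h4] at h3
  exact h3

end Cfsg.Agent.H836.KKL
end

private theorem dce_a17d729934f2 : _root_.True := by
  try have : _root_.True := by simp only [_root_.Cfsg.Agent.Nodes.RGDTwE6.nn.congr_simp]
  try have : _root_.True := by simp only [_root_.Cfsg.Agent.Nodes.RGDFoldSL.yv.eq_def]
  try have : _root_.True := by simp only [_root_.Cfsg.Agent.H167.EX.zz.eq_1]
  exact _root_.True.intro
end

-- part: H351/KKL/E7Fin
section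
prune_inst 0x502100000000c0000900000040004010240020000220900200000001001400a000000000020000000000000000000200400000000000080000021400000000016000080000000000000000000000000000000000004000000000
set_option linter.all false
open scoped Cfsg.Agent.FastGrp

-- part: H351/KKL/E7Step
section
/-!
# S4546, E7 part 2 (helper351): long root subgroups commuting with fundamental subgroups

`R : RGD cs h p T n X`, simply laced.

* `exists_refl` : a representative of the reflection of `c` in `AA X c`;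
* `Lev cs h Ψ c` : a closed symmetric set `Ψ` of roots on whose positive part `c ∈ Ψ` is dominant;
* `step` : `l (X b) l⁻¹`, `l ∈ U_Ψ`, `b ∈ Ψ`, commuting with `AA X c` is `l' (X b) l'⁻¹` with `l'` in `U_{Ψ ∩ c^⊥}`, and `b ⊥ c`;
* `pair` : the same for the rank one groups.
-/

set_option autoImplicit false
set_option linter.unusedSectionVars false

namespace Cfsg.Agent.H351.KKL

open CoxeterSystem Cfsg.Agent.ChevalleyStructure.CoxeterGeom Cfsg.Agent.Tits.Roots Cfsg.Agent.Tits.Core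
  Cfsg.Agent.Tits.RootComb Cfsg.Agent.Tits.Exchange Cfsg.Agent.Nodes.Reps Cfsg.Agent.Nodes.BNOf
  Cfsg.Agent.Nodes.StabComb Cfsg.Agent.Nodes.Bruhat Cfsg.Agent.Nodes.Coroot Cfsg.Agent.Nodes.OppDec
  Cfsg.Agent.Nodes.RGDLib Cfsg.Agent.Nodes.PosPair Cfsg.Agent.Nodes.SubComb Cfsg.Agent.Nodes.Comb
  Cfsg.Agent.KFacts.RgdSL
open Cfsg.Agent.H557.LrTor (AA)
open Cfsg.Agent.H557.LrIso (AA_conj)
open Cfsg.Agent.H974.Exc (ra_comm)

section Cm

variable {Y : Type*} [Group Y]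

/-- `A` and `B` commute elementwise -/
def Cm (A B : Subgroup Y) : Prop := A ≤ Subgroup.centralizer (B : Set Y)

theorem Cm.comm {A B : Subgroup Y} (h : Cm A B) {a b : Y} (ha : a ∈ A) (hb : b ∈ B) : a * b = b * a :=
  (Subgroup.mem_centralizer_iff.1 (h ha) b hb).symm

theorem cm_iff {A B : Subgroup Y} : Cm A B ↔ ∀ a ∈ A, ∀ b ∈ B, a * b = b * a :=
  ⟨fun h _ ha _ hb => h.comm ha hb, fun h a ha => Subgroup.mem_centralizer_iff.2 fun b hb => (h a ha b hb).symm⟩

theorem Cm.symm {A B : Subgroup Y} (h : Cm A B) : Cm B A := Subgroup.le_centralizer_iff.1 h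

theorem Cm.mono {A A' B B' : Subgroup Y} (h : Cm A B) (hA : A' ≤ A) (hB : B' ≤ B) : Cm A' B' :=
  cm_iff.2 fun _ ha _ hb => h.comm (hA ha) (hB hb)

theorem Cm.sup_left {A A' B : Subgroup Y} (h : Cm A B) (h' : Cm A' B) : Cm (A ⊔ A') B := sup_le h h'

theorem Cm.sup_right {A B B' : Subgroup Y} (h : Cm A B) (h' : Cm A B') : Cm A (B ⊔ B') :=
  (Cm.sup_left h.symm h'.symm).symm

theorem Cm.map {A B : Subgroup Y} (h : Cm A B) (g : Y) : Cm (cj g A) (cj g B) := by
  refine cm_iff.2 fun a ha b hb => ?_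
  rw [mem_cj] at ha hb
  have h1 := h.comm ha hb
  have h2 : a * b = g * (g⁻¹ * a * g * (g⁻¹ * b * g)) * g⁻¹ := by group
  rw [h2, h1]; group

theorem Cm.conj_eq {A B : Subgroup Y} (h : Cm A B) {a b : Y} (ha : a ∈ A) (hb : b ∈ B) : a * b * a⁻¹ = b := by
  rw [h.comm ha hb, mul_inv_cancel_right]

theorem cj_eq_of_cm {A B : Subgroup Y} (h : Cm A B) {a : Y} (ha : a ∈ A) : cj a B = B := by
  ext x
  rw [mem_cj]
  constructor
  · intro hx
    have h1 := h.conj_eq ha hx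
    have h2 : a * (a⁻¹ * x * a) * a⁻¹ = x := by group
    rw [h2] at h1
    rw [h1]; exact hx
  · intro hx
    have h1 := h.conj_eq (inv_mem ha) hx
    rw [inv_inv] at h1
    rw [h1]; exact hx

end Cm

variable {I W Y : Type*} [Fintype I] [DecidableEq I] [Group W] [Group Y] {M : CoxeterMatrix I}
  {cs : CoxeterSystem M W} {A : I → I → ℤ} {h : IsCartan M A} {p : ℕ} {T : Subgroup Y} {n : I → Y}
  {X : (I → ℤ) → Subgroup Y}

theorem cm_Sup {S : Set (I → ℤ)} {B : Subgroup Y} (hS : ∀ x ∈ S, Cm (X x) B) : Cm (RGD.Sup X S) B :=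
  RGD.Sup_le hS

theorem X_le_AA (c : I → ℤ) : X c ≤ AA X c := le_sup_left

theorem Xneg_le_AA (c : I → ℤ) : X (-c) ≤ AA X c := le_sup_right

theorem AA_neg (c : I → ℤ) : AA X (-c) = AA X c := by
  unfold AA
  rw [neg_neg, sup_comm]

theorem exists_refl_simple [Finite W] (R : RGD cs h p T n X) (i : I) :
    ∃ k ∈ AA X (sr i), Rp cs R.nsys (cs.simple i) k := by
  obtain ⟨u, hu, hu1⟩ := exists_ne_one R i
  have h1 : n i * u * (n i)⁻¹ ∈ X (-sr i) := by
    have := R.conj_mem (rp_simple cs R.nsys i) (isRoot_sr cs h i) hu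
    rwa [rep_simple_sr] at this
  have h2 : n i * u * (n i)⁻¹ ≠ 1 := fun h3 => hu1 (mul_eq_left.1 (mul_inv_eq_one.1 h3))
  obtain ⟨a, ha, t, ht, b, hb, e⟩ := R.rk1 i _ h1 h2
  refine ⟨a⁻¹ * (n i * u * (n i)⁻¹) * b⁻¹, ?_, ?_⟩
  · exact mul_mem (mul_mem (inv_mem (X_le_AA _ ha)) (Xneg_le_AA _ h1)) (inv_mem (X_le_AA _ hb))
  · have h3 : a⁻¹ * (n i * u * (n i)⁻¹) * b⁻¹ = t * n i := by rw [e]; group
    rw [h3]
    have h4 := (rp_of_mem (cs := cs) (hN := R.nsys) ht).mul (rp_simple cs R.nsys i)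
    rwa [one_mul] at h4

/-- a representative of the reflection of `c` in `AA X c` -/
theorem exists_refl [Finite W] (R : RGD cs h p T n X) {c : I → ℤ} (hc : IsRoot cs h c) :
    ∃ k ∈ AA X c, ∃ w, Rp cs R.nsys w k ∧ ∀ x, rep cs h w x = x - cpr cs h x c • c := by
  obtain ⟨v, i, rfl⟩ := hc
  obtain ⟨g, hg⟩ := exists_rp cs R.nsys v
  obtain ⟨k, hk, hrp⟩ := exists_refl_simple R i
  refine ⟨g * k * g⁻¹, ?_, rfl' cs v i, ?_, fun x => rep_rfl'_eq cs h v i x⟩
  · rw [AA_conj R hg (isRoot_sr cs h i)]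
    exact ⟨k, hk, rfl⟩
  · exact (hg.mul hrp).mul hg.inv

/-- a closed symmetric set `Ψ` of roots on whose positive part `c ∈ Ψ` is dominant -/
structure Lev (cs : CoxeterSystem M W) (h : IsCartan M A) (Ψ : Set (I → ℤ)) (c : I → ℤ) : Prop where
  root : ∀ x ∈ Ψ, IsRoot cs h x
  neg : ∀ x ∈ Ψ, -x ∈ Ψ
  cl : ∀ x ∈ Ψ, ∀ y ∈ Ψ, ∀ z, Btwn cs h x y z → z ∈ Ψ
  mem : c ∈ Ψ
  dom : ∀ x ∈ Ψ, 0 ≤ x → 0 ≤ cpr cs h x c

section Lev

variable [Finite W] {Ψ : Set (I → ℤ)} {c : I → ℤ}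

theorem Lev.rc (L : Lev cs h Ψ c) : IsRoot cs h c := L.root c L.mem

theorem Lev.pos (L : Lev cs h Ψ c) {x : I → ℤ} (hx : x ∈ Ψ) (h0 : 0 < cpr cs h x c) : 0 ≤ x := by
  rcases (L.root x hx).pos_or_neg with h1 | h1
  · exact h1
  · exfalso
    have h2 := L.dom (-x) (L.neg x hx) (neg_nonneg.2 h1)
    rw [cpr_neg_left _ L.rc] at h2
    omega

theorem Lev.nonpos (L : Lev cs h Ψ c) {x : I → ℤ} (hx : x ∈ Ψ) (h0 : cpr cs h x c < 0) : x ≤ 0 := by
  have h1 := L.pos (L.neg x hx) (by rw [cpr_neg_left _ L.rc]; omega)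
  exact neg_nonneg.1 h1

theorem Lev.refl (L : Lev cs h Ψ c) {x : I → ℤ} (hx : x ∈ Ψ) : x - cpr cs h x c • c ∈ Ψ := by
  have hr := isRoot_refl cs h (L.root x hx) L.rc
  rcases lt_trichotomy (cpr cs h x c) 0 with h1 | h1 | h1
  · refine L.cl x hx c L.mem _ ⟨hr, 1, 1, -cpr cs h x c, one_pos, one_pos, by omega, ?_⟩
    rw [one_smul, one_smul, neg_smul, sub_eq_add_neg]
  · rwa [h1, zero_smul, sub_zero]
  · refine L.cl x hx (-c) (L.neg c L.mem) _ ⟨hr, 1, 1, cpr cs h x c, one_pos, one_pos, h1, ?_⟩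
    rw [one_smul, one_smul, smul_neg, sub_eq_add_neg]

theorem cpr_refl {x : I → ℤ} (hc : IsRoot cs h c) : cpr cs h (x - cpr cs h x c • c) c = -cpr cs h x c := by
  have h1 : x - cpr cs h x c • c = x + (-cpr cs h x c) • c := by rw [neg_smul, sub_eq_add_neg]
  rw [h1, cpr_add cs h _ _ hc, cpr_smul cs h _ _ hc, cpr_self cs h hc]
  ring

/-- the three parts of `Ψ` -/
def QP (cs : CoxeterSystem M W) (h : IsCartan M A) (Ψ : Set (I → ℤ)) (c : I → ℤ) : Set (I → ℤ) :=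
  {x | x ∈ Ψ ∧ 0 < cpr cs h x c}

def QN (cs : CoxeterSystem M W) (h : IsCartan M A) (Ψ : Set (I → ℤ)) (c : I → ℤ) : Set (I → ℤ) :=
  {x | x ∈ Ψ ∧ cpr cs h x c < 0}

def QZ (cs : CoxeterSystem M W) (h : IsCartan M A) (Ψ : Set (I → ℤ)) (c : I → ℤ) : Set (I → ℤ) :=
  {x | x ∈ Ψ ∧ cpr cs h x c = 0}

/-- the positive part -/
def PP (Ψ : Set (I → ℤ)) : Set (I → ℤ) := {x | x ∈ Ψ ∧ 0 ≤ x}

theorem btwn_cpr {x y z : I → ℤ} (hc : IsRoot cs h c) (hz : Btwn cs h x y z) :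
    ∃ m a b : ℤ, 0 < m ∧ 0 < a ∧ 0 < b ∧ m * cpr cs h z c = a * cpr cs h x c + b * cpr cs h y c := by
  obtain ⟨-, m, a, b, hm, ha, hb, e⟩ := hz
  refine ⟨m, a, b, hm, ha, hb, ?_⟩
  rw [← cpr_smul cs h _ _ hc, ← cpr_smul cs h _ _ hc, ← cpr_smul cs h _ _ hc, ← cpr_add cs h _ _ hc, e]

theorem qz_norm_QP (R : RGD cs h p T n X) (L : Lev cs h Ψ c) :
    RGD.Sup X (QZ cs h Ψ c) ≤ Subgroup.normalizer (RGD.Sup X (QP cs h Ψ c) : Set Y) := by
  refine RGD.Sup_le fun x hx => R.le_normalizer (L.root x hx.1) fun y hy => ⟨L.root y hy.1, Or.inr ⟨?_, fun z hz => ?_⟩⟩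
  · rintro rfl
    have h1 := hx.2
    rw [cpr_neg_left _ L.rc] at h1
    have := hy.2
    omega
  · refine ⟨L.cl x hx.1 y hy.1 z hz, ?_⟩
    obtain ⟨m, a, b, hm, ha, hb, e⟩ := btwn_cpr L.rc hz
    rw [hx.2, mul_zero, zero_add] at e
    have h1 := mul_pos hb hy.2
    rw [← e] at h1
    exact (pos_iff_pos_of_mul_pos h1).1 hm

theorem qz_norm_QN (R : RGD cs h p T n X) (L : Lev cs h Ψ c) :
    RGD.Sup X (QZ cs h Ψ c) ≤ Subgroup.normalizer (RGD.Sup X (QN cs h Ψ c) : Set Y) := by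
  refine RGD.Sup_le fun x hx => R.le_normalizer (L.root x hx.1) fun y hy => ⟨L.root y hy.1, Or.inr ⟨?_, fun z hz => ?_⟩⟩
  · rintro rfl
    have h1 := hx.2
    rw [cpr_neg_left _ L.rc] at h1
    have := hy.2
    omega
  · refine ⟨L.cl x hx.1 y hy.1 z hz, ?_⟩
    obtain ⟨m, a, b, hm, ha, hb, e⟩ := btwn_cpr L.rc hz
    rw [hx.2, mul_zero, zero_add] at e
    have h1 := mul_pos hb (neg_pos.2 hy.2)
    have h2 : 0 < m * (-cpr cs h z c) := by rw [mul_neg, e]; linarith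
    have := (pos_iff_pos_of_mul_pos h2).1 hm
    omega

theorem QP_le_U (L : Lev cs h Ψ c) : RGD.Sup X (QP cs h Ψ c) ≤ RGD.Sup X (RGD.Pos cs h) :=
  RGD.Sup_mono fun x hx => ⟨L.root x hx.1, L.pos hx.1 hx.2⟩

theorem QN_le_UN (L : Lev cs h Ψ c) : RGD.Sup X (QN cs h Ψ c) ≤ UN cs h X :=
  RGD.Sup_mono fun x hx => ⟨L.root x hx.1, L.nonpos hx.1 hx.2⟩

theorem eq_one (R : RGD cs h p T n X) (L : Lev cs h Ψ c) {x : Y} (h1 : x ∈ RGD.Sup X (QP cs h Ψ c))
    (h2 : x ∈ RGD.Sup X (QN cs h Ψ c)) : x = 1 := by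
  have h3 : x ∈ RGD.Sup X (RGD.Pos cs h) ⊓ UN cs h X := ⟨QP_le_U L h1, QN_le_UN L h2⟩
  rwa [U_inf_UN R, Subgroup.mem_bot] at h3

theorem pos_cases (L : Lev cs h Ψ c) {x : I → ℤ} (hx : x ∈ PP Ψ) : x ∈ QP cs h Ψ c ∨ x ∈ PP (QZ cs h Ψ c) := by
  rcases (L.dom x hx.1 hx.2).lt_or_eq with h1 | h1
  · exact Or.inl ⟨hx.1, h1⟩
  · exact Or.inr ⟨⟨hx.1, h1.symm⟩, hx.2⟩

theorem decomp (R : RGD cs h p T n X) (L : Lev cs h Ψ c) {l : Y} (hl : l ∈ RGD.Sup X (PP Ψ)) :
    ∃ q ∈ RGD.Sup X (QP cs h Ψ c), ∃ u ∈ RGD.Sup X (PP (QZ cs h Ψ c)), l = q * u := by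
  have h1 : l ∈ ((RGD.Sup X (QP cs h Ψ c) ⊔ RGD.Sup X (PP (QZ cs h Ψ c)) : Subgroup Y) : Set Y) := by
    refine (?_ : RGD.Sup X (PP Ψ) ≤ _) hl
    refine RGD.Sup_le fun z hz => ?_
    rcases pos_cases L hz with h1 | h1
    · exact le_trans (RGD.le_Sup h1) le_sup_left
    · exact le_trans (RGD.le_Sup h1) le_sup_right
  have h2 : RGD.Sup X (PP (QZ cs h Ψ c)) ≤ Subgroup.normalizer (RGD.Sup X (QP cs h Ψ c) : Set Y) :=
    le_trans (RGD.Sup_mono fun x hx => hx.1) (qz_norm_QP R L)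
  rw [Subgroup.coe_mul_of_right_le_normalizer_left _ _ h2, Set.mem_mul] at h1
  obtain ⟨r, hr, u, hu, e⟩ := h1
  exact ⟨r, hr, u, hu, e.symm⟩

section Step

variable (R : RGD cs h p T n X) (hs : SL cs h) (hab : ∀ x, IsRoot cs h x → Cm (X x) (X x))

include R hs hab in
theorem cm_nonneg {x : I → ℤ} (hx : IsRoot cs h x) (hc : IsRoot cs h c) (h0 : 0 ≤ cpr cs h x c) :
    Cm (X x) (X c) := by
  by_cases hxc : x = c
  · rw [hxc]; exact hab c hc
  · exact cm_iff.2 fun u hu v hv => Cfsg.Agent.H557.LrMov.cm R hs hx hc hxc h0 u hu v hv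

include R hs in
theorem cm_orth {x : I → ℤ} (hx : IsRoot cs h x) (hc : IsRoot cs h c) (h0 : cpr cs h x c = 0) :
    Cm (AA X x) (AA X c) :=
  cm_iff.2 fun u hu v hv => ra_comm R hs hx hc h0 u hu v hv

include R hs in
theorem cm_QZ (L : Lev cs h Ψ c) : Cm (RGD.Sup X (QZ cs h Ψ c)) (AA X c) :=
  cm_Sup fun x hx => (cm_orth R hs (L.root x hx.1) L.rc hx.2).mono (X_le_AA x) le_rfl

include R hs hab in
/-- **The step.** -/
theorem step (L : Lev cs h Ψ c) {b : I → ℤ} (hb : b ∈ Ψ) {l : Y} (hl : l ∈ RGD.Sup X (PP Ψ))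
    (hA : Cm (cj l (X b)) (AA X c)) :
    cpr cs h b c = 0 ∧ ∃ l' ∈ RGD.Sup X (PP (QZ cs h Ψ c)), ∀ x ∈ X b, l * x * l⁻¹ = l' * x * l'⁻¹ := by
  have hc := L.rc
  obtain ⟨k, hk, w, hkw, hw⟩ := exists_refl R hc
  have hU : Cm (RGD.Sup X (PP Ψ)) (X c) := cm_Sup fun x hx => cm_nonneg R hs hab (L.root x hx.1) hc (L.dom x hx.1 hx.2)
  have hPN : ∀ y ∈ RGD.Sup X (QP cs h Ψ c), k * y * k⁻¹ ∈ RGD.Sup X (QN cs h Ψ c) := by
    intro y hy
    refine conj_mem_Sup R hkw (fun x hx => L.root x hx.1) (fun x hx => ?_) hy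
    rw [hw]
    exact ⟨L.refl hx.1, by rw [cpr_refl hc]; have := hx.2; omega⟩
  have hNP : ∀ y ∈ RGD.Sup X (QN cs h Ψ c), k * y * k⁻¹ ∈ RGD.Sup X (QP cs h Ψ c) := by
    intro y hy
    refine conj_mem_Sup R hkw (fun x hx => L.root x hx.1) (fun x hx => ?_) hy
    rw [hw]
    exact ⟨L.refl hx.1, by rw [cpr_refl hc]; have := hx.2; omega⟩
  have hAk : ∀ x ∈ X b, k * (l * x * l⁻¹) * k⁻¹ = l * x * l⁻¹ := fun x hx =>
    hA.symm.conj_eq hk (conj_mem_cj.2 hx)
  rcases lt_trichotomy (cpr cs h b c) 0 with h1 | h1 | h1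
  · exfalso
    have hbc : Cm (X b) (X c) := cm_iff.2 fun x hx y hy => by
      have h2 := hA.comm (conj_mem_cj.2 hx) (X_le_AA c hy)
      have h3 := hU.conj_eq hl hy
      have h4 : l * (x * y) * l⁻¹ = l * (y * x) * l⁻¹ := by
        calc l * (x * y) * l⁻¹ = l * x * l⁻¹ * (l * y * l⁻¹) := by group
          _ = l * y * l⁻¹ * (l * x * l⁻¹) := by rw [h3, h2]
          _ = l * (y * x) * l⁻¹ := by group
      exact mul_left_cancel (mul_right_cancel h4)
    have hbc' : Cm (X b) (X (-c)) := cm_nonneg R hs hab (L.root b hb) hc.neg (by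
      rw [cpr_neg_right cs h _ hc]; omega)
    have hbk : Cm (X b) (AA X c) := hbc.sup_right hbc'
    apply X_ne_bot R (L.root b hb)
    rw [Subgroup.eq_bot_iff_forall]
    intro x hx
    have hxN : x ∈ RGD.Sup X (QN cs h Ψ c) := RGD.le_Sup (S := QN cs h Ψ c) ⟨hb, h1⟩ hx
    have h4 := hNP x hxN
    rw [hbk.symm.conj_eq hk hx] at h4
    exact eq_one R L h4 hxN
  · obtain ⟨q, hq, u, hu, rfl⟩ := decomp R L hl
    refine ⟨h1, u, hu, fun x hx => ?_⟩
    have hu' : u ∈ RGD.Sup X (QZ cs h Ψ c) := RGD.Sup_mono (fun x hx => hx.1) hu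
    have hx' : x ∈ RGD.Sup X (QZ cs h Ψ c) := RGD.le_Sup (S := QZ cs h Ψ c) ⟨hb, h1⟩ hx
    obtain ⟨y, hy⟩ : ∃ y, y = u * x * u⁻¹ := ⟨_, rfl⟩
    have hyZ : y ∈ RGD.Sup X (QZ cs h Ψ c) := by
      rw [hy]; exact mul_mem (mul_mem hu' hx') (inv_mem hu')
    have hky : k * y * k⁻¹ = y := (cm_QZ R hs L).symm.conj_eq hk hyZ
    have h2 := hAk x hx
    have e1 : q * u * x * (q * u)⁻¹ = q * y * q⁻¹ := by rw [hy]; group
    rw [e1] at h2 ⊢
    obtain ⟨r, hr⟩ : ∃ r, r = k * q * k⁻¹ := ⟨_, rfl⟩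
    have hrN : r ∈ RGD.Sup X (QN cs h Ψ c) := by rw [hr]; exact hPN q hq
    have h3 : r * y * r⁻¹ = q * y * q⁻¹ := by
      rw [← h2, hr]
      have : k * (q * y * q⁻¹) * k⁻¹ = k * q * k⁻¹ * (k * y * k⁻¹) * (k * q * k⁻¹)⁻¹ := by group
      rw [this, hky]
    have hn1 := (Subgroup.mem_normalizer_iff.1 (qz_norm_QP R L hyZ) q⁻¹).1 (inv_mem hq)
    have hn2 := (Subgroup.mem_normalizer_iff.1 (qz_norm_QN R L hyZ) r⁻¹).1 (inv_mem hrN)
    have h4 : q * (y * q⁻¹ * y⁻¹) = r * (y * r⁻¹ * y⁻¹) := by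
      have h5 : q * (y * q⁻¹ * y⁻¹) = q * y * q⁻¹ * y⁻¹ := by group
      have h6 : r * (y * r⁻¹ * y⁻¹) = r * y * r⁻¹ * y⁻¹ := by group
      rw [h5, h6, h3]
    have h5 : q * (y * q⁻¹ * y⁻¹) = 1 := by
      refine eq_one R L (mul_mem hq hn1) ?_
      rw [h4]
      exact mul_mem hrN hn2
    have h6 : q * y * q⁻¹ * y⁻¹ = 1 := by rw [← h5]; group
    rw [mul_inv_eq_one.1 h6, hy]
  · exfalso
    have hlP : l ∈ Subgroup.normalizer (RGD.Sup X (QP cs h Ψ c) : Set Y) := by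
      obtain ⟨q, hq, u, hu, rfl⟩ := decomp R L hl
      exact mul_mem (Subgroup.le_normalizer hq) (qz_norm_QP R L (RGD.Sup_mono (fun x hx => hx.1) hu))
    apply X_ne_bot R (L.root b hb)
    rw [Subgroup.eq_bot_iff_forall]
    intro x hx
    have hxP : x ∈ RGD.Sup X (QP cs h Ψ c) := RGD.le_Sup (S := QP cs h Ψ c) ⟨hb, h1⟩ hx
    have hyP := (Subgroup.mem_normalizer_iff.1 hlP x).1 hxP
    have h4 := hPN _ hyP
    rw [hAk x hx] at h4
    have h5 := eq_one R L hyP h4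
    have h6 : x = l⁻¹ * (l * x * l⁻¹) * l := by group
    rw [h6, h5]; group

end Step

end Lev

end Cfsg.Agent.H351.KKL
end

-- part: H351/KKL/E7Place
section
/-!
# S4546, E7 part 2 (helper351): placing a fundamental subgroup

* `isPGroup_pair` : `⟨X c, X d⟩` is a `p`-group for `d ≠ -c`;
* `Place` : the conjugates of `X c₀` commuting with the groups `AA X c'`, `c' ∈ C`;
* `place_start`, `place_next`; `place` : a conjugate of `AA X c₀` commuting with the `AA X c'` is conjugate to `AA X c`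
  by an element commuting with them.
-/

set_option autoImplicit false
set_option linter.unusedSectionVars false

namespace Cfsg.Agent.H351.KKL

open CoxeterSystem Cfsg.Agent.ChevalleyStructure.CoxeterGeom Cfsg.Agent.Tits.Roots Cfsg.Agent.Tits.Core
  Cfsg.Agent.Tits.RootComb Cfsg.Agent.Tits.Exchange Cfsg.Agent.Nodes.Reps Cfsg.Agent.Nodes.BNOf
  Cfsg.Agent.Nodes.StabComb Cfsg.Agent.Nodes.Bruhat Cfsg.Agent.Nodes.Coroot Cfsg.Agent.Nodes.OppDec
  Cfsg.Agent.Nodes.RGDLib Cfsg.Agent.Nodes.PosPair Cfsg.Agent.Nodes.SubComb Cfsg.Agent.Nodes.Comb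
  Cfsg.Agent.KFacts.RgdSL
open Cfsg.Agent.H557.LrTor (AA)
open Cfsg.Agent.H557.LrIso (AA_conj)
open Cfsg.Agent.H974.Exc (ra_comm)

variable {I W Y : Type*} [Fintype I] [DecidableEq I] [Group W] [Group Y] {M : CoxeterMatrix I}
  {cs : CoxeterSystem M W} {A : I → I → ℤ} {h : IsCartan M A} {p : ℕ} {T : Subgroup Y} {n : I → Y}
  {X : (I → ℤ) → Subgroup Y}

section

variable [Finite W] (R : RGD cs h p T n X) (hs : SL cs h) (hab : ∀ x, IsRoot cs h x → Cm (X x) (X x))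

include R hs hab in
theorem isPGroup_of_nonneg {c d : I → ℤ} (hc : IsRoot cs h c) (hd : IsRoot cs h d) (h0 : 0 ≤ cpr cs h c d) :
    IsPGroup p ↥(X c ⊔ X d) :=
  (R.pgrp' hc).to_sup_of_normal_right' (R.pgrp' hd)
    (le_trans (cm_nonneg R hs hab hc hd h0) (Subgroup.centralizer_le_normalizer _))

include R hs hab in
/-- non-opposite root groups generate a `p`-group -/
theorem isPGroup_pair {c d : I → ℤ} (hc : IsRoot cs h c) (hd : IsRoot cs h d) (hne : d ≠ -c) :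
    IsPGroup p ↥(X c ⊔ X d) := by
  have hne' : c ≠ -d := fun e => hne (by rw [e, neg_neg])
  by_cases hcd : 0 ≤ cpr cs h c d
  · exact isPGroup_of_nonneg R hs hab hc hd hcd
  · have hcd1 : cpr cs h c d = -1 := by
      rcases hs.cases hc hd with h1 | h1 | h1
      · omega
      · exact absurd h1.1 hne'
      · omega
    have hsum := isRoot_add hc hd hcd1
    have h1 : cpr cs h c (c + d) = 1 := by
      rw [hs _ _ hc hsum, cpr_add cs h _ _ hc, cpr_self cs h hc, hs _ _ hd hc, hcd1]; norm_num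
    have h2 : cpr cs h d (c + d) = 1 := by
      rw [hs _ _ hd hsum, cpr_add cs h _ _ hd, cpr_self cs h hd, hcd1]; norm_num
    have hP : IsPGroup p ↥(X c ⊔ X (c + d)) := isPGroup_of_nonneg R hs hab hc hsum (by omega)
    have hSup : RGD.Sup X {c, c + d} = X c ⊔ X (c + d) := by
      apply le_antisymm
      · refine RGD.Sup_le fun z hz => ?_
        rcases hz with rfl | rfl
        · exact le_sup_left
        · exact le_sup_right
      · exact sup_le (RGD.le_Sup (Or.inl rfl)) (RGD.le_Sup (Or.inr rfl))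
    have hdc : d ≠ c := by
      rintro rfl
      rw [cpr_self cs h hc] at hcd1; omega
    have hN : X d ≤ Subgroup.normalizer ((X c ⊔ X (c + d) : Subgroup Y) : Set Y) := by
      rw [← hSup]
      refine R.le_normalizer hd ?_
      rintro y (rfl | rfl)
      · refine ⟨hc, Or.inr ⟨hne, fun z hz => ?_⟩⟩
        have := (hs.btwn hd hc hdc hne hz).2
        right
        rw [this, add_comm]; rfl
      · refine ⟨hsum, Or.inr ⟨?_, fun z hz => ?_⟩⟩
        · intro e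
          have h3 := congrArg (fun x => cpr cs h x (c + d)) e
          rw [h2, cpr_neg_left _ hsum, cpr_self cs h hsum] at h3
          omega
        · have hne3 : d ≠ c + d := fun e => hc.ne_zero (by simpa using e)
          exact absurd hz (hs.not_btwn hd hsum hne3 (by omega) z)
    have h3 : IsPGroup p ↥(X d ⊔ (X c ⊔ X (c + d))) := (R.pgrp' hd).to_sup_of_normal_right' hP hN
    exact h3.to_le (sup_le (le_trans le_sup_left le_sup_right) le_sup_left)

include R in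
theorem not_isPGroup_AA {c : I → ℤ} (hc : IsRoot cs h c) : ¬ IsPGroup p ↥(AA X c) := by
  obtain ⟨w, i, rfl⟩ := hc
  obtain ⟨k, hk⟩ := exists_rp cs R.nsys w
  rw [AA_conj R hk (isRoot_sr cs h i)]
  intro h1
  apply R.notp i
  exact h1.of_equiv ((AA X (sr i)).equivMapOfInjective _ (MulAut.conj k).injective).symm

/-- the conjugates of `X c₀` commuting with the groups `AA X c'`, `c' ∈ C` -/
def Place (X : (I → ℤ) → Subgroup Y) (c₀ : I → ℤ) (Ψ : Set (I → ℤ)) (C : List (I → ℤ)) : Prop :=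
  ∀ g : Y, (∀ c ∈ C, Cm (cj g (X c₀)) (AA X c)) → ∃ b ∈ Ψ, ∃ l ∈ RGD.Sup X (PP Ψ), cj g (X c₀) = cj l (X b)

include R hs hab in
theorem place_start (hG : GG cs h T X = ⊤) {c₀ : I → ℤ} (hc₀ : IsRoot cs h c₀)
    (hdom : ∀ x, IsRoot cs h x → 0 ≤ x → 0 ≤ cpr cs h x c₀) : Place X c₀ {x | IsRoot cs h x} [] := by
  intro g _
  have hg : g ∈ GG cs h T X := by rw [hG]; trivial
  obtain ⟨w, b₁, hb₁, k, hk, b₂, hb₂, rfl⟩ := (mem_GG R).1 hg
  have hU : Cm (RGD.Sup X (RGD.Pos cs h)) (X c₀) := cm_Sup fun x hx => cm_nonneg R hs hab hx.1 hc₀ (hdom x hx.1 hx.2)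
  obtain ⟨t, ht, u, hu, rfl⟩ := R.mem_B.1 hb₂
  obtain ⟨t', ht', u', hu', rfl⟩ := R.mem_B.1 hb₁
  refine ⟨rep cs h w c₀, hc₀.act w, t' * u' * t'⁻¹, ?_, ?_⟩
  · exact (Subgroup.mem_normalizer_iff.1 (R.T_le_normalizer_U ht') u').1 hu'
  · have e : t' * u' * k * (t * u) = t' * u' * t'⁻¹ * (t' * (k * (t * u))) := by group
    rw [e, cj_mul, cj_mul t', cj_mul k, cj_mul t, cj_eq_of_cm hU hu, R.tor _ hc₀ t ht, R.conj_rp hk hc₀,
      R.tor _ (hc₀.act w) t' ht']

include R hs hab in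
theorem place_next {c₀ : I → ℤ} {Ψ : Set (I → ℤ)} {C : List (I → ℤ)} {c : I → ℤ} (P : Place X c₀ Ψ C)
    (L : Lev cs h Ψ c) : Place X c₀ (QZ cs h Ψ c) (c :: C) := by
  intro g hg
  obtain ⟨b, hb, l, hl, e⟩ := P g fun c' hc' => hg c' (List.mem_cons_of_mem _ hc')
  have h1 := hg c List.mem_cons_self
  rw [e] at h1
  obtain ⟨h2, l', hl', h3⟩ := step R hs hab L hb hl h1
  refine ⟨b, ⟨hb, h2⟩, l', hl', ?_⟩
  rw [e]
  ext x
  constructor
  · intro hx
    rw [mem_cj] at hx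
    have h4 := h3 _ hx
    have e1 : l * (l⁻¹ * x * l) * l⁻¹ = x := by group
    rw [e1] at h4
    rw [h4]; exact conj_mem_cj.2 hx
  · intro hx
    rw [mem_cj] at hx
    have h4 := h3 _ hx
    have e1 : l' * (l'⁻¹ * x * l') * l'⁻¹ = x := by group
    rw [e1] at h4
    rw [← h4]; exact conj_mem_cj.2 hx

omit [Finite W] in
/-- transitivity by raising the height -/
theorem trans_up (R : RGD cs h p T n X) [Finite W] {Ψ : Set (I → ℤ)} {c : I → ℤ} (hΨ : ∀ x ∈ Ψ, IsRoot cs h x)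
    (hcl : ∀ x ∈ Ψ, ∀ i, sr i ∈ Ψ → rep cs h (cs.simple i) x ∈ Ψ) (hneg : ∀ x ∈ Ψ, -x ∈ Ψ)
    (hup : ∀ b ∈ Ψ, b ≠ c → ∃ i, sr i ∈ Ψ ∧ pairing A i b < 0) {N : ℤ} (hN : ∀ b ∈ Ψ, ht b ≤ N) :
    ∀ b ∈ Ψ, ∃ y ∈ RGD.Sup X Ψ, cj y (X b) = X c := by
  have key : ∀ m : ℕ, ∀ b ∈ Ψ, (N - ht b).toNat = m → ∃ y ∈ RGD.Sup X Ψ, cj y (X b) = X c := by
    intro m
    induction m using Nat.strong_induction_on with
    | _ m ih =>
    intro b hb hm
    by_cases hbc : b = c
    · exact ⟨1, one_mem _, by rw [cj_one, hbc]⟩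
    obtain ⟨i, hi, hlt⟩ := hup b hb hbc
    obtain ⟨k, hk, hrp⟩ := exists_refl_simple R i
    have h1 := hcl b hb i hi
    have h2 : ht b < ht (rep cs h (cs.simple i) b) := by
      rw [rep_simple_eq]
      have h3 : b - pairing A i b • sr i = b + (-pairing A i b) • sr i := by rw [neg_smul, sub_eq_add_neg]
      rw [h3, RGD.ht_add, RGD.ht_smul]
      have h4 := RGD.ht_pos (isRoot_sr cs h i) (sr_nonneg i)
      have h5 : 0 < -pairing A i b * ht (sr i : I → ℤ) := mul_pos (by omega) h4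
      omega
    have h3 := hN _ h1
    have h4 := hN _ hb
    obtain ⟨y, hy, e⟩ := ih _ (by omega) _ h1 rfl
    refine ⟨y * k, mul_mem hy ?_, ?_⟩
    · have h5 : AA X (sr i) ≤ RGD.Sup X Ψ := sup_le (RGD.le_Sup hi) (RGD.le_Sup (hneg _ hi))
      exact h5 hk
    · rw [cj_mul, R.conj_rp hrp (hΨ b hb), e]
  exact fun b hb => key _ b hb rfl

include R hs hab in
/-- **Placing a fundamental subgroup.** -/
theorem place {c₀ : I → ℤ} (hc₀ : IsRoot cs h c₀) {Ψ : Set (I → ℤ)} {C : List (I → ℤ)} {c : I → ℤ} (P : Place X c₀ Ψ C)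
    (L : Lev cs h Ψ c) (hC : ∀ c' ∈ C, IsRoot cs h c' ∧ ∀ x ∈ Ψ, cpr cs h x c' = 0)
    (htr : ∀ b ∈ Ψ, ∃ y ∈ RGD.Sup X Ψ, cj y (X b) = X c) {g : Y} (hg : ∀ c' ∈ C, Cm (cj g (AA X c₀)) (AA X c')) :
    ∃ y ∈ RGD.Sup X Ψ, cj (y * g) (AA X c₀) = AA X c := by
  have hΨC : ∀ c' ∈ C, Cm (RGD.Sup X Ψ) (AA X c') := fun c' hc' => cm_Sup fun x hx =>
    (cm_orth R hs (L.root x hx) (hC c' hc').1 ((hC c' hc').2 x hx)).mono (X_le_AA x) le_rfl
  obtain ⟨b, hb, l, hl, e⟩ := P g fun c' hc' => (hg c' hc').mono (Subgroup.map_mono (X_le_AA c₀)) le_rfl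
  obtain ⟨y₀, hy₀, e₀⟩ := htr b hb
  have hlΨ : l ∈ RGD.Sup X Ψ := RGD.Sup_mono (fun x hx => hx.1) hl
  have e1 : cj (y₀ * l⁻¹ * g) (X c₀) = X c := by
    rw [cj_mul, cj_mul, e, cj_inv_cj, e₀]
  have hy1 : y₀ * l⁻¹ ∈ RGD.Sup X Ψ := mul_mem hy₀ (inv_mem hlΨ)
  -- the opposite root group
  obtain ⟨k, hk, w, hkw, hw⟩ := exists_refl R hc₀
  have hwc : rep cs h w c₀ = -c₀ := by
    rw [hw, cpr_self cs h hc₀, two_smul]; abel
  have hkX : cj k (X c₀) = X (-c₀) := by rw [R.conj_rp hkw hc₀, hwc]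
  obtain ⟨d, hd, l2, hl2, e2⟩ := P (y₀ * l⁻¹ * g * k) fun c' hc' => by
    have h1 := (hg c' hc').map (y₀ * l⁻¹)
    rw [cj_eq_of_cm (hΨC c' hc') hy1, ← cj_mul] at h1
    have h2 : cj (y₀ * l⁻¹ * g * k) (X c₀) = cj (y₀ * l⁻¹ * g) (X (-c₀)) := by rw [cj_mul, hkX]
    rw [h2]
    exact h1.mono (Subgroup.map_mono (Xneg_le_AA c₀)) le_rfl
  rw [cj_mul, hkX] at e2
  have hU : Cm (RGD.Sup X (PP Ψ)) (X c) := cm_Sup fun x hx => cm_nonneg R hs hab (L.root x hx.1) L.rc (L.dom x hx.1 hx.2)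
  have hl2Ψ : l2 ∈ RGD.Sup X Ψ := RGD.Sup_mono (fun x hx => hx.1) hl2
  have e3 : cj (l2⁻¹ * (y₀ * l⁻¹ * g)) (AA X c₀) = X c ⊔ X d := by
    rw [cj_mul]
    unfold AA
    rw [cj_sup, e1, e2, cj_sup, cj_inv_cj, cj_eq_of_cm hU (inv_mem hl2)]
  have hdc : d = -c := by
    by_contra hne
    have h1 := isPGroup_pair R hs hab L.rc (L.root d hd) hne
    rw [← e3] at h1
    exact not_isPGroup_AA R hc₀ (h1.of_equiv ((AA X c₀).equivMapOfInjective _ (MulAut.conj _).injective).symm)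
  refine ⟨l2⁻¹ * (y₀ * l⁻¹), mul_mem (inv_mem hl2Ψ) hy1, ?_⟩
  have e4 : l2⁻¹ * (y₀ * l⁻¹) * g = l2⁻¹ * (y₀ * l⁻¹ * g) := by group
  rw [e4, e3, hdc]
  rfl

end

end Cfsg.Agent.H351.KKL
end

-- part: H351/KKL/E7Tor
section
/-!
# S4546, E7 part 2 (helper351): three commuting fundamental subgroups, abstract form

`toral_abs`.
-/

set_option autoImplicit false
set_option linter.unusedSectionVars false

namespace Cfsg.Agent.H351.KKL

open CoxeterSystem Cfsg.Agent.ChevalleyStructure.CoxeterGeom Cfsg.Agent.Tits.Roots Cfsg.Agent.Tits.Core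
  Cfsg.Agent.Tits.RootComb Cfsg.Agent.Tits.Exchange Cfsg.Agent.Nodes.Reps Cfsg.Agent.Nodes.BNOf
  Cfsg.Agent.Nodes.StabComb Cfsg.Agent.Nodes.Bruhat Cfsg.Agent.Nodes.Coroot Cfsg.Agent.Nodes.OppDec
  Cfsg.Agent.Nodes.RGDLib Cfsg.Agent.Nodes.PosPair Cfsg.Agent.Nodes.SubComb Cfsg.Agent.Nodes.Comb
  Cfsg.Agent.KFacts.RgdSL
open Cfsg.Agent.H557.LrTor (AA)

theorem exists_not_mem {Y : Type*} [Group Y] (D : Subgroup Y) (F : Finset Y) (hF : F.card < Nat.card D) :
    ∃ d ∈ D, d ∉ F := by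
  by_contra hcon
  push Not at hcon
  have h1 : (D : Set Y) ⊆ (F : Set Y) := fun d hd => hcon d hd
  have h2 := Set.ncard_le_ncard h1 F.finite_toSet
  rw [Set.ncard_coe_finset] at h2
  have h3 : (D : Set Y).ncard = Nat.card D := rfl
  omega

variable {I W Y : Type*} [Fintype I] [DecidableEq I] [Group W] [Group Y] {M : CoxeterMatrix I}
  {cs : CoxeterSystem M W} {A : I → I → ℤ} {h : IsCartan M A} {p : ℕ} {T : Subgroup Y} {n : I → Y}
  {X : (I → ℤ) → Subgroup Y}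

theorem commute_of_cm {A : Subgroup Y} {S : Subgroup Y} (h : Cm S A) {y t : Y} (hy : y ∈ S) (ht : t ∈ A) :
    y * t * y⁻¹ = t := h.conj_eq hy ht

/-- **three commuting fundamental subgroups** -/
theorem toral_abs [Finite W] (R : RGD cs h p T n X) (hs : SL cs h) (hab : ∀ x, IsRoot cs h x → Cm (X x) (X x))
    (hG : GG cs h T X = ⊤) {c₀ c₁ c₂ e : I → ℤ} {Ψ₁ Ψ₂ Ψ₃ : Set (I → ℤ)}
    (L₀ : Lev cs h {x | IsRoot cs h x} c₀) (e₁ : Ψ₁ = QZ cs h {x | IsRoot cs h x} c₀)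
    (L₁ : Lev cs h Ψ₁ c₁) (e₂ : Ψ₂ = QZ cs h Ψ₁ c₁) (L₂ : Lev cs h Ψ₂ e) (e₃ : Ψ₃ = QZ cs h Ψ₂ e) (L₃ : Lev cs h Ψ₃ c₂)
    (tr₁ : ∀ b ∈ Ψ₁, ∃ y ∈ RGD.Sup X Ψ₁, cj y (X b) = X c₁) (tr₃ : ∀ b ∈ Ψ₃, ∃ y ∈ RGD.Sup X Ψ₃, cj y (X b) = X c₂)
    {t₀ : Y} (hmem : t₀ ∈ AA X c₀) (hnorm : ∀ m : Y, m * t₀ = t₀ * m ↔ cj m (AA X c₀) = AA X c₀)
    {z₁ ze z₂ : Y} (hz₁ : cj z₁ (AA X c₀) = AA X c₁) (hze : cj ze (AA X c₀) = AA X e)
    (hz₂ : cj z₂ (AA X c₀) = AA X c₂) (hrel : t₀ * (z₁ * t₀ * z₁⁻¹) = ze * t₀ * ze⁻¹)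
    {D : Subgroup Y} (hcard : Nat.card D = 8) (hinv : ∀ d ∈ D, d * d = 1)
    (hcl : ∀ t ∈ D, t ≠ 1 → ∃ g, g * t₀ * g⁻¹ = t)
    (hcm : ∀ g g' : Y, g * t₀ * g⁻¹ ∈ D → g' * t₀ * g'⁻¹ ∈ D → g * t₀ * g⁻¹ ≠ g' * t₀ * g'⁻¹ →
      Cm (cj g (AA X c₀)) (cj g' (AA X c₀))) :
    ∃ y : Y, y⁻¹ * t₀ * y ∈ D ∧ y⁻¹ * (z₁ * t₀ * z₁⁻¹) * y ∈ D ∧ y⁻¹ * (z₂ * t₀ * z₂⁻¹) * y ∈ D := by
  classical
  have P₀ := place_start R hs hab hG L₀.rc L₀.dom
  have P₁ := place_next R hs hab P₀ L₀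
  rw [← e₁] at P₁
  have P₂ := place_next R hs hab P₁ L₁
  rw [← e₂] at P₂
  have P₃ := place_next R hs hab P₂ L₂
  rw [← e₃] at P₃
  have hC₁ : ∀ c' ∈ [c₀], IsRoot cs h c' ∧ ∀ x ∈ Ψ₁, cpr cs h x c' = 0 := by
    intro c' hc'
    rw [List.mem_singleton] at hc'
    subst hc'
    refine ⟨L₀.rc, fun x hx => ?_⟩
    rw [e₁] at hx
    exact hx.2
  have hsub : ∀ x ∈ Ψ₃, x ∈ Ψ₂ ∧ x ∈ Ψ₁ := by
    intro x hx
    rw [e₃] at hx
    have h1 := hx.1
    rw [e₂] at h1
    exact ⟨hx.1, h1.1⟩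
  have hC₃ : ∀ c' ∈ [e, c₁, c₀], IsRoot cs h c' ∧ ∀ x ∈ Ψ₃, cpr cs h x c' = 0 := by
    intro c' hc'
    simp only [List.mem_cons, List.not_mem_nil, or_false] at hc'
    rcases hc' with rfl | rfl | rfl
    · refine ⟨L₂.rc, fun x hx => ?_⟩
      rw [e₃] at hx
      exact hx.2
    · refine ⟨L₁.rc, fun x hx => ?_⟩
      have h1 := (hsub x hx).1
      rw [e₂] at h1
      exact h1.2
    · refine ⟨L₀.rc, fun x hx => ?_⟩
      have h1 := (hsub x hx).2
      rw [e₁] at h1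
      exact h1.2
  -- the elements of `D`
  obtain ⟨t1, ht1, ht1'⟩ := exists_not_mem D {1} (by rw [hcard, Finset.card_singleton]; norm_num)
  rw [Finset.mem_singleton] at ht1'
  obtain ⟨t2, ht2, ht2'⟩ := exists_not_mem D {1, t1} (by
    rw [hcard]; exact lt_of_le_of_lt Finset.card_le_two (by norm_num))
  simp only [Finset.mem_insert, Finset.mem_singleton, not_or] at ht2'
  obtain ⟨t3, ht3, ht3'⟩ := exists_not_mem D {1, t1, t2, t1 * t2} (by
    rw [hcard]; exact lt_of_le_of_lt Finset.card_le_four (by norm_num))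
  simp only [Finset.mem_insert, Finset.mem_singleton, not_or] at ht3'
  have ht12 : t1 * t2 ∈ D := mul_mem ht1 ht2
  have ht12' : t1 * t2 ≠ 1 := by
    intro h1
    apply ht2'.2
    have h2 := hinv t1 ht1
    exact mul_left_cancel (h1.trans h2.symm)
  obtain ⟨g1, hg1⟩ := hcl t1 ht1 ht1'
  obtain ⟨g2, hg2⟩ := hcl t2 ht2 ht2'.1
  obtain ⟨g3, hg3⟩ := hcl t3 ht3 ht3'.1
  obtain ⟨g12, hg12⟩ := hcl _ ht12 ht12'
  -- uniqueness
  have hdet : ∀ {y g z : Y}, cj (y * g) (AA X c₀) = cj z (AA X c₀) → y * (g * t₀ * g⁻¹) * y⁻¹ = z * t₀ * z⁻¹ := by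
    intro y g z h1
    have h2 : cj (z⁻¹ * (y * g)) (AA X c₀) = AA X c₀ := by rw [cj_mul, h1, cj_inv_cj]
    have h3 := (hnorm _).2 h2
    calc y * (g * t₀ * g⁻¹) * y⁻¹ = z * (z⁻¹ * (y * g) * t₀) * (z⁻¹ * (y * g))⁻¹ * z⁻¹ := by group
      _ = z * t₀ * z⁻¹ := by rw [h3]; group
  have hdet' : ∀ {y g z : Y}, y * (g * t₀ * g⁻¹) * y⁻¹ = z * t₀ * z⁻¹ → cj (y * g) (AA X c₀) = cj z (AA X c₀) := by
    intro y g z h1
    have h2 : z⁻¹ * (y * g) * t₀ = t₀ * (z⁻¹ * (y * g)) := by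
      calc z⁻¹ * (y * g) * t₀ = z⁻¹ * (y * (g * t₀ * g⁻¹) * y⁻¹) * (y * g) := by group
        _ = t₀ * (z⁻¹ * (y * g)) := by rw [h1]; group
    have h3 := (hnorm _).1 h2
    have h4 : cj z (cj (z⁻¹ * (y * g)) (AA X c₀)) = cj z (AA X c₀) := by rw [h3]
    rwa [← cj_mul, mul_inv_cancel_left] at h4
  -- second group
  have cm12 : Cm (cj (g1⁻¹ * g2) (AA X c₀)) (AA X c₀) := by
    have h1 := hcm g2 g1 (by rw [hg2]; exact ht2) (by rw [hg1]; exact ht1) (by rw [hg2, hg1]; exact ht2'.2)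
    have h2 := h1.map g1⁻¹
    rwa [← cj_mul, cj_inv_cj] at h2
  obtain ⟨y2, hy2, ey2⟩ := place R hs hab L₀.rc P₁ L₁ hC₁ tr₁ (g := g1⁻¹ * g2) (fun c' hc' => by
    rw [List.mem_singleton] at hc'
    subst hc'
    exact cm12)
  have hy2c : Cm (RGD.Sup X Ψ₁) (AA X c₀) := cm_Sup fun x hx =>
    (cm_orth R hs (L₁.root x hx) L₀.rc ((hC₁ c₀ List.mem_cons_self).2 x hx)).mono (X_le_AA x) le_rfl
  obtain ⟨y, hy⟩ : ∃ y, y = y2 * g1⁻¹ := ⟨_, rfl⟩
  have ey2' : cj (y * g2) (AA X c₀) = AA X c₁ := by rw [hy, mul_assoc]; exact ey2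
  have f1 : y * t1 * y⁻¹ = t₀ := by
    rw [hy, ← hg1]
    have h1 := commute_of_cm hy2c hy2 hmem
    calc y2 * g1⁻¹ * (g1 * t₀ * g1⁻¹) * (y2 * g1⁻¹)⁻¹ = y2 * t₀ * y2⁻¹ := by group
      _ = t₀ := h1
  have f2 : y * t2 * y⁻¹ = z₁ * t₀ * z₁⁻¹ := by
    rw [← hg2]
    exact hdet (ey2'.trans hz₁.symm)
  have f12 : y * (t1 * t2) * y⁻¹ = ze * t₀ * ze⁻¹ := by
    calc y * (t1 * t2) * y⁻¹ = (y * t1 * y⁻¹) * (y * t2 * y⁻¹) := by group
      _ = ze * t₀ * ze⁻¹ := by rw [f1, f2, hrel]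
  have e12 : cj (y * g12) (AA X c₀) = AA X e := by
    rw [← hze]
    apply hdet'
    rw [hg12]
    exact f12
  have e1 : cj (y * g1) (AA X c₀) = AA X c₀ := by
    have h1 := cj_eq_of_cm hy2c hy2
    rw [hy]
    rwa [inv_mul_cancel_right]
  -- the third group
  have cmk : ∀ {g : Y}, g * t₀ * g⁻¹ ∈ D → t3 ≠ g * t₀ * g⁻¹ → Cm (cj (y * g3) (AA X c₀)) (cj (y * g) (AA X c₀)) := by
    intro g hgD hne
    have h1 := hcm g3 g (by rw [hg3]; exact ht3) hgD (by rw [hg3]; exact hne)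
    have h2 := h1.map y
    rwa [← cj_mul, ← cj_mul] at h2
  obtain ⟨y3, hy3, ey3⟩ := place R hs hab L₀.rc P₃ L₃ hC₃ tr₃ (g := y * g3) (fun c' hc' => by
    simp only [List.mem_cons, List.not_mem_nil, or_false] at hc'
    rcases hc' with rfl | rfl | rfl
    · rw [← e12]
      exact cmk (by rw [hg12]; exact ht12) (by rw [hg12]; exact ht3'.2.2.2)
    · rw [← ey2']
      exact cmk (by rw [hg2]; exact ht2) (by rw [hg2]; exact ht3'.2.2.1)
    · have h1 := cmk (g := g1) (by rw [hg1]; exact ht1) (by rw [hg1]; exact ht3'.2.1)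
      rwa [e1] at h1)
  have hy3c : ∀ c' ∈ [e, c₁, c₀], Cm (RGD.Sup X Ψ₃) (AA X c') := fun c' hc' => cm_Sup fun x hx =>
    (cm_orth R hs (L₃.root x hx) (hC₃ c' hc').1 ((hC₃ c' hc').2 x hx)).mono (X_le_AA x) le_rfl
  have hmem1 : z₁ * t₀ * z₁⁻¹ ∈ AA X c₁ := by rw [← hz₁]; exact conj_mem_cj.2 hmem
  have k1 : (y3 * y) * t1 * (y3 * y)⁻¹ = t₀ := by
    have h1 := commute_of_cm (hy3c c₀ (by simp)) hy3 hmem
    calc (y3 * y) * t1 * (y3 * y)⁻¹ = y3 * (y * t1 * y⁻¹) * y3⁻¹ := by group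
      _ = t₀ := by rw [f1, h1]
  have k2 : (y3 * y) * t2 * (y3 * y)⁻¹ = z₁ * t₀ * z₁⁻¹ := by
    have h1 := commute_of_cm (hy3c c₁ (by simp)) hy3 hmem1
    calc (y3 * y) * t2 * (y3 * y)⁻¹ = y3 * (y * t2 * y⁻¹) * y3⁻¹ := by group
      _ = z₁ * t₀ * z₁⁻¹ := by rw [f2, h1]
  have k3 : (y3 * y) * t3 * (y3 * y)⁻¹ = z₂ * t₀ * z₂⁻¹ := by
    rw [← hg3]
    refine hdet ?_
    rw [hz₂, mul_assoc]
    exact ey3
  refine ⟨y3 * y, ?_, ?_, ?_⟩
  · rw [← k1]
    have : (y3 * y)⁻¹ * ((y3 * y) * t1 * (y3 * y)⁻¹) * (y3 * y) = t1 := by group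
    rw [this]; exact ht1
  · rw [← k2]
    have : (y3 * y)⁻¹ * ((y3 * y) * t2 * (y3 * y)⁻¹) * (y3 * y) = t2 := by group
    rw [this]; exact ht2
  · rw [← k3]
    have : (y3 * y)⁻¹ * ((y3 * y) * t3 * (y3 * y)⁻¹) * (y3 * y) = t3 := by group
    rw [this]; exact ht3

end Cfsg.Agent.H351.KKL
end

-- part: H351/KKL/E7Main
section
/-!
# S4546, E7 part 2 (helper351): `D` is toral in `E₇(q)`, `q` odd

* `JJ`, `tt` : the root `SL₂` and its involution in `D.group K`;
* `toral_E7`.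
-/

set_option autoImplicit false
set_option linter.unusedSectionVars false
set_option maxHeartbeats 400000

namespace Cfsg.Agent.H351.KKL

open CoxeterSystem Cfsg.Agent.ChevalleyStructure.CoxeterGeom Cfsg.Agent.Tits.Roots Cfsg.Agent.Tits.Core
  Cfsg.Agent.Tits.RootComb Cfsg.Agent.Nodes.Reps Cfsg.Agent.Nodes.BNOf
  Cfsg.Agent.Nodes.RGDLib Cfsg.Agent.Nodes.Bruhat Cfsg.Agent.Nodes.Coroot Cfsg.Agent.KFacts.RgdSL
open Cfsg Cfsg.Lie Cfsg.Agent.ChevalleyStructure Cfsg.Agent.ChevalleyStructure.CoxeterGeomTypes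
  Cfsg.Agent.ChevalleyStructure.Elts Cfsg.Agent.ChevalleyStructure.RootVec Cfsg.Agent.Nodes.RGDChev
open Cfsg.Agent.KFacts.RgdChevCoord (TT XX nc coords)
open Cfsg.Agent.H974.Exc (sl_E7 cf isRoot_of cpr_of)
open Cfsg.Agent.H557.LrTor (AA)
open Cfsg.Agent.H557.LrIso (AA_conj)
open Cfsg.Agent.H557.LrRho (actW rep_word)
open Cfsg.Agent.Nodes.RGDFoldSL (wS hS coe_wS coe_hS psi psi_up psi_lo psi_hS psi_mem)
open Cfsg.Agent.H808.RV
open Cfsg.Agent.UGT.U2.FOne (isType_E7)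

section JJ

variable {D : ChevalleyDatum} {K : Type} [Field K]

/-- the root `SL₂` -/
noncomputable def JJ (hD : InList D) (K : Type) [Field K] (r : ℕ) : Subgroup ↥(D.group K) :=
  (psi hD K r).range.subgroupOf (D.group K)

/-- its involution -/
noncomputable def tt (hD : InList D) (K : Type) [Field K] (r : ℕ) : ↥(D.group K) :=
  ⟨hG hD r (-1), hG_mem_group hD r (-1)⟩

theorem range_eq (hD : InList D) {r : ℕ} (hr : r < D.nroots) :
    (psi hD K r).range = D.rootSubgroup K r ⊔ D.rootSubgroup K (D.neg r) := by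
  apply le_antisymm
  · rintro _ ⟨A, rfl⟩
    exact psi_mem hD hr A
  · refine sup_le ?_ ?_
    · intro x hx
      obtain ⟨t, rfl⟩ := (mem_rootSubgroup_iff hD r x).1 hx
      exact xG_mem_range hD hr t
    · intro x hx
      obtain ⟨t, rfl⟩ := (mem_rootSubgroup_iff hD _ x).1 hx
      exact xG_neg_mem_range hD hr t

theorem JJ_eq {l : ℕ} {M : CoxeterMatrix (Fin l)} (hp : IsType D l M) {r : ℕ} (hr : r < D.nroots) :
    AA (XX D l K) (vec D l r) = JJ hp.inList K r := by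
  have hneg := NPerm.neg_lt hp.inList hr
  have h1 : ∀ s, D.rootSubgroup K s ≤ D.group K := by
    intro s x hx
    obtain ⟨t, rfl⟩ := (mem_rootSubgroup_iff hp.inList s x).1 hx
    exact xG_mem_group hp.inList s t
  unfold AA JJ
  rw [range_eq hp.inList hr, Subgroup.subgroupOf_sup (h1 _) (h1 _), ← vec_neg hp hr]
  show (XV D l K (vec D l r)).subgroupOf _ ⊔ (XV D l K (vec D l (D.neg r))).subgroupOf _ = _
  rw [XV_vec hp K hr, XV_vec hp K hneg]

theorem psi_neg_one (hD : InList D) (h2 : (2 : K) ≠ 0) {r : ℕ} (hr : r < D.nroots) :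
    psi hD K r (-1) = hG hD r (-1) := by
  have h1 : (-1 : Matrix.SpecialLinearGroup (Fin 2) K) = hS (-1) := by
    refine eq_hS h2 (by simp) ?_
    intro h
    have h3 := congrArg (fun X : Matrix.SpecialLinearGroup (Fin 2) K => X.1 0 0) h
    simp only [Matrix.SpecialLinearGroup.coe_neg, Matrix.SpecialLinearGroup.coe_one, Matrix.neg_apply,
      Matrix.one_apply_eq] at h3
    apply h2
    linear_combination -h3
  rw [h1, psi_hS hD hr]

theorem tt_mul_self (hD : InList D) {r : ℕ} (hr : r < D.nroots) : tt hD K r * tt hD K r = 1 := by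
  apply Subtype.ext
  show hG hD r (-1 : K) * hG hD r (-1) = 1
  rw [← psi_hS hD hr, ← map_mul, hS_sq, map_one]

theorem tt_mem (hD : InList D) {r : ℕ} (hr : r < D.nroots) : tt hD K r ∈ JJ hD K r := by
  show hG hD r (-1 : K) ∈ (psi hD K r).range
  exact ⟨hS (-1), psi_hS hD hr (-1)⟩

/-- the unique involution -/
theorem inv_unique [Finite K] (hD : InList D) (h2 : (2 : K) ≠ 0) {r : ℕ} (hr : r < D.nroots)
    (hne : hG hD r (-1 : K) ≠ 1) {x : ↥(D.group K)} (hx : x ∈ JJ hD K r) (hxx : x * x = 1) (h1 : x ≠ 1) :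
    x = tt hD K r := by
  have := Fintype.ofFinite K
  obtain ⟨A, hA⟩ := hx
  have hne' : psi hD K r (-1) ≠ 1 := by rwa [psi_neg_one hD h2 hr]
  have hinj : Function.Injective (psi hD K r) := H392.KKL.inj_of_neg h2 hne'
  have hAA : A * A = 1 := by
    apply hinj
    rw [map_mul, map_one, hA]
    exact congrArg Subtype.val hxx
  have hA1 : A ≠ 1 := by
    rintro rfl
    apply h1
    apply Subtype.ext
    rw [map_one] at hA
    exact hA.symm
  apply Subtype.ext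
  show (x : GL D.Idx K) = hG hD r (-1)
  rw [← psi_hS hD hr, ← eq_hS h2 hAA hA1]
  exact hA.symm

theorem hab_of {l : ℕ} {M : CoxeterMatrix (Fin l)} (hp : IsType D l M) {W : Type*} [Group W] (cs : CoxeterSystem M W)
    (x : Fin l → ℤ) (hx : IsRoot cs hp.isCartan x) : Cm (XX D l K x) (XX D l K x) := by
  obtain ⟨r, hr, rfl⟩ := (isRoot_iff hp cs x).1 hx
  refine cm_iff.2 fun u hu v hv => Subtype.ext ?_
  have hu' : (u : GL D.Idx K) ∈ XV D l K (vec D l r) := hu
  have hv' : (v : GL D.Idx K) ∈ XV D l K (vec D l r) := hv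
  rw [XV_vec hp K hr, mem_rootSubgroup_iff hp.inList] at hu' hv'
  obtain ⟨a, ha⟩ := hu'
  obtain ⟨b, hb⟩ := hv'
  show (u : GL D.Idx K) * v = v * u
  rw [ha, hb, xG_add, xG_add, add_comm]

end JJ

section Cl

variable {I W : Type*} [Fintype I] [DecidableEq I] [Group W] [Finite W] {M : CoxeterMatrix I}
  {cs : CoxeterSystem M W} {A : I → I → ℤ} {h : IsCartan M A}

/-- closed symmetric sets of roots -/
structure Cl (cs : CoxeterSystem M W) (h : IsCartan M A) (Ψ : Set (I → ℤ)) : Prop where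
  root : ∀ x ∈ Ψ, IsRoot cs h x
  neg : ∀ x ∈ Ψ, -x ∈ Ψ
  cl : ∀ x ∈ Ψ, ∀ y ∈ Ψ, ∀ z, Btwn cs h x y z → z ∈ Ψ

theorem cl_all : Cl cs h {x | IsRoot cs h x} := ⟨fun _ h => h, fun _ h => h.neg, fun _ _ _ _ _ hz => hz.1⟩

theorem Cl.qz {Ψ : Set (I → ℤ)} (H : Cl cs h Ψ) {c : I → ℤ} (hc : IsRoot cs h c) : Cl cs h (QZ cs h Ψ c) where
  root x hx := H.root x hx.1
  neg x hx := ⟨H.neg x hx.1, by rw [cpr_neg_left _ hc, hx.2, neg_zero]⟩
  cl x hx y hy z hz := by
    refine ⟨H.cl x hx.1 y hy.1 z hz, ?_⟩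
    obtain ⟨m, a, b, hm, ha, hb, e⟩ := btwn_cpr hc hz
    rw [hx.2, hy.2, mul_zero, mul_zero, add_zero] at e
    exact (mul_eq_zero.1 e).resolve_left hm.ne'

theorem Cl.lev {Ψ : Set (I → ℤ)} (H : Cl cs h Ψ) {c : I → ℤ} (hc : c ∈ Ψ) (hd : ∀ x ∈ Ψ, 0 ≤ x → 0 ≤ cpr cs h x c) :
    Lev cs h Ψ c := ⟨H.root, H.neg, H.cl, hc, hd⟩

theorem Cl.refl {Ψ : Set (I → ℤ)} (H : Cl cs h Ψ) {x c : I → ℤ} (hx : x ∈ Ψ) (hcm : c ∈ Ψ) :
    x - cpr cs h x c • c ∈ Ψ := by
  have hr := isRoot_refl cs h (H.root x hx) (H.root c hcm)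
  rcases lt_trichotomy (cpr cs h x c) 0 with h1 | h1 | h1
  · refine H.cl x hx c hcm _ ⟨hr, 1, 1, -cpr cs h x c, one_pos, one_pos, by omega, ?_⟩
    rw [one_smul, one_smul, neg_smul, sub_eq_add_neg]
  · rwa [h1, zero_smul, sub_zero]
  · refine H.cl x hx (-c) (H.neg c hcm) _ ⟨hr, 1, 1, cpr cs h x c, one_pos, one_pos, h1, ?_⟩
    rw [one_smul, one_smul, smul_neg, sub_eq_add_neg]

theorem Cl.simple {Ψ : Set (I → ℤ)} (H : Cl cs h Ψ) : ∀ x ∈ Ψ, ∀ i, sr i ∈ Ψ → rep cs h (cs.simple i) x ∈ Ψ := by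
  intro x hx i hi
  rw [rep_simple_eq, ← cpr_sr cs h]
  exact H.refl hx hi

end Cl

section E7

/-- the Cartan matrix -/
abbrev AE : Fin 7 → Fin 7 → ℤ := cartanOf chevE7 7

/-- the highest roots of `E₇`, `D₆`, `D₄` -/
def c0 : Fin 7 → ℤ := ![2, 2, 3, 4, 3, 2, 1]
@[inherit_doc c0] def c1 : Fin 7 → ℤ := ![0, 1, 1, 2, 2, 2, 1]
@[inherit_doc c0] def c2 : Fin 7 → ℤ := ![0, 1, 1, 2, 1, 0, 0]
/-- the root of `A₁` -/
def ce : Fin 7 → ℤ := ![0, 0, 0, 0, 0, 0, 1]

set_option backward.isDefEq.respectTransparency false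

set_option maxRecDepth 20000

theorem tab_root : (∃ k ∈ List.range chevE7.nroots, vec chevE7 7 k = c0) ∧
    (∃ k ∈ List.range chevE7.nroots, vec chevE7 7 k = c1) ∧ (∃ k ∈ List.range chevE7.nroots, vec chevE7 7 k = c2) ∧
    (∃ k ∈ List.range chevE7.nroots, vec chevE7 7 k = ce) := by
  decide +kernel

theorem tab_vec : vec chevE7 7 0 = -c0 ∧ vec chevE7 7 33 = -c1 ∧ vec chevE7 7 38 = -c2 ∧ vec chevE7 7 62 = -ce := by
  decide +kernel

theorem tab_cf : cf AE c1 c0 = 0 ∧ cf AE ce c0 = 0 ∧ cf AE ce c1 = 0 ∧ cf AE c2 c0 = 0 ∧ cf AE c2 c1 = 0 ∧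
    cf AE c2 ce = 0 := by
  (delta Cfsg.Agent.ChevalleyStructure.CoxeterGeomTypes.cartanOf Cfsg.Agent.H351.KKL.AE; rewrite [Cfsg.Agent.ChevFast.E7.cartan]; decide +kernel)

theorem tab_dom0 : ∀ r ∈ List.range chevE7.nroots, (∀ k : Fin 7, 0 ≤ vec chevE7 7 r k) →
    0 ≤ cf AE (vec chevE7 7 r) c0 := by
  (delta Cfsg.Agent.ChevalleyStructure.CoxeterGeomTypes.cartanOf Cfsg.Agent.H351.KKL.AE; rewrite [Cfsg.Agent.ChevFast.E7.cartan]; decide +kernel)

theorem tab_dom1 : ∀ r ∈ List.range chevE7.nroots, (∀ k : Fin 7, 0 ≤ vec chevE7 7 r k) →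
    cf AE (vec chevE7 7 r) c0 = 0 → 0 ≤ cf AE (vec chevE7 7 r) c1 := by
  (delta Cfsg.Agent.ChevalleyStructure.CoxeterGeomTypes.cartanOf Cfsg.Agent.H351.KKL.AE; rewrite [Cfsg.Agent.ChevFast.E7.cartan]; decide +kernel)

theorem tab_dom2 : ∀ r ∈ List.range chevE7.nroots, (∀ k : Fin 7, 0 ≤ vec chevE7 7 r k) →
    cf AE (vec chevE7 7 r) c0 = 0 → cf AE (vec chevE7 7 r) c1 = 0 → 0 ≤ cf AE (vec chevE7 7 r) ce := by
  (delta Cfsg.Agent.ChevalleyStructure.CoxeterGeomTypes.cartanOf Cfsg.Agent.H351.KKL.AE; rewrite [Cfsg.Agent.ChevFast.E7.cartan]; decide +kernel)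

theorem tab_dom3 : ∀ r ∈ List.range chevE7.nroots, (∀ k : Fin 7, 0 ≤ vec chevE7 7 r k) →
    cf AE (vec chevE7 7 r) c0 = 0 → cf AE (vec chevE7 7 r) c1 = 0 → cf AE (vec chevE7 7 r) ce = 0 →
    0 ≤ cf AE (vec chevE7 7 r) c2 := by
  (delta Cfsg.Agent.ChevalleyStructure.CoxeterGeomTypes.cartanOf Cfsg.Agent.H351.KKL.AE; rewrite [Cfsg.Agent.ChevFast.E7.cartan]; decide +kernel)

theorem tab_up1 : ∀ r ∈ List.range chevE7.nroots, cf AE (vec chevE7 7 r) c0 = 0 → vec chevE7 7 r ≠ c1 →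
    ∃ i : Fin 7, cf AE (sr i) c0 = 0 ∧ pairing AE i (vec chevE7 7 r) < 0 := by
  (delta Cfsg.Agent.ChevalleyStructure.CoxeterGeomTypes.cartanOf Cfsg.Agent.H351.KKL.AE; rewrite [Cfsg.Agent.ChevFast.E7.cartan]; decide +kernel)

theorem tab_up3 : ∀ r ∈ List.range chevE7.nroots, cf AE (vec chevE7 7 r) c0 = 0 → cf AE (vec chevE7 7 r) c1 = 0 →
    cf AE (vec chevE7 7 r) ce = 0 → vec chevE7 7 r ≠ c2 →
    ∃ i : Fin 7, (cf AE (sr i) c0 = 0 ∧ cf AE (sr i) c1 = 0 ∧ cf AE (sr i) ce = 0) ∧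
      pairing AE i (vec chevE7 7 r) < 0 := by
  (delta Cfsg.Agent.ChevalleyStructure.CoxeterGeomTypes.cartanOf Cfsg.Agent.H351.KKL.AE; rewrite [Cfsg.Agent.ChevFast.E7.cartan]; decide +kernel)

theorem tab_ht : ∀ r ∈ List.range chevE7.nroots, ht (vec chevE7 7 r) ≤ 17 := by
  decide +kernel

theorem tab_word : actW AE [0, 2, 3, 4, 1, 3, 2, 0] c0 = c1 ∧ actW AE [5, 6, 4, 5, 0, 2, 3, 4, 1, 3, 2, 0] c0 = c2 ∧
    actW AE [5, 4, 3, 2, 1, 3, 4, 5, 0, 2, 3, 4, 1, 3, 2, 0] c0 = ce := by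
  (delta Cfsg.Agent.ChevalleyStructure.CoxeterGeomTypes.cartanOf Cfsg.Agent.H351.KKL.AE; rewrite [Cfsg.Agent.ChevFast.E7.cartan]; decide +kernel)

/-- the relations of the frame -/
theorem tab_rel : ∀ r ∈ FE7, ∃ I ∈ [0, 33, 38].sublists, ∀ j : Fin 7, sumP chevE7 (r :: I) (chevE7.simple j) % 2 = 0 := by
  (delta Cfsg.Agent.H808.RV.prC Cfsg.Agent.H808.RV.sumP; rewrite [Cfsg.Agent.ChevFast.E7.cartan, Cfsg.Agent.ChevFast.E7.coroot]; decide +kernel)

/-- the group -/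
abbrev GE (F : Type) [Field F] : Type := ↥(ChevalleyDatum.group chevE7 F)

variable {F : Type} [Field F] [Finite F]

theorem hG_ne_one (h2 : (2 : F) ≠ 0) {r : ℕ} (hr : r ∈ FE7) : hG isType_E7.inList r (-1 : F) ≠ 1 := by
  obtain ⟨j, hj⟩ := tabZ_spec isType_E7 tabZ_E7 hr
  have h1 := zP_ne_one (K := F) isType_E7 h2 (I := [r]) (fun a ha => by
    rw [List.mem_singleton] at ha; subst ha; exact lt_E7 _ hr) (j := j) (by
    unfold sumP
    simpa only [_root_.List.map_cons, _root_.List.map_nil, _root_.List.sum_cons, _root_.List.sum_nil, _root_.add_zero, _root_.ne_eq, _root_.EuclideanDomain.mod_eq_zero, _root_.Int.two_dvd_ne_zero] using hj)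
  intro h3
  apply h1
  unfold zP
  simp [h3]

/-- `t₀` and `J₀` determine each other -/
theorem norm_iff (h2 : (2 : F) ≠ 0) {r : ℕ} (hr : r ∈ FE7) (m : GE F) :
    m * tt isType_E7.inList F r = tt isType_E7.inList F r * m ↔
      cj m (JJ isType_E7.inList F r) = JJ isType_E7.inList F r := by
  have hlt := lt_E7 r hr
  constructor
  · intro h1
    have key : ∀ m : GE F, m * tt isType_E7.inList F r = tt isType_E7.inList F r * m →
        cj m (JJ isType_E7.inList F r) ≤ JJ isType_E7.inList F r := by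
      rintro m hm _ ⟨x, hx, rfl⟩
      show (m : GL chevE7.Idx F) * x * (m : GL chevE7.Idx F)⁻¹ ∈ (psi isType_E7.inList F r).range
      exact cent_norm isType_E7.inList h2 hlt (tabA_E7 r hr) (tabB_E7 r hr) m.2 (congrArg Subtype.val hm) _ hx
    have h3 : m⁻¹ * tt isType_E7.inList F r = tt isType_E7.inList F r * m⁻¹ := by
      rw [inv_mul_eq_iff_eq_mul, ← mul_assoc, h1, mul_inv_cancel_right]
    apply le_antisymm (key m h1)
    have h4 := cj_mono m (key m⁻¹ h3)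
    rwa [cj_cj_inv] at h4
  · intro h1
    have h3 : m * tt isType_E7.inList F r * m⁻¹ ∈ JJ isType_E7.inList F r := by
      rw [← h1]
      exact conj_mem_cj.2 (tt_mem _ hlt)
    have hne := hG_ne_one h2 hr
    have h4 := inv_unique isType_E7.inList h2 hlt hne h3 (by
      have e : m * tt isType_E7.inList F r * m⁻¹ * (m * tt isType_E7.inList F r * m⁻¹) =
        m * (tt isType_E7.inList F r * tt isType_E7.inList F r) * m⁻¹ := by group
      rw [e, tt_mul_self _ hlt, mul_one, mul_inv_cancel]) (by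
      intro h5
      apply hne
      have h6 : tt isType_E7.inList F r = 1 := by
        have e : tt isType_E7.inList F r = m⁻¹ * (m * tt isType_E7.inList F r * m⁻¹) * m := by group
        rw [e, h5]; group
      exact congrArg Subtype.val h6)
    rw [← mul_inv_eq_iff_eq_mul]
    exact h4

/-- products of the involutions of the frame -/
theorem tt_mem_closure {r : ℕ} (hr : r ∈ FE7) {D : Subgroup (GE F)} {y : GE F}
    (h0 : y⁻¹ * tt isType_E7.inList F 0 * y ∈ D) (h33 : y⁻¹ * tt isType_E7.inList F 33 * y ∈ D)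
    (h38 : y⁻¹ * tt isType_E7.inList F 38 * y ∈ D) : y⁻¹ * tt isType_E7.inList F r * y ∈ D := by
  obtain ⟨I, hI, hrel⟩ := tab_rel r hr
  have hsub : ∀ a ∈ I, a ∈ [0, 33, 38] := fun a ha => (List.mem_sublists.1 hI).subset ha
  have hlt : ∀ a ∈ [0, 33, 38], a < chevE7.nroots := by decide +kernel
  have h1 := zP_eq_one (K := F) isType_E7 (I := r :: I) (by
    intro a ha
    rcases List.mem_cons.1 ha with rfl | ha
    · exact lt_E7 _ hr
    · exact hlt a (hsub a ha)) hrel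
  have hin : ∀ a ∈ [0, 33, 38], y⁻¹ * tt isType_E7.inList F a * y ∈ D := by
    intro a ha
    simp only [List.mem_cons, List.not_mem_nil, or_false] at ha
    rcases ha with rfl | rfl | rfl
    · exact h0
    · exact h33
    · exact h38
  have key : ∀ I : List ℕ, (∀ a ∈ I, a ∈ [0, 33, 38]) →
      ∃ x : GE F, (x : GL chevE7.Idx F) = zP isType_E7.inList F I ∧ y⁻¹ * x * y ∈ D := by
    intro I
    induction I with
    | nil => exact fun _ => ⟨1, rfl, by rw [mul_one, inv_mul_cancel]; exact one_mem D⟩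
    | cons a I ih =>
      intro h
      obtain ⟨x, hx, hxD⟩ := ih fun b hb => h b (List.mem_cons_of_mem _ hb)
      refine ⟨tt isType_E7.inList F a * x, ?_, ?_⟩
      · rw [Subgroup.coe_mul, hx]
        unfold zP
        rw [List.map_cons, List.prod_cons]
        rfl
      · have e : y⁻¹ * (tt isType_E7.inList F a * x) * y = y⁻¹ * tt isType_E7.inList F a * y * (y⁻¹ * x * y) := by group
        rw [e]
        exact mul_mem (hin a (h a List.mem_cons_self)) hxD
  obtain ⟨x, hx, hxD⟩ := key I hsub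
  have h2 : tt isType_E7.inList F r * x = 1 := by
    apply Subtype.ext
    rw [Subgroup.coe_mul, hx, Subgroup.coe_one, ← h1]
    unfold zP
    rw [List.map_cons, List.prod_cons]
    rfl
  have h3 : tt isType_E7.inList F r = x⁻¹ := eq_inv_of_mul_eq_one_left h2
  rw [h3]
  have e : y⁻¹ * x⁻¹ * y = (y⁻¹ * x * y)⁻¹ := by group
  rw [e]
  exact inv_mem hxD

theorem cj_AA {W : Type*} [Group W] [Finite W] {cs : CoxeterSystem CoxeterMatrix.E₇ W} {p : ℕ} {T : Subgroup (GE F)}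
    {n : Fin 7 → GE F} {X : (Fin 7 → ℤ) → Subgroup (GE F)} (R : RGD cs isType_E7.isCartan p T n X) {c : Fin 7 → ℤ}
    (hc : IsRoot cs isType_E7.isCartan c) {w : W} {z : GE F} (hz : Rp cs R.nsys w z) :
    cj z (AA X c) = AA X (rep cs isType_E7.isCartan w c) := (AA_conj R hz hc).symm

set_option maxHeartbeats 1000000 in
/-- **`D` is toral**: S4546, E7 part 2 -/
theorem toral_E7 {p : ℕ} [Fact p.Prime] [CharP F p] (hp2 : p ≠ 2) {D : Subgroup (GE F)} (hcard : Nat.card D = 8)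
    (hinv : ∀ d ∈ D, d * d = 1) (hcl : ∀ t ∈ D, t ≠ 1 → ∃ g : GE F, g * tt isType_E7.inList F 0 * g⁻¹ = t)
    (J : GE F → Subgroup (GE F)) (hJ₀ : J (tt isType_E7.inList F 0) = JJ isType_E7.inList F 0)
    (hJ : ∀ y t g : GE F, y * g * y⁻¹ ∈ J (y * t * y⁻¹) ↔ g ∈ J t)
    (hcm : ∀ t ∈ D, t ≠ 1 → ∀ s ∈ D, s ≠ 1 → s ≠ t → ∀ g ∈ J t, ∀ h ∈ J s, g * h = h * g) :
    ∃ y : GE F, ∀ r ∈ FE7, y⁻¹ * tt isType_E7.inList F r * y ∈ D := by
  have := Fintype.ofFinite F
  have h2 : (2 : F) ≠ 0 := by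
    intro h
    have h1 : ((2 : ℕ) : F) = 0 := by exact_mod_cast h
    rw [CharP.cast_eq_zero_iff F p] at h1
    exact hp2 ((Nat.prime_dvd_prime_iff_eq (Fact.out : p.Prime) Nat.prime_two).1 h1)
  obtain ⟨cs, hcs⟩ : ∃ cs, cs = (CoxeterMatrix.E₇).toCoxeterSystem := ⟨_, rfl⟩
  have hW : Finite (CoxeterMatrix.E₇).Group := Cfsg.Agent.Nodes.RGDChev.finite_W isType_E7 cs
  have R := rgd (K := F) isType_E7 cs p
  have hs := sl_E7 cs
  have hG1 := G1_eq_top (K := F) isType_E7 cs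
  have hG := KFacts.RgdRigid.GG_eq_top (T := TT chevE7 F) hG1
  have hab := hab_of (K := F) isType_E7 cs
  -- roots
  obtain ⟨q0, q1, q2, qe⟩ := tab_root
  have r0 : IsRoot cs isType_E7.isCartan c0 := isRoot_of isType_E7 cs q0
  have r1 : IsRoot cs isType_E7.isCartan c1 := isRoot_of isType_E7 cs q1
  have r2 : IsRoot cs isType_E7.isCartan c2 := isRoot_of isType_E7 cs q2
  have re : IsRoot cs isType_E7.isCartan ce := isRoot_of isType_E7 cs qe
  have hcp : ∀ {x y : Fin 7 → ℤ}, IsRoot cs isType_E7.isCartan y → cpr cs isType_E7.isCartan x y = cf AE x y :=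
    fun {x y} hy => cpr_of isType_E7 hs x hy rfl
  obtain ⟨f10, fe0, fe1, f20, f21, f2e⟩ := tab_cf
  -- the levels
  obtain ⟨Ψ₁, e₁⟩ : ∃ Ψ₁, Ψ₁ = QZ cs isType_E7.isCartan {x | IsRoot cs isType_E7.isCartan x} c0 := ⟨_, rfl⟩
  obtain ⟨Ψ₂, e₂⟩ : ∃ Ψ₂, Ψ₂ = QZ cs isType_E7.isCartan Ψ₁ c1 := ⟨_, rfl⟩
  obtain ⟨Ψ₃, e₃⟩ : ∃ Ψ₃, Ψ₃ = QZ cs isType_E7.isCartan Ψ₂ ce := ⟨_, rfl⟩
  have m₁ : ∀ x, x ∈ Ψ₁ ↔ IsRoot cs isType_E7.isCartan x ∧ cf AE x c0 = 0 := fun x => by
    rw [e₁, ← hcp r0]; rfl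
  have m₂ : ∀ x, x ∈ Ψ₂ ↔ x ∈ Ψ₁ ∧ cf AE x c1 = 0 := fun x => by
    rw [e₂, ← hcp r1]; rfl
  have m₃ : ∀ x, x ∈ Ψ₃ ↔ x ∈ Ψ₂ ∧ cf AE x ce = 0 := fun x => by
    rw [e₃, ← hcp re]; rfl
  have C₁ : Cl cs isType_E7.isCartan Ψ₁ := by rw [e₁]; exact cl_all.qz r0
  have C₂ : Cl cs isType_E7.isCartan Ψ₂ := by rw [e₂]; exact C₁.qz r1
  have C₃ : Cl cs isType_E7.isCartan Ψ₃ := by rw [e₃]; exact C₂.qz re
  have hpos : ∀ {x : Fin 7 → ℤ}, 0 ≤ x → ∀ k : Fin 7, 0 ≤ x k := fun hx k => hx k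
  have L₀ : Lev cs isType_E7.isCartan {x | IsRoot cs isType_E7.isCartan x} c0 := by
    refine cl_all.lev r0 fun x hx h0 => ?_
    obtain ⟨r, hr, rfl⟩ := (isRoot_iff isType_E7 cs x).1 hx
    rw [hcp r0]
    exact tab_dom0 r (List.mem_range.2 hr) (hpos h0)
  have L₁ : Lev cs isType_E7.isCartan Ψ₁ c1 := by
    refine C₁.lev ((m₁ _).2 ⟨r1, f10⟩) fun x hx h0 => ?_
    obtain ⟨k1, k2⟩ := (m₁ _).1 hx
    obtain ⟨r, hr, rfl⟩ := (isRoot_iff isType_E7 cs x).1 k1
    rw [hcp r1]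
    exact tab_dom1 r (List.mem_range.2 hr) (hpos h0) k2
  have L₂ : Lev cs isType_E7.isCartan Ψ₂ ce := by
    refine C₂.lev ((m₂ _).2 ⟨(m₁ _).2 ⟨re, fe0⟩, fe1⟩) fun x hx h0 => ?_
    obtain ⟨k3, k4⟩ := (m₂ _).1 hx
    obtain ⟨k1, k2⟩ := (m₁ _).1 k3
    obtain ⟨r, hr, rfl⟩ := (isRoot_iff isType_E7 cs x).1 k1
    rw [hcp re]
    exact tab_dom2 r (List.mem_range.2 hr) (hpos h0) k2 k4
  have L₃ : Lev cs isType_E7.isCartan Ψ₃ c2 := by
    refine C₃.lev ((m₃ _).2 ⟨(m₂ _).2 ⟨(m₁ _).2 ⟨r2, f20⟩, f21⟩, f2e⟩) fun x hx h0 => ?_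
    obtain ⟨k5, k6⟩ := (m₃ _).1 hx
    obtain ⟨k3, k4⟩ := (m₂ _).1 k5
    obtain ⟨k1, k2⟩ := (m₁ _).1 k3
    obtain ⟨r, hr, rfl⟩ := (isRoot_iff isType_E7 cs x).1 k1
    rw [hcp r2]
    exact tab_dom3 r (List.mem_range.2 hr) (hpos h0) k2 k4 k6
  have hht : ∀ x, IsRoot cs isType_E7.isCartan x → ht x ≤ 17 := by
    intro x hx
    obtain ⟨r, hr, rfl⟩ := (isRoot_iff isType_E7 cs x).1 hx
    exact tab_ht r (List.mem_range.2 hr)
  have tr₁ := trans_up R C₁.root C₁.simple C₁.neg (c := c1) (fun b hb hne => by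
    obtain ⟨k1, k2⟩ := (m₁ _).1 hb
    obtain ⟨r, hr, rfl⟩ := (isRoot_iff isType_E7 cs b).1 k1
    obtain ⟨i, hi, hlt⟩ := tab_up1 r (List.mem_range.2 hr) k2 hne
    exact ⟨i, (m₁ _).2 ⟨isRoot_sr cs _ i, hi⟩, hlt⟩) (N := 17) (fun b hb => hht b (C₁.root b hb))
  have tr₃ := trans_up R C₃.root C₃.simple C₃.neg (c := c2) (fun b hb hne => by
    obtain ⟨k5, k6⟩ := (m₃ _).1 hb
    obtain ⟨k3, k4⟩ := (m₂ _).1 k5
    obtain ⟨k1, k2⟩ := (m₁ _).1 k3
    obtain ⟨r, hr, rfl⟩ := (isRoot_iff isType_E7 cs b).1 k1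
    obtain ⟨i, ⟨hi1, hi2, hi3⟩, hlt⟩ := tab_up3 r (List.mem_range.2 hr) k2 k4 k6 hne
    exact ⟨i, (m₃ _).2 ⟨(m₂ _).2 ⟨(m₁ _).2 ⟨isRoot_sr cs _ i, hi1⟩, hi2⟩, hi3⟩, hlt⟩) (N := 17)
    (fun b hb => hht b (C₃.root b hb))
  -- the groups
  obtain ⟨v0, v33, v38, v62⟩ := tab_vec
  have mem0 : (0 : ℕ) ∈ FE7 := by decide
  have mem33 : (33 : ℕ) ∈ FE7 := by decide
  have mem38 : (38 : ℕ) ∈ FE7 := by decide
  have mem62 : (62 : ℕ) ∈ FE7 := by decide
  have J0 : AA (XX chevE7 7 F) c0 = JJ isType_E7.inList F 0 := by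
    rw [← JJ_eq isType_E7 (lt_E7 0 mem0), v0, AA_neg]
  have J33 : AA (XX chevE7 7 F) c1 = JJ isType_E7.inList F 33 := by
    rw [← JJ_eq isType_E7 (lt_E7 33 mem33), v33, AA_neg]
  have J38 : AA (XX chevE7 7 F) c2 = JJ isType_E7.inList F 38 := by
    rw [← JJ_eq isType_E7 (lt_E7 38 mem38), v38, AA_neg]
  have J62 : AA (XX chevE7 7 F) ce = JJ isType_E7.inList F 62 := by
    rw [← JJ_eq isType_E7 (lt_E7 62 mem62), v62, AA_neg]
  obtain ⟨w1, w2, we⟩ := tab_word
  obtain ⟨z₁, hz₁⟩ := exists_rp cs R.nsys (cs.wordProd [0, 2, 3, 4, 1, 3, 2, 0])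
  obtain ⟨z₂, hz₂⟩ := exists_rp cs R.nsys (cs.wordProd [5, 6, 4, 5, 0, 2, 3, 4, 1, 3, 2, 0])
  obtain ⟨ze, hze⟩ := exists_rp cs R.nsys (cs.wordProd [5, 4, 3, 2, 1, 3, 4, 5, 0, 2, 3, 4, 1, 3, 2, 0])
  have a1 : cj z₁ (AA (XX chevE7 7 F) c0) = AA (XX chevE7 7 F) c1 := by rw [cj_AA R r0 hz₁, rep_word, w1]
  have a2 : cj z₂ (AA (XX chevE7 7 F) c0) = AA (XX chevE7 7 F) c2 := by rw [cj_AA R r0 hz₂, rep_word, w2]
  have ae : cj ze (AA (XX chevE7 7 F) c0) = AA (XX chevE7 7 F) ce := by rw [cj_AA R r0 hze, rep_word, we]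
  obtain ⟨t₀, ht₀⟩ : ∃ t₀, t₀ = tt isType_E7.inList F 0 := ⟨_, rfl⟩
  rw [← ht₀] at hJ₀
  simp only [← ht₀] at hcl
  have hmem : t₀ ∈ AA (XX chevE7 7 F) c0 := by
    rw [J0, ht₀]; exact tt_mem _ (lt_E7 0 mem0)
  have ht₀1 : t₀ ≠ 1 := by
    intro h
    apply hG_ne_one h2 mem0
    rw [ht₀] at h
    exact congrArg Subtype.val h
  have ht₀2 : t₀ * t₀ = 1 := by rw [ht₀]; exact tt_mul_self _ (lt_E7 0 mem0)
  have hun : ∀ {r : ℕ}, r ∈ FE7 → ∀ {z : GE F}, z * t₀ * z⁻¹ ∈ JJ isType_E7.inList F r →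
      z * t₀ * z⁻¹ = tt isType_E7.inList F r := by
    intro r hr z hz
    refine inv_unique isType_E7.inList h2 (lt_E7 r hr) (hG_ne_one h2 hr) hz ?_ ?_
    · have e : z * t₀ * z⁻¹ * (z * t₀ * z⁻¹) = z * (t₀ * t₀) * z⁻¹ := by group
      rw [e, ht₀2, mul_one, mul_inv_cancel]
    · intro h5
      apply ht₀1
      have e : t₀ = z⁻¹ * (z * t₀ * z⁻¹) * z := by group
      rw [e, h5]; group
  have b1 : z₁ * t₀ * z₁⁻¹ = tt isType_E7.inList F 33 := hun mem33 (by rw [← J33, ← a1]; exact conj_mem_cj.2 hmem)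
  have b2 : z₂ * t₀ * z₂⁻¹ = tt isType_E7.inList F 38 := hun mem38 (by rw [← J38, ← a2]; exact conj_mem_cj.2 hmem)
  have be : ze * t₀ * ze⁻¹ = tt isType_E7.inList F 62 := hun mem62 (by rw [← J62, ← ae]; exact conj_mem_cj.2 hmem)
  have hrel : t₀ * (z₁ * t₀ * z₁⁻¹) = ze * t₀ * ze⁻¹ := by
    rw [b1, be]
    have h1 := zP_eq_one (K := F) isType_E7 (I := [0, 33, 62]) (by
      intro a ha
      simp only [List.mem_cons, List.not_mem_nil, or_false] at ha
      rcases ha with rfl | rfl | rfl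
      · exact lt_E7 _ mem0
      · exact lt_E7 _ mem33
      · exact lt_E7 _ mem62) (by (delta Cfsg.Agent.H808.RV.prC Cfsg.Agent.H808.RV.sumP; rewrite [Cfsg.Agent.ChevFast.E7.cartan, Cfsg.Agent.ChevFast.E7.coroot]; decide +kernel))
    have h3 : t₀ * tt isType_E7.inList F 33 * tt isType_E7.inList F 62 = 1 := by
      apply Subtype.ext
      rw [Subgroup.coe_one, ← h1, ht₀]
      unfold zP
      simp only [List.map_cons, List.map_nil, List.prod_cons, List.prod_nil, mul_one, Subgroup.coe_mul]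
      rw [mul_assoc]
      rfl
    have h4 : tt isType_E7.inList F 62 * tt isType_E7.inList F 62 = 1 := tt_mul_self _ (lt_E7 _ mem62)
    exact mul_right_cancel (h3.trans h4.symm)
  have hnorm : ∀ m : GE F, m * t₀ = t₀ * m ↔ cj m (AA (XX chevE7 7 F) c0) = AA (XX chevE7 7 F) c0 := by
    intro m
    rw [J0, ht₀]
    exact norm_iff h2 mem0 m
  have hJg : ∀ g : GE F, J (g * t₀ * g⁻¹) = cj g (AA (XX chevE7 7 F) c0) := by
    intro g
    ext x
    rw [mem_cj, J0, ← hJ₀, ← hJ g t₀ (g⁻¹ * x * g)]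
    have e : g * (g⁻¹ * x * g) * g⁻¹ = x := by group
    rw [e]
  obtain ⟨y, y0, y33, y38⟩ := toral_abs R hs hab hG L₀ e₁ L₁ e₂ L₂ e₃ L₃ tr₁ tr₃ hmem hnorm a1 ae a2 hrel hcard hinv
    hcl (fun g g' hg hg' hne => by
      rw [← hJg, ← hJg]
      refine cm_iff.2 fun a ha b hb => ?_
      have hne1 : ∀ g : GE F, g * t₀ * g⁻¹ ≠ 1 := by
        intro g h5
        apply ht₀1
        have e : t₀ = g⁻¹ * (g * t₀ * g⁻¹) * g := by group
        rw [e, h5]; group
      exact hcm _ hg (hne1 g) _ hg' (hne1 g') (Ne.symm hne) a ha b hb)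
  rw [b1] at y33
  rw [b2] at y38
  rw [ht₀] at y0
  exact ⟨y, fun r hr => tt_mem_closure hr y0 y33 y38⟩

end E7

end Cfsg.Agent.H351.KKL
end

-- part: H425/KKL/SLInv
section
/-!
# S4546, E7: characters of `SL₂(q)` of full 2-degree are invariant under `GL₂(q)` (helper425)

* `tw δ` : the automorphism of `SL₂(F)` given by conjugation with `δ ∈ GL₂(F)`;
* `fact_le` : `v₂(χ(1)) ≤ v₂(m (m+1)) + 1` for `χ ∈ Irr(SL₂(q))`, `q = 2 m + 1`;
* `inv_of_fact` : if equality holds then `χ` is invariant under `GL₂(q)`.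
-/

set_option autoImplicit false
set_option linter.unusedSectionVars false

namespace Cfsg.Agent.H425.KKL

open Matrix Cfsg Cfsg.Agent.H984.SLTwo

variable {F : Type*} [Field F]

local notation "SL" => Matrix.SpecialLinearGroup (Fin 2) F
local notation "M₂" => Matrix (Fin 2) (Fin 2) F

/-- conjugation with `δ ∈ GL₂(F)` -/
def tw (δ : GL (Fin 2) F) : SL →* SL where
  toFun a := ⟨(δ : M₂) * (a : M₂) * ((δ⁻¹ : GL (Fin 2) F) : M₂), by
    have h : ((δ : M₂)).det * ((δ⁻¹ : GL (Fin 2) F) : M₂).det = 1 := by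
      rw [← Matrix.det_mul, ← Units.val_mul, mul_inv_cancel, Units.val_one, Matrix.det_one]
    rw [Matrix.det_mul, Matrix.det_mul, a.2, mul_one, h]⟩
  map_one' := by
    apply Subtype.ext
    simp only [_root_.Matrix.SpecialLinearGroup.coe_one, _root_.mul_one, _root_.Matrix.coe_units_inv, _root_.Matrix.mul_inv_of_invertible]
  map_mul' a b := by
    apply Subtype.ext
    have h : ((δ⁻¹ : GL (Fin 2) F) : M₂) * (δ : M₂) = 1 := by
      rw [← Units.val_mul, inv_mul_cancel, Units.val_one]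
    show (δ : M₂) * ((a : M₂) * (b : M₂)) * ((δ⁻¹ : GL (Fin 2) F) : M₂) =
      ((δ : M₂) * (a : M₂) * ((δ⁻¹ : GL (Fin 2) F) : M₂)) * ((δ : M₂) * (b : M₂) * ((δ⁻¹ : GL (Fin 2) F) : M₂))
    calc (δ : M₂) * ((a : M₂) * (b : M₂)) * ((δ⁻¹ : GL (Fin 2) F) : M₂)
        = (δ : M₂) * (a : M₂) * 1 * (b : M₂) * ((δ⁻¹ : GL (Fin 2) F) : M₂) := by
          rw [Matrix.mul_one]; simp only [Matrix.mul_assoc]
      _ = (δ : M₂) * (a : M₂) * (((δ⁻¹ : GL (Fin 2) F) : M₂) * (δ : M₂)) * (b : M₂) * ((δ⁻¹ : GL (Fin 2) F) : M₂) := by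
          rw [h]
      _ = _ := by simp only [Matrix.mul_assoc]

theorem coe_tw (δ : GL (Fin 2) F) (a : SL) :
    ((tw δ a : SL) : M₂) = (δ : M₂) * (a : M₂) * ((δ⁻¹ : GL (Fin 2) F) : M₂) := rfl

theorem tw_mul (δ ε : GL (Fin 2) F) (a : SL) : tw (δ * ε) a = tw δ (tw ε a) := by
  apply Subtype.ext
  show ((δ * ε : GL (Fin 2) F) : M₂) * (a : M₂) * (((δ * ε)⁻¹ : GL (Fin 2) F) : M₂) =
    (δ : M₂) * ((ε : M₂) * (a : M₂) * ((ε⁻¹ : GL (Fin 2) F) : M₂)) * ((δ⁻¹ : GL (Fin 2) F) : M₂)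
  rw [_root_.mul_inv_rev, Units.val_mul, Units.val_mul]
  simp only [Matrix.mul_assoc]

theorem tw_one (a : SL) : tw (1 : GL (Fin 2) F) a = a := by
  apply Subtype.ext
  show ((1 : GL (Fin 2) F) : M₂) * (a : M₂) * (((1 : GL (Fin 2) F)⁻¹ : GL (Fin 2) F) : M₂) = (a : M₂)
  rw [inv_one, Units.val_one, Matrix.one_mul, Matrix.mul_one]

theorem tw_inv_tw (δ : GL (Fin 2) F) (a : SL) : tw δ⁻¹ (tw δ a) = a := by
  rw [← tw_mul, inv_mul_cancel, tw_one]

/-- inner automorphisms -/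
theorem tw_toGL (b a : SL) : tw (Matrix.SpecialLinearGroup.toGL b) a = b * a * b⁻¹ := by
  apply Subtype.ext
  rfl

theorem tw_of_not_NS (δ : GL (Fin 2) F) {a : SL} (h : ¬ NS (a : M₂)) : tw δ a = a := by
  unfold NS at h
  push Not at h
  obtain ⟨h01, h10, h00⟩ := h
  have e : (a : M₂) = (a : M₂) 0 0 • (1 : M₂) := by
    ext i j
    (revert i j; simp only [h01, h10, h00, _root_.Fin.forall_fin_succ, Fin.isValue, _root_.Matrix.smul_apply, _root_.smul_eq_mul, _root_.Fin.succ_zero_eq_one, _root_.IsEmpty.forall_iff, _root_.and_true, _root_.Matrix.one_apply_eq, _root_.mul_one, Nat.reduceAdd, _root_.ne_eq, _root_.zero_ne_one, _root_.not_false_eq_true, _root_.Matrix.one_apply_ne, _root_.MulZeroClass.mul_zero, _root_.and_self, _root_.Fin.succ_ne_zero])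
  apply Subtype.ext
  rw [coe_tw, e, Matrix.mul_smul, Matrix.smul_mul, Matrix.mul_one, ← Units.val_mul, mul_inv_cancel, Units.val_one]

theorem tr_tw (δ : GL (Fin 2) F) (a : SL) : tr ((tw δ a : SL) : M₂) = tr (a : M₂) := by
  have h1 : ∀ m : M₂, tr m = Matrix.trace m := by
    intro m
    rw [Matrix.trace_fin_two]; rfl
  rw [h1, h1, coe_tw, Matrix.trace_mul_comm, ← Matrix.mul_assoc, ← Units.val_mul, inv_mul_cancel, Units.val_one,
    Matrix.one_mul]

theorem NS_tw (δ : GL (Fin 2) F) {a : SL} (h : NS (a : M₂)) : NS ((tw δ a : SL) : M₂) := by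
  by_contra hn
  have h1 := tw_of_not_NS δ⁻¹ hn
  rw [tw_inv_tw] at h1
  rw [← h1] at hn
  exact hn h

section Fin

variable [Fintype F] [DecidableEq F]

/-- class functions constant on the unipotent elements are invariant -/
theorem inv_of_unip (h2 : ringChar F ≠ 2) {f : SL → ℂ} (hf : IsClassFunction SL f)
    (hu : ∀ u : Fˣ, u⁻¹ = u → ∀ x : F, x ≠ 0 → ∀ y : F, y ≠ 0 → f (upp u x) = f (upp u y))
    (δ : GL (Fin 2) F) (a : SL) : f (tw δ a) = f a := by
  have hcl : ∀ {g h : SL}, IsConj g h → f g = f h := by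
    intro g h hgh
    obtain ⟨c, hc⟩ := isConj_iff.1 hgh
    rw [← hc]
    exact (hf g c).symm
  by_cases hNS : NS (a : M₂)
  · have hNS' := NS_tw δ hNS
    have htr := tr_tw δ a
    by_cases h4 : tr (a : M₂) ^ 2 = 4
    · have h5 : (tr (a : M₂) - 2) * (tr (a : M₂) + 2) = 0 := by linear_combination h4
      have h6 : ∃ u : Fˣ, u⁻¹ = u ∧ tr (a : M₂) = 2 * (u : F) := by
        rcases mul_eq_zero.1 h5 with h | h
        · exact ⟨1, inv_one, by rw [Units.val_one]; linear_combination h⟩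
        · exact ⟨-1, by rw [inv_neg, inv_one], by rw [Units.val_neg, Units.val_one]; linear_combination h⟩
      obtain ⟨u, hu1, hu2⟩ := h6
      obtain ⟨b, hb, hab⟩ := exists_conj_upp' hu1 hNS hu2
      obtain ⟨c, hc, hac⟩ := exists_conj_upp' hu1 hNS' (htr.trans hu2)
      rw [hcl hab, hcl hac]
      exact hu u hu1 c hc b hb
    · exact hcl (isConj_of_tr hNS' hNS htr (Or.inr (by rw [htr]; exact h4)))
  · rw [tw_of_not_NS δ hNS]

/-- **The 2-part of the degree.** -/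
theorem fact_main (h2 : ringChar F ≠ 2) {m : ℕ} (hm : Fintype.card F = 2 * m + 1) {χ : SL → ℂ}
    (hχ : IsIrrCharacter SL χ) {d : ℕ} (hd : χ 1 = (d : ℂ)) :
    d ≠ 0 ∧ d.factorization 2 ≤ (m * (m + 1)).factorization 2 + 1 ∧
    (d.factorization 2 = (m * (m + 1)).factorization 2 + 1 → ∀ (δ : GL (Fin 2) F) (a : SL), χ (tw δ a) = χ a) := by
  have hm0 : m ≠ 0 := by
    have := two_le_card (F := F)
    omega
  have hcl := Cfsg.Agent.Characters.Core.isIrr_isClassFunction hχ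
  have hmm : (m * (m + 1)).factorization 2 = m.factorization 2 + (m + 1).factorization 2 := by
    rw [Nat.factorization_mul hm0 (Nat.succ_ne_zero m)]; rfl
  have h22 : (2 : ℕ).factorization 2 = 1 := Nat.Prime.factorization_self Nat.prime_two
  rcases classify h2 hm hχ with ⟨α, -, hR, h1⟩ | ⟨h, h1⟩ | ⟨h, h1⟩ | ⟨h1, -⟩ | ⟨-, ⟨h1, hX⟩ | ⟨h1, -⟩⟩
  · have e : d = 2 * m + 2 := by rw [h1] at hd; exact_mod_cast hd.symm
    subst e
    refine ⟨by omega, ?_, fun _ δ a => ?_⟩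
    · have e : (2 * (m + 1)).factorization 2 = (2 : ℕ).factorization 2 + (m + 1).factorization 2 := by
        rw [Nat.factorization_mul two_ne_zero (Nat.succ_ne_zero m)]; rfl
      rw [show 2 * m + 2 = 2 * (m + 1) by ring, e, h22]
      omega
    · refine inv_of_unip h2 hcl (fun u hu x hx y hy => ?_) δ a
      rw [hR, R_upp_ne α hu hx, R_upp_ne α hu hy]
  · have e : d = 1 := by rw [h1] at hd; exact_mod_cast hd.symm
    subst e
    refine ⟨one_ne_zero, by simp, fun _ δ a => ?_⟩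
    rw [h]; rfl
  · have e : d = 2 * m + 1 := by rw [h1] at hd; exact_mod_cast hd.symm
    subst e
    refine ⟨by omega, ?_, fun _ δ a => ?_⟩
    · rw [Nat.factorization_eq_zero_of_not_dvd (by omega)]
      omega
    · refine inv_of_unip h2 hcl (fun u hu x hx y hy => ?_) δ a
      rw [h]
      show R (1 : MulChar F ℂ) (upp u x) - 1 = R (1 : MulChar F ℂ) (upp u y) - 1
      rw [R_upp_ne _ hu hx, R_upp_ne _ hu hy]
  · have e : d = m + 1 := by rw [h1] at hd; exact_mod_cast hd.symm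
    subst e
    exact ⟨by omega, by omega, fun h => by omega⟩
  · have e : d = 2 * m := by rw [h1] at hd; exact_mod_cast hd.symm
    subst e
    refine ⟨by omega, ?_, fun _ δ a => ?_⟩
    · rw [Nat.factorization_mul two_ne_zero hm0, Finsupp.add_apply, h22]
      omega
    · obtain ⟨g, hg⟩ := exists_ell (F := F)
      obtain ⟨θ, α, -, -, hX⟩ := hX g hg
      refine inv_of_unip h2 hcl (fun u hu x hx y hy => ?_) δ a
      rw [hX, X_upp_ne hg θ α hu hx, X_upp_ne hg θ α hu hy]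
  · have e : d = m := by rw [h1] at hd; exact_mod_cast hd.symm
    subst e
    exact ⟨hm0, by omega, fun h => by omega⟩

end Fin

end Cfsg.Agent.H425.KKL
end

-- part: H425/KKL/CProd
section
/-!
# S4546, E7: central products of seven `SL₂(q)` (helper425)

`abs_main` : `C` finite, `Y` a central product of seven groups `SL₂(q)` (`q` odd) with centre of order 8 generated by
the seven involutions, `C` induces automorphisms of `GL₂(q)` on the factors, `C/Y ≠ 1` is a 2-group: there is no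
irreducible character `θ` of `C` with `v₂(θ(1)) + 3 = v₂(|C|)`.
-/

set_option autoImplicit false
set_option linter.unusedSectionVars false

namespace Cfsg.Agent.H425.KKL

open Matrix Subgroup Cfsg Cfsg.Agent.H984.SLTwo Cfsg.Agent.Characters.Core

universe u v w

variable {F : Type v} [Field F]

local notation "SL" => Matrix.SpecialLinearGroup (Fin 2) F
local notation "M₂" => Matrix (Fin 2) (Fin 2) F

theorem fac_le {n k : ℕ} (hn : n ≠ 0) (h : n ≤ 2 ^ k) : n.factorization 2 ≤ k := by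
  have h1 : 2 ^ n.factorization 2 ≤ n := Nat.ordProj_le 2 hn
  exact (Nat.pow_le_pow_iff_right (by norm_num)).1 (h1.trans h)

theorem sum_subgroup_le {C : Type u} [Group C] [Fintype C] (Y : Subgroup C) [Fintype ↥Y] (f : C → ℝ)
    (hf : ∀ g, 0 ≤ f g) : ∑ y : ↥Y, f y ≤ ∑ g, f g := by
  have h1 : ∑ y : ↥Y, f y = ∑ g ∈ Finset.univ.map (Function.Embedding.subtype fun g : C => g ∈ Y), f g := by
    rw [Finset.sum_map]; rfl
  rw [h1]
  exact Finset.sum_le_sum_of_subset_of_nonneg (Finset.subset_univ _) fun _ _ _ => hf _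

section Prod

variable {ι : Type w} [Fintype ι] [DecidableEq ι] {C : Type u} [Group C] (φ : ι → Matrix.SpecialLinearGroup (Fin 2) F →* C)
  (hcomm : Pairwise fun i j => ∀ a b, Commute (φ i a) (φ j b))

/-- the product of the commuting homomorphisms -/
def cp : (ι → SL) →* C := MonoidHom.noncommPiCoprod φ hcomm

theorem cp_single (i : ι) (x : SL) : cp φ hcomm (Pi.mulSingle i x) = φ i x :=
  MonoidHom.noncommPiCoprod_mulSingle φ i x

theorem cp_range : (cp φ hcomm).range = ⨆ i, (φ i).range :=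
  MonoidHom.noncommPiCoprod_range (hcomm := hcomm)

/-- the conjugation with an element acting on the factors -/
theorem conj_prod {c : C} {δ : ι → GL (Fin 2) F} (hδ : ∀ i a, c * φ i a * c⁻¹ = φ i (tw (δ i) a)) (a : ι → SL) :
    c * cp φ hcomm a * c⁻¹ =
      cp φ hcomm (fun i => tw (δ i) (a i)) := by
  let T : (ι → SL) →* (ι → SL) :=
    { toFun := fun a i => tw (δ i) (a i)
      map_one' := by funext i; exact map_one _
      map_mul' := fun a b => by funext i; exact map_mul _ _ _ }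
  have h : (MulAut.conj c).toMonoidHom.comp (cp φ hcomm) =
      (cp φ hcomm).comp T := by
    refine MonoidHom.pi_ext fun i x => ?_
    have h1 : T (Pi.mulSingle i x) = Pi.mulSingle i (tw (δ i) x) := by
      funext j
      show tw (δ j) ((Pi.mulSingle i x : ι → SL) j) = (Pi.mulSingle i (tw (δ i) x) : ι → SL) j
      by_cases hij : j = i
      · subst hij
        rw [Pi.mulSingle_eq_same (M := fun _ : ι => SL) j x,
          Pi.mulSingle_eq_same (M := fun _ : ι => SL) j (tw (δ j) x)]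
      · rw [Pi.mulSingle_eq_of_ne (M := fun _ : ι => SL) hij x,
          Pi.mulSingle_eq_of_ne (M := fun _ : ι => SL) hij (tw (δ i) x), map_one]
    show c * cp φ hcomm (Pi.mulSingle i x) * c⁻¹ = cp φ hcomm (T (Pi.mulSingle i x))
    rw [h1, cp_single, cp_single, ← hδ]
  exact DFunLike.congr_fun h a

/-- the kernel consists of central elements -/
theorem ker_central (hinj : ∀ i, Function.Injective (φ i)) {a : ι → SL}
    (ha : cp φ hcomm a = 1) (i : ι) : a i ∈ center SL := by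
  rw [mem_center_iff]
  intro x
  have h1 : a * Pi.mulSingle i x * a⁻¹ * (Pi.mulSingle i x)⁻¹ = Pi.mulSingle i (a i * x * (a i)⁻¹ * x⁻¹) := by
    funext j
    by_cases hij : j = i
    · subst hij
      simp only [_root_.Pi.mul_apply, _root_.Pi.mulSingle_eq_same, _root_.Pi.inv_apply]
    · simp only [Pi.mulSingle_eq_of_ne hij, _root_.Pi.mul_apply, _root_.mul_one, _root_.Pi.inv_apply, _root_.mul_inv_cancel, _root_.inv_one]
  have h2 := congrArg (cp φ hcomm) h1
  rw [map_mul, map_mul, map_mul, map_inv, map_inv, ha, cp_single, cp_single, one_mul, inv_one, mul_one, mul_inv_cancel] at h2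
  have h3 := hinj i (h2.symm.trans (map_one _).symm)
  have h4 := mul_inv_eq_one.1 h3
  exact (mul_inv_eq_iff_eq_mul.1 h4).symm

end Prod

variable [Fintype F] [DecidableEq F]

theorem neg_one_eq : (-1 : SL) = upp (-1) 0 := by
  apply Subtype.ext
  rw [coe_upp]
  ext i j
  (revert i j; simp only [Matrix.SpecialLinearGroup.coe_neg, _root_.Fin.forall_fin_succ, _root_.Matrix.SpecialLinearGroup.coe_one, _root_.Matrix.neg_apply, _root_.Units.val_neg, _root_.Units.val_one, _root_.inv_neg, _root_.inv_one, _root_.Matrix.of_apply, _root_.Matrix.cons_val', _root_.Matrix.cons_val_fin_one, Fin.isValue, _root_.Matrix.cons_val_zero, _root_.Matrix.cons_val_succ, _root_.IsEmpty.forall_iff, _root_.and_true, _root_.Matrix.one_apply_eq, Nat.reduceAdd, _root_.Fin.succ_zero_eq_one, _root_.ne_eq, _root_.zero_ne_one, _root_.not_false_eq_true, _root_.Matrix.one_apply_ne, _root_.neg_zero, _root_.and_self, _root_.Fin.succ_ne_zero, _root_.neg_inj,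 _root_.true_and])

theorem center_cases {z : SL} (hz : z ∈ center SL) : z = 1 ∨ z = -1 := by
  have h1 : ¬ NS (z : M₂) := by
    rw [Matrix.SpecialLinearGroup.mem_center_iff] at hz
    obtain ⟨r, _, hr⟩ := hz
    rw [← hr]
    unfold NS
    simp
  rcases scalar_cases h1 with h | h
  · left; rw [h, upp_one_zero]
  · right; rw [h, neg_one_eq]

theorem fac_card_SL (h2 : ringChar F ≠ 2) {m : ℕ} (hm : Fintype.card F = 2 * m + 1) :
    (Nat.card SL).factorization 2 = (m * (m + 1)).factorization 2 + 2 := by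
  have hm0 : m ≠ 0 := by
    have := two_le_card (F := F)
    omega
  have e : Nat.card SL = (2 * m + 1) * (2 ^ 2 * (m * (m + 1))) := by
    rw [card_SL, hm]
    have : (2 * m + 1) ^ 2 - 1 = 2 ^ 2 * (m * (m + 1)) := by
      have : (2 * m + 1) ^ 2 = 2 ^ 2 * (m * (m + 1)) + 1 := by ring
      omega
    rw [this]
  have h3 : m * (m + 1) ≠ 0 := Nat.mul_ne_zero hm0 (Nat.succ_ne_zero m)
  have h4 : (2 * m + 1).factorization 2 = 0 := Nat.factorization_eq_zero_of_not_dvd (by omega)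
  rw [e, Nat.factorization_mul (by omega) (by positivity), Nat.factorization_mul (by norm_num) h3, Finsupp.add_apply,
    Finsupp.add_apply, h4, Nat.factorization_pow, Finsupp.smul_apply, Nat.Prime.factorization_self Nat.prime_two]
  simp only [_root_.smul_eq_mul, _root_.mul_one, _root_.zero_add]
  ring

section Main

variable {ι : Type w} [Fintype ι] [DecidableEq ι] {C : Type u} [Group C] [Finite C] (φ : ι → Matrix.SpecialLinearGroup (Fin 2) F →* C)
  (hcomm : Pairwise fun i j => ∀ a b, Commute (φ i a) (φ j b))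

/-- the kernel is small -/
theorem card_ker_le (hι : Fintype.card ι = 7) (hinj : ∀ i, Function.Injective (φ i))
    (hcl : 8 ≤ Nat.card ↥(_root_.Subgroup.closure (Set.range fun i => φ i (-1)))) :
    Nat.card ↥(cp φ hcomm).ker ≤ 2 ^ 4 := by
  set Φ := cp φ hcomm with hΦ
  let Z : Subgroup (ι → SL) := Subgroup.pi Set.univ fun _ => zpowers (-1 : SL)
  have hnn : (-1 : SL) * (-1) = 1 := by simp
  have hZ2 : Nat.card ↥(zpowers (-1 : SL)) ≤ 2 := by
    rw [Nat.card_zpowers]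
    exact orderOf_le_of_pow_eq_one two_pos (by rw [sq, hnn])
  have hZ : Nat.card ↥Z ≤ 2 ^ 7 := by
    have h1 : Function.Injective (fun (z : ↥Z) (i : ι) => (⟨(z : ι → SL) i, z.2 i (Set.mem_univ i)⟩ : ↥(zpowers (-1 : SL)))) := by
      intro z z' h
      apply Subtype.ext
      funext i
      exact congrArg Subtype.val (congrFun h i)
    have h3 := Nat.card_le_card_of_injective _ h1
    rw [Nat.card_pi] at h3
    calc Nat.card ↥Z ≤ ∏ _i : ι, Nat.card ↥(zpowers (-1 : SL)) := h3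
      _ = Nat.card ↥(zpowers (-1 : SL)) ^ 7 := by rw [Finset.prod_const, Finset.card_univ, hι]
      _ ≤ 2 ^ 7 := Nat.pow_le_pow_left hZ2 7
  -- the kernel lies in `Z`
  have hker : Φ.ker ≤ Z := by
    intro a ha
    rw [Subgroup.mem_pi]
    intro i _
    rcases center_cases (ker_central φ hcomm hinj (MonoidHom.mem_ker.1 ha) i) with h | h
    · rw [h]; exact one_mem _
    · rw [h]; exact mem_zpowers _
  have himg : _root_.Subgroup.closure (Set.range fun i => φ i (-1)) ≤ Z.map Φ := by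
    rw [closure_le]
    rintro _ ⟨i, rfl⟩
    refine ⟨Pi.mulSingle i (-1), ?_, cp_single φ hcomm i _⟩
    rw [SetLike.mem_coe, Subgroup.mem_pi]
    intro j _
    by_cases hij : j = i
    · subst hij; rw [Pi.mulSingle_eq_same]; exact mem_zpowers _
    · rw [Pi.mulSingle_eq_of_ne hij]; exact one_mem _
  have h8 : 8 ≤ Nat.card ↥(Z.map Φ) := hcl.trans (Nat.card_le_card_of_injective _ (inclusion_injective himg))
  have h9 : Nat.card ↥(Z.map Φ) * Nat.card ↥Φ.ker = Nat.card ↥Z := by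
    have h10 : Nat.card ↥(Z.map Φ) = (Φ.ker.subgroupOf Z).index := by
      have e1 : (Φ.comp Z.subtype).ker = Φ.ker.subgroupOf Z := by
        ext x; rfl
      have e2 : (Φ.comp Z.subtype).range = Z.map Φ := by
        rw [← MonoidHom.map_range, Subgroup.range_subtype]
      rw [← e2, ← e1, Subgroup.index_ker]
    have h11 : Nat.card ↥(Φ.ker.subgroupOf Z) = Nat.card ↥Φ.ker :=
      Nat.card_congr (subgroupOfEquivOfLe hker).toEquiv
    rw [h10, ← h11]
    exact Subgroup.index_mul_card _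
  by_contra hlt
  push Not at hlt
  have : 8 * (2 ^ 4 + 1) ≤ 2 ^ 7 := by
    calc 8 * (2 ^ 4 + 1) ≤ Nat.card ↥(Z.map Φ) * Nat.card ↥Φ.ker := Nat.mul_le_mul h8 hlt
      _ = Nat.card ↥Z := h9
      _ ≤ 2 ^ 7 := hZ
  omega

/-- **Main theorem** -/
theorem abs_main (h2 : ringChar F ≠ 2) (hι : Fintype.card ι = 7) (hinj : ∀ i, Function.Injective (φ i))
    (hcl : 8 ≤ Nat.card ↥(_root_.Subgroup.closure (Set.range fun i => φ i (-1))))
    (hconj : ∀ (c : C) (i : ι), ∃ δ : GL (Fin 2) F, ∀ a, c * φ i a * c⁻¹ = φ i (tw δ a))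
    (hpow : ∀ c : C, ∃ k : ℕ, c ^ 2 ^ k ∈ (cp φ hcomm).range)
    (hne : (cp φ hcomm).range ≠ ⊤)
    {θ : C → ℂ} (hθ : IsIrrCharacter C θ) {n : ℕ} (hn : θ 1 = n)
    (hz : n.factorization 2 + 3 = (Nat.card C).factorization 2) : False := by
  classical
  have := Fintype.ofFinite C
  set Φ := cp φ hcomm with hΦ
  set Y : Subgroup C := Φ.range with hY
  obtain ⟨m, hm⟩ : ∃ m, Fintype.card F = 2 * m + 1 := by
    have h1 := FiniteField.odd_card_of_char_ne_two h2
    exact ⟨Fintype.card F / 2, by omega⟩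
  set! v := (m * (m + 1)).factorization 2 with hv
  -- `Y` is normal
  have hYn : Y.Normal := by
    refine ⟨?_⟩
    rintro _ ⟨a, rfl⟩ c
    choose δ hδ using hconj c
    exact ⟨_, (conj_prod φ hcomm hδ a).symm⟩
  -- the index of `Y` is a power of 2
  obtain ⟨k, hk⟩ : ∃ k, Y.index = 2 ^ k := by
    have h1 : IsPGroup 2 (C ⧸ Y) := by
      intro x
      obtain ⟨c, rfl⟩ := QuotientGroup.mk_surjective x
      obtain ⟨k, hk⟩ := hpow c
      exact ⟨k, by rw [← QuotientGroup.mk_pow, QuotientGroup.eq_one_iff]; exact hk⟩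
    exact IsPGroup.iff_card.1 h1
  have hk0 : k ≠ 0 := by
    rintro rfl
    rw [pow_zero, Subgroup.index_eq_one] at hk
    exact hne hk
  -- the order of `Y`
  have hcardY : 7 * (v + 1) + 3 ≤ (Nat.card ↥Y).factorization 2 := by
    have h1 : Nat.card ↥Y * Nat.card ↥Φ.ker = Nat.card (ι → SL) := by
      rw [hY, ← Subgroup.index_ker]
      exact Subgroup.index_mul_card _
    have h3 : (Nat.card (ι → SL)).factorization 2 = 7 * (v + 2) := by
      rw [Nat.card_pi, Finset.prod_const, Finset.card_univ, hι, Nat.factorization_pow, Finsupp.smul_apply,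
        fac_card_SL h2 hm, smul_eq_mul]
    have h4 := fac_le (Nat.card_pos (α := ↥Φ.ker)).ne' (card_ker_le φ hcomm hι hinj hcl)
    rw [← h1, Nat.factorization_mul (Nat.card_pos).ne' (Nat.card_pos).ne', Finsupp.add_apply] at h3
    omega
  have hcardC : (Nat.card C).factorization 2 = (Nat.card ↥Y).factorization 2 + k := by
    rw [← Subgroup.card_mul_index Y, hk, Nat.factorization_mul (Nat.card_pos).ne' (by positivity), Finsupp.add_apply,
      Nat.factorization_pow, Finsupp.smul_apply, Nat.Prime.factorization_self Nat.prime_two, smul_eq_mul, mul_one]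
  obtain ⟨ψ, d, hψ, hd, hne0, hdn, hnd⟩ := H681.DegBasic.exists_constituent Y hθ hn
  rw [hk] at hnd
  have hn0 : n ≠ 0 := by
    obtain ⟨n', hn', hn''⟩ := isIrr_apply_one hθ
    rw [hn] at hn''
    have : n = n' := by exact_mod_cast hn''
    omega
  obtain ⟨e, he⟩ := hdn
  have hd0 : d ≠ 0 := fun h => hn0 (by rw [he, h, zero_mul])
  have he0 : e ≠ 0 := fun h => hn0 (by rw [he, h, mul_zero])
  have hnde : n / d = e := by rw [he, Nat.mul_div_cancel_left e (Nat.pos_of_ne_zero hd0)]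
  rw [hnde] at hnd
  have hfe : e.factorization 2 ≤ k := by
    refine fac_le he0 (Nat.le_of_dvd (by positivity) hnd)
  have hfn : n.factorization 2 = d.factorization 2 + e.factorization 2 := by
    rw [he, Nat.factorization_mul hd0 he0]; rfl
  -- the constituent is a product
  have hψ' : IsIrrCharacter (ι → SL) (ψ ∘ Φ.rangeRestrict) :=
    isIrr_comp Φ.rangeRestrict Φ.rangeRestrict_surjective hψ
  obtain ⟨η, hη, hprod⟩ := Cfsg.Agent.H624.MGroup.exists_pi _ hψ'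
  have hdeg : ∀ i, ∃ d' : ℕ, η i 1 = (d' : ℂ) := fun i => by
    obtain ⟨d', -, hd'⟩ := isIrr_apply_one (hη i)
    exact ⟨d', hd'⟩
  choose dd hdd using hdeg
  have hmain := fun i => fact_main h2 hm (hη i) (hdd i)
  have hdprod : d = ∏ i, dd i := by
    have h1 := hprod 1
    have h3 : (ψ ∘ Φ.rangeRestrict) 1 = ψ 1 := by
      show ψ (Φ.rangeRestrict 1) = ψ 1
      rw [map_one]
    rw [h3, hd] at h1
    have h4 : ∀ i, η i ((1 : ι → SL) i) = (dd i : ℂ) := fun i => hdd i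
    simp only [h4] at h1
    exact_mod_cast h1
  have hfd : d.factorization 2 = ∑ i, (dd i).factorization 2 := by
    rw [hdprod, Nat.factorization_prod (fun i _ => (hmain i).1), Finsupp.finsetSum_apply]
  have hle : ∀ i ∈ Finset.univ, (dd i).factorization 2 ≤ v + 1 := fun i _ => (hmain i).2.1
  have hsum : ∑ _i : ι, (v + 1) = 7 * (v + 1) := by
    rw [Finset.sum_const, Finset.card_univ, hι, smul_eq_mul]
  have hfd1 : ∑ i, (dd i).factorization 2 ≤ 7 * (v + 1) := by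
    rw [← hsum]; exact Finset.sum_le_sum hle
  have hfd2 : ∑ i, (dd i).factorization 2 = ∑ _i : ι, (v + 1) := by
    rw [hsum]; omega
  have hall := (Finset.sum_eq_sum_iff_of_le hle).1 hfd2
  have hinv : ∀ i (δ : GL (Fin 2) F) (a : SL), η i (tw δ a) = η i a :=
    fun i => (hmain i).2.2 (hall i (Finset.mem_univ i))
  -- `ψ` is invariant
  have hψinv : ∀ c : C, ψ ∘ (MulAut.conjNormal c : MulAut ↥Y) = ψ := by
    intro c
    funext y
    obtain ⟨a, ha⟩ := Φ.rangeRestrict_surjective y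
    choose δ hδ using hconj c
    have h1 : (MulAut.conjNormal c : MulAut ↥Y) y = Φ.rangeRestrict (fun i => tw (δ i) (a i)) := by
      apply Subtype.ext
      rw [← ha, MulAut.conjNormal_apply]
      exact conj_prod φ hcomm hδ a
    show ψ ((MulAut.conjNormal c : MulAut ↥Y) y) = ψ y
    rw [h1, ← ha]
    have h3 := hprod (fun i => tw (δ i) (a i))
    have h4 := hprod a
    have h5 : ∏ i, η i (tw (δ i) (a i)) = ∏ i, η i (a i) := Finset.prod_congr rfl fun i _ => hinv i _ _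
    exact h3.trans (h5.trans h4.symm)
  -- the restriction is a multiple of `ψ`
  have hres := Cfsg.Agent.CharactersDeep.CliffordSum.restrict_eq_smul_sum Y hθ hψ hne0
  have himg : Finset.univ.image (fun x : C => ψ ∘ (MulAut.conjNormal x : MulAut ↥Y)) = {ψ} := by
    ext f
    rw [Finset.mem_image, Finset.mem_singleton]
    constructor
    · rintro ⟨x, -, rfl⟩; exact hψinv x
    · rintro rfl; exact ⟨1, Finset.mem_univ _, hψinv 1⟩
  rw [himg, Finset.sum_singleton] at hres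
  set! z : ℂ := classInner (fun n : ↥Y => θ n) ψ with hz'; rewrite [← hz'] at hres hne0
  have hze : z = e := by
    have h1 := congrFun hres 1
    have h3 : θ ((1 : ↥Y) : C) = n := by rw [← hn]; rfl
    rw [h3, Pi.smul_apply, smul_eq_mul, hd, he] at h1
    push_cast at h1
    have hd0' : (d : ℂ) ≠ 0 := Nat.cast_ne_zero.2 hd0
    have h4 : (d : ℂ) * (z - e) = 0 := by linear_combination -h1
    rcases mul_eq_zero.1 h4 with h | h
    · exact absurd h hd0'
    · linear_combination h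
  -- norms
  have hnorm : e ^ 2 * Nat.card ↥Y ≤ Nat.card C := by
    have h1 := classInner_irr_self hθ
    have h3 := classInner_irr_self hψ
    rw [classInner_self_eq_ofReal] at h1 h3
    have h1' : ∑ g : C, Complex.normSq (θ g) = Nat.card C := by
      have h5 : ((Nat.card C : ℝ))⁻¹ * ∑ g : C, Complex.normSq (θ g) = 1 := by exact_mod_cast h1
      have h6 : (Nat.card C : ℝ) ≠ 0 := Nat.cast_ne_zero.2 (Nat.card_pos).ne'
      field_simp at h5
      linarith only [h5]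
    have h3' : ∑ g : ↥Y, Complex.normSq (ψ g) = Nat.card ↥Y := by
      have h5 : ((Nat.card ↥Y : ℝ))⁻¹ * ∑ g : ↥Y, Complex.normSq (ψ g) = 1 := by exact_mod_cast h3
      have h6 : (Nat.card ↥Y : ℝ) ≠ 0 := Nat.cast_ne_zero.2 (Nat.card_pos).ne'
      field_simp at h5
      linarith only [h5]
    have h7 : ∑ g : ↥Y, Complex.normSq (θ (g : C)) = (e : ℝ) ^ 2 * Nat.card ↥Y := by
      rw [← h3', Finset.mul_sum]
      refine Finset.sum_congr rfl fun g _ => ?_
      have h8 := congrFun hres g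
      rw [hze] at h8
      have h9 : θ (g : C) = (e : ℂ) * ψ g := h8
      rw [h9, Complex.normSq_mul, Complex.normSq_natCast, sq]
    have h8 : ∑ g : ↥Y, Complex.normSq (θ (g : C)) ≤ ∑ g : C, Complex.normSq (θ g) :=
      (sum_subgroup_le Y _ fun _ => Complex.normSq_nonneg _ :)
    rw [h7, h1'] at h8
    exact_mod_cast h8
  have hee : e ^ 2 ≤ 2 ^ k := by
    rw [← Subgroup.card_mul_index Y, hk, mul_comm] at hnorm
    exact Nat.le_of_mul_le_mul_left hnorm Nat.card_pos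
  have hek : k ≤ e.factorization 2 := by omega
  have h2k : 2 ^ k ≤ e := (Nat.pow_le_pow_right two_pos hek).trans (Nat.ordProj_le 2 he0)
  have h2k1 : 2 ≤ 2 ^ k := by
    calc 2 = 2 ^ 1 := by norm_num
      _ ≤ 2 ^ k := Nat.pow_le_pow_right two_pos (Nat.one_le_iff_ne_zero.2 hk0)
  nlinarith only [hee, h2k, h2k1]

end Main

end Cfsg.Agent.H425.KKL
end

-- part: H425/KKL/SevenTor
section
/-!
# S4546, E7: the centralizer of `D = ⟨h_a(-1)⟩`, `a` in the frame of seven orthogonal roots (helper425)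

`fr` : the frame; `Ps i` : the root `SL₂`; `YG` : the product of the seven root `SL₂`;
* `tor_conj` : the torus acts on the factors by `diag(χ, 1)`;
* `cent_eq` : an element commuting with all `h_a(-1)` is `y t`, `y ∈ YG`, `t` in the torus;
* `tor_sq` : `t² ∈ YG`; `exists_tor` : some `t` is not in `YG`.
-/

set_option autoImplicit false
set_option linter.unusedSectionVars false

namespace Cfsg.Agent.H425.KKL

open Subgroup Cfsg Cfsg.Lie Cfsg.Lie.ChevalleyDatum Cfsg.Agent.ChevalleyStructure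
  Cfsg.Agent.ChevalleyStructure.Elts Cfsg.Agent.ChevalleyStructure.NPerm Cfsg.Agent.ChevalleyStructure.CoxeterGeom
  Cfsg.Agent.ChevalleyStructure.CoxeterGeomTypes
  Cfsg.Agent.ChevalleyStructure.RootVec
  Cfsg.Agent.Nodes.RGDChev Cfsg.Agent.H412.OT Cfsg.Agent.H3.OT Cfsg.Agent.Nodes.Reps
  Cfsg.Agent.Tits.Roots Cfsg.Agent.Tits.Core
open Cfsg.Agent.Nodes.RGDFoldSL (wS hS coe_wS coe_hS psi psi_up psi_lo psi_wS psi_hS)
open Cfsg.Agent.ChevalleyStructure.SL2Hom (up lo mem_closure_SL2)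
open Cfsg.Agent.H808.RV

universe u

/-- the frame -/
def fr : Fin 7 → ℕ := ![0, 33, 38, 47, 52, 59, 62]

theorem fr_mem : ∀ i, fr i ∈ FE7 := by decide
theorem exists_fr : ∀ r ∈ FE7, ∃ i, fr i = r := by decide
theorem fr_inj : ∀ i j, fr i = fr j → i = j := by decide

theorem e7T : IsType chevE7 7 CoxeterMatrix.E₇ := by simp [IsType, typeList]

theorem fr_lt (i : Fin 7) : fr i < chevE7.nroots := lt_E7 _ (fr_mem i)

/-- the roots with even pairings are `± fr i` -/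
def tabP : Bool :=
  (List.range chevE7.nroots).all fun s => (FE7.any fun r => prC chevE7 r s % 2 != 0) ||
    (FE7.any fun r => (s == r) || (s == chevE7.neg r))

theorem tabP_true : tabP = true := by (delta Cfsg.Agent.H425.KKL.tabP Cfsg.Agent.H808.RV.prC; rewrite [Cfsg.Agent.ChevFast.E7.cartan, Cfsg.Agent.ChevFast.E7.coroot, Cfsg.Agent.ChevFast.E7.neg]; decide +kernel)

theorem tabP_spec {s : ℕ} (hs : s < chevE7.nroots) (h : ∀ r ∈ FE7, prC chevE7 r s % 2 = 0) :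
    ∃ r ∈ FE7, s = r ∨ s = chevE7.neg r := by
  have h0 := tabP_true
  unfold tabP at h0
  have h1 := List.all_eq_true.1 h0 s (List.mem_range.2 hs)
  simp only [Bool.or_eq_true, List.any_eq_true, bne_iff_ne, ne_eq, beq_iff_eq] at h1
  rcases h1 with ⟨r, hr, h1⟩ | ⟨r, hr, h1⟩
  · exact absurd (h r hr) h1
  · exact ⟨r, hr, h1⟩

/-- `2 α_i = Σ ⟨α_i, a⟩ a` in terms of pairings -/
theorem tabS : ∀ i : Fin 7, ∀ j : Fin 7,
    (∑ k : Fin 7, prC chevE7 (fr k) (chevE7.simple i) * prC chevE7 (fr k) (chevE7.simple j)) =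
      2 * chevE7.cartan i (chevE7.simple j) := by (delta Cfsg.Agent.H808.RV.prC; rewrite [Cfsg.Agent.ChevFast.E7.cartan, Cfsg.Agent.ChevFast.E7.coroot]; decide +kernel)

section Basic

variable {K : Type u} [Field K]

local notation "hD7" => e7T.inList

/-- the root `SL₂` of the frame -/
noncomputable def Ps (K : Type u) [Field K] (i : Fin 7) : Matrix.SpecialLinearGroup (Fin 2) K →* GL chevE7.Idx K :=
  psi e7T.inList K (fr i)

theorem Ps_comm {i j : Fin 7} (h : i ≠ j) (A B : Matrix.SpecialLinearGroup (Fin 2) K) :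
    Ps K i A * Ps K j B = Ps K j B * Ps K i A := by
  have h1 := tabO_spec tabO_E7 (fr_mem i) (fr_mem j) fun e => h (fr_inj i j e)
  exact psi_comm e7T.inList (fr_lt i) (fr_lt j) h1.1 h1.2 A B

theorem hS_neg_one : (hS (-1 : K) : Matrix.SpecialLinearGroup (Fin 2) K) = -1 := by
  apply Subtype.ext
  rw [coe_hS (neg_ne_zero.2 one_ne_zero)]
  ext i j
  (revert i j; simp only [Matrix.SpecialLinearGroup.coe_neg, _root_.Fin.forall_fin_succ, _root_.inv_neg, _root_.inv_one, _root_.Matrix.of_apply, _root_.Matrix.cons_val', _root_.Matrix.cons_val_fin_one, _root_.Matrix.SpecialLinearGroup.coe_one, _root_.Matrix.neg_apply, Fin.isValue, _root_.Matrix.cons_val_zero, _root_.Matrix.cons_val_succ, _root_.IsEmpty.forall_iff, _root_.and_true, _root_.Matrix.one_apply_eq, Nat.reduceAdd, _root_.Fin.succ_zero_eq_one, _root_.ne_eq, _root_.zero_ne_one, _root_.not_false_eq_true, _root_.Matrix.one_apply_ne, _root_.neg_zero, _root_.and_self, _root_.Fin.succ_ne_zero,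 _root_.neg_inj, _root_.true_and])

theorem Ps_neg_one (i : Fin 7) : Ps K i (-1) = hG e7T.inList (fr i) (-1 : K) := by
  rw [← hS_neg_one]
  exact psi_hS e7T.inList (fr_lt i) _

theorem Ps_mem (i : Fin 7) (A : Matrix.SpecialLinearGroup (Fin 2) K) : Ps K i A ∈ chevE7.group K :=
  psi_mem_group e7T.inList (fr_lt i) A

theorem chi_neg {t : GL chevE7.Idx K} (ht : t ∈ chevE7.diagonalSubgroup K) {s : ℕ} (hs : s < chevE7.nroots) :
    chi chevE7 K t (chevE7.neg s) = (chi chevE7 K t s)⁻¹ := by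
  rw [chi_vec e7T ht (_root_.Cfsg.Agent.ChevalleyStructure.NPerm.neg_lt e7T.inList hs), chi_vec e7T ht hs, ← Finset.prod_inv_distrib]
  refine Finset.prod_congr rfl fun j _ => ?_
  rw [vec_neg e7T hs, Pi.neg_apply, zpow_neg]

/-- `diag (c, 1)` -/
def dg (c : K) (hc : c ≠ 0) : GL (Fin 2) K :=
  Matrix.GeneralLinearGroup.mkOfDetNeZero !![c, 0; 0, 1] (by simpa using hc)

theorem coe_dg (c : K) (hc : c ≠ 0) : ((dg c hc : GL (Fin 2) K) : Matrix (Fin 2) (Fin 2) K) = !![c, 0; 0, 1] := rfl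

theorem tw_dg_up (c : K) (hc : c ≠ 0) (a : K) : tw (dg c hc) (up a) = up (c * a) := by
  apply Subtype.ext
  rw [coe_tw]
  have h : ((dg c hc : GL (Fin 2) K) : Matrix (Fin 2) (Fin 2) K) * ((up a : Matrix.SpecialLinearGroup (Fin 2) K) :
      Matrix (Fin 2) (Fin 2) K) = ((up (c * a) : Matrix.SpecialLinearGroup (Fin 2) K) : Matrix (Fin 2) (Fin 2) K) *
      ((dg c hc : GL (Fin 2) K) : Matrix (Fin 2) (Fin 2) K) := by
    rw [coe_dg]
    show !![c, 0; 0, 1] * !![1, a; 0, 1] = !![1, c * a; 0, 1] * !![c, 0; 0, 1]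
    ext i j
    (revert i j; simp only [Matrix.mul_apply, Fin.sum_univ_two, _root_.Fin.forall_fin_succ, _root_.Matrix.of_apply, _root_.Matrix.cons_val', _root_.Matrix.cons_val_fin_one, Fin.isValue, _root_.Matrix.cons_val_zero, _root_.Matrix.cons_val_one, _root_.mul_one, _root_.MulZeroClass.mul_zero, _root_.add_zero, _root_.Matrix.cons_val_succ, _root_.zero_add, _root_.forall_const, _root_.one_mul, _root_.and_self, _root_.MulZeroClass.zero_mul, _root_.implies_true])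
  rw [h, Matrix.mul_assoc, ← Units.val_mul, mul_inv_cancel, Units.val_one, Matrix.mul_one]

theorem tw_dg_lo (c : K) (hc : c ≠ 0) (a : K) : tw (dg c hc) (lo a) = lo (c⁻¹ * a) := by
  apply Subtype.ext
  rw [coe_tw]
  have h : ((dg c hc : GL (Fin 2) K) : Matrix (Fin 2) (Fin 2) K) * ((lo a : Matrix.SpecialLinearGroup (Fin 2) K) :
      Matrix (Fin 2) (Fin 2) K) = ((lo (c⁻¹ * a) : Matrix.SpecialLinearGroup (Fin 2) K) :
      Matrix (Fin 2) (Fin 2) K) * ((dg c hc : GL (Fin 2) K) : Matrix (Fin 2) (Fin 2) K) := by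
    rw [coe_dg]
    show !![c, 0; 0, 1] * !![1, 0; a, 1] = !![1, 0; c⁻¹ * a, 1] * !![c, 0; 0, 1]
    ext i j
    (revert i j; simp only [Matrix.mul_apply, Fin.sum_univ_two, _root_.Fin.forall_fin_succ, _root_.Matrix.of_apply, _root_.Matrix.cons_val', _root_.Matrix.cons_val_fin_one, Fin.isValue, _root_.Matrix.cons_val_zero, _root_.Matrix.cons_val_one, _root_.mul_one, _root_.MulZeroClass.mul_zero, _root_.add_zero, _root_.Matrix.cons_val_succ, _root_.zero_add, _root_.implies_true, _root_.MulZeroClass.zero_mul, _root_.one_mul, _root_.forall_const, _root_.and_true, _root_.true_and]) <;> (repeat' with_reducible apply And.intro)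
    field_simp
  rw [h, Matrix.mul_assoc, ← Units.val_mul, mul_inv_cancel, Units.val_one, Matrix.mul_one]

/-- **The torus acts on the factors.** -/
theorem tor_conj {t : GL chevE7.Idx K} (ht : t ∈ chevE7.diagonalSubgroup K) (i : Fin 7)
    (A : Matrix.SpecialLinearGroup (Fin 2) K) :
    t * Ps K i A * t⁻¹ = Ps K i (tw (dg (chi chevE7 K t (fr i)) (chi_ne_zero e7T.inList ht _)) A) := by
  have h3 : A ∈ MonoidHom.eqLocus ((MulAut.conj t).toMonoidHom.comp (Ps K i))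
      ((Ps K i).comp (tw (dg (chi chevE7 K t (fr i)) (chi_ne_zero e7T.inList ht _)))) := by
    refine (Subgroup.closure_le _).2 ?_ (mem_closure_SL2 A)
    rintro _ (⟨a, rfl⟩ | ⟨a, rfl⟩)
    · show t * Ps K i (up a) * t⁻¹ = Ps K i (tw _ (up a))
      rw [tw_dg_up, Ps, psi_up e7T.inList (fr_lt i), psi_up e7T.inList (fr_lt i), tor_conj_xG e7T.inList ht (fr_lt i)]
    · show t * Ps K i (lo a) * t⁻¹ = Ps K i (tw _ (lo a))
      rw [tw_dg_lo, Ps, psi_lo e7T.inList (fr_lt i), psi_lo e7T.inList (fr_lt i),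
        tor_conj_xG e7T.inList ht (_root_.Cfsg.Agent.ChevalleyStructure.NPerm.neg_lt e7T.inList (fr_lt i)), chi_neg ht (fr_lt i)]
  exact h3

/-- the product of the seven factors -/
noncomputable def YG (K : Type u) [Field K] : Subgroup (GL chevE7.Idx K) := ⨆ i, (Ps K i).range

theorem Ps_mem_YG (i : Fin 7) (A : Matrix.SpecialLinearGroup (Fin 2) K) : Ps K i A ∈ YG K :=
  (le_iSup (fun i => (Ps K i).range) i) ⟨A, rfl⟩

theorem tor_norm_YG {t : GL chevE7.Idx K} (ht : t ∈ chevE7.diagonalSubgroup K) {y : GL chevE7.Idx K}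
    (hy : y ∈ YG K) : t * y * t⁻¹ ∈ YG K := by
  have h1 : YG K ≤ (YG K).comap (MulAut.conj t).toMonoidHom := by
    refine iSup_le fun i => ?_
    rintro _ ⟨A, rfl⟩
    show t * Ps K i A * t⁻¹ ∈ YG K
    rw [tor_conj ht]
    exact Ps_mem_YG i _
  exact h1 hy

/-- `Y T` -/
noncomputable def YT (K : Type u) [Field K] : Subgroup (GL chevE7.Idx K) where
  carrier := {g | ∃ y ∈ YG K, ∃ t ∈ chevE7.diagonalSubgroup K, g = y * t}
  one_mem' := ⟨1, one_mem _, 1, one_mem _, (mul_one _).symm⟩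
  mul_mem' := by
    rintro _ _ ⟨y, hy, t, ht, rfl⟩ ⟨y', hy', t', ht', rfl⟩
    refine ⟨y * (t * y' * t⁻¹), mul_mem hy (tor_norm_YG ht hy'), t * t', mul_mem ht ht', ?_⟩
    group
  inv_mem' := by
    rintro _ ⟨y, hy, t, ht, rfl⟩
    refine ⟨t⁻¹ * y⁻¹ * t⁻¹⁻¹, tor_norm_YG (inv_mem ht) (inv_mem hy), t⁻¹, inv_mem ht, ?_⟩
    group

theorem YG_le_YT : YG K ≤ YT K := fun y hy => ⟨y, hy, 1, one_mem _, (mul_one _).symm⟩

theorem tor_le_YT : chevE7.diagonalSubgroup K ≤ YT K := fun t ht => ⟨1, one_mem _, t, ht, (one_mul _).symm⟩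

/-- the group `D` -/
noncomputable def Zf (K : Type u) [Field K] : Subgroup (GL chevE7.Idx K) :=
  _root_.Subgroup.closure (Set.range fun i : Fin 7 => hG e7T.inList (fr i) (-1 : K))

theorem Zf_le : Zf K ≤ chevE7.diagonalSubgroup K := by
  refine (closure_le _).2 ?_
  rintro _ ⟨i, rfl⟩
  exact hG_mem e7T.inList (fr_lt i) (neg_ne_zero.2 one_ne_zero)

theorem hG_mem_Zf (i : Fin 7) : hG e7T.inList (fr i) (-1 : K) ∈ Zf K := subset_closure ⟨i, rfl⟩

theorem GS_le (h2 : (2 : K) ≠ 0) : GS chevE7 K (PsiZ chevE7 K (Zf K)) ≤ YT K := by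
  refine sup_le tor_le_YT (iSup₂_le fun s hs => ?_)
  obtain ⟨r, hr, h⟩ := tabP_spec hs.1 fun r hr => by
    obtain ⟨i, rfl⟩ := exists_fr r hr
    have h3 := hs.2 _ (hG_mem_Zf i)
    rw [chi_hG e7T.inList (fr_lt i) hs.1 (neg_ne_zero.2 one_ne_zero)] at h3
    exact neg_one_zpow_eq h2 h3
  obtain ⟨i, rfl⟩ := exists_fr r hr
  intro g hg
  obtain ⟨a, rfl⟩ := (mem_rootSubgroup_iff e7T.inList s g).1 hg
  apply YG_le_YT
  rcases h with h | h
  · have h3 := Ps_mem_YG (K := K) i (up a)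
    rw [Ps, psi_up e7T.inList (fr_lt i)] at h3
    rw [h]; exact h3
  · have h3 := Ps_mem_YG (K := K) i (lo a)
    rw [Ps, psi_lo e7T.inList (fr_lt i)] at h3
    rw [h]; exact h3

/-! ### the monomial part -/

theorem nG_mem_mono {r : ℕ} (hr : r < chevE7.nroots) : nG e7T.inList r (1 : K) ∈ chevE7.monomialSubgroup K :=
  Subgroup.mem_sup_right (subset_closure ⟨r, hr, coe_nG e7T.inList r 1⟩)

/-- the reflection of `fr i` as an element of `N` -/
noncomputable def nn' (K : Type u) [Field K] (i : Fin 7) : ↥(chevE7.monomialSubgroup K) :=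
  ⟨Ps K i (wS 1), by rw [Ps, psi_wS e7T.inList (fr_lt i)]; exact nG_mem_mono (fr_lt i)⟩

theorem perm_nn_ne {i j : Fin 7} (h : i ≠ j) :
    permHom e7T.inList K (nn' K i) ⟨fr j, fr_lt j⟩ = ⟨fr j, fr_lt j⟩ := by
  refine perm_fix e7T.inList (fr_lt j) (nn' K i).2 ?_
  have h1 := Ps_comm (K := K) h (wS 1) (up 1)
  rwa [Ps, Ps, psi_up e7T.inList (fr_lt j)] at h1

theorem wS_up (a : K) : (wS 1 * up a * (wS 1)⁻¹ : Matrix.SpecialLinearGroup (Fin 2) K) = lo (-a) := by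
  rw [Cfsg.Agent.Nodes.RGDFoldSL.lo_eq, _root_.neg_neg]

theorem perm_nn_self (i : Fin 7) :
    ((permHom e7T.inList K (nn' K i) ⟨fr i, fr_lt i⟩ : Fin chevE7.nroots) : ℕ) = chevE7.neg (fr i) := by
  obtain ⟨c, hc0, hc⟩ := conj_xG e7T.inList (nn' K i) ⟨fr i, fr_lt i⟩
  have h1 := hc 1
  have h3 : (nn' K i : GL chevE7.Idx K) * xG e7T.inList (fr i) 1 * (nn' K i : GL chevE7.Idx K)⁻¹ =
      xG e7T.inList (chevE7.neg (fr i)) (-1) := by
    have h4 : Ps K i (wS 1 * up 1 * (wS 1)⁻¹) = Ps K i (lo (-1)) := by rw [wS_up]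
    rw [map_mul, map_mul, map_inv] at h4
    rw [Ps, psi_up e7T.inList (fr_lt i), psi_lo e7T.inList (fr_lt i)] at h4
    exact h4
  simp only at h1
  rw [h3, mul_one] at h1
  by_contra hne
  have h5 := xG_disj e7T.inList (Fin.is_lt _) (_root_.Cfsg.Agent.ChevalleyStructure.NPerm.neg_lt e7T.inList (fr_lt i)) (fun h => hne h.symm) h1.symm
  exact hc0 h5

/-- `- fr i` -/
def ng (i : Fin 7) : Fin chevE7.nroots := ⟨chevE7.neg (fr i), _root_.Cfsg.Agent.ChevalleyStructure.NPerm.neg_lt e7T.inList (fr_lt i)⟩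

theorem ng_def (i : Fin 7) : ng i = ⟨chevE7.neg (fr i), _root_.Cfsg.Agent.ChevalleyStructure.NPerm.neg_lt e7T.inList (fr_lt i)⟩ := by unfold ng; rfl

theorem ng_val (i : Fin 7) : ((ng i : Fin chevE7.nroots) : ℕ) = chevE7.neg (fr i) := by
  rw [ng_def]

/-- the product of the reflections of a list -/
noncomputable def nL (K : Type u) [Field K] (L : List (Fin 7)) : ↥(chevE7.monomialSubgroup K) :=
  (L.map fun i => nn' K i).prod

theorem perm_nL_not {L : List (Fin 7)} {j : Fin 7} (hj : j ∉ L) :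
    permHom e7T.inList K (nL K L) ⟨fr j, fr_lt j⟩ = ⟨fr j, fr_lt j⟩ := by
  induction L with
  | nil =>
    show permHom e7T.inList K 1 ⟨fr j, fr_lt j⟩ = ⟨fr j, fr_lt j⟩
    rw [map_one]; rfl
  | cons i L ih =>
    have h1 : nL K (i :: L) = nn' K i * nL K L := by
      unfold nL; rw [List.map_cons, List.prod_cons]
    rw [h1, map_mul, Equiv.Perm.mul_apply, ih (fun h => hj (List.mem_cons_of_mem _ h))]
    exact perm_nn_ne fun h => hj (by rw [← h]; exact List.mem_cons_self)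

theorem perm_nL_mem {L : List (Fin 7)} (hL : L.Nodup) {j : Fin 7} (hj : j ∈ L) :
    ((permHom e7T.inList K (nL K L) ⟨fr j, fr_lt j⟩ : Fin chevE7.nroots) : ℕ) = chevE7.neg (fr j) := by
  induction L with
  | nil => exact absurd hj List.not_mem_nil
  | cons i L ih =>
    have h1 : nL K (i :: L) = nn' K i * nL K L := by
      unfold nL; rw [List.map_cons, List.prod_cons]
    rw [h1, map_mul, Equiv.Perm.mul_apply]
    rw [List.nodup_cons] at hL
    rcases List.mem_cons.1 hj with rfl | hj'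
    · rw [perm_nL_not hL.1]
      exact perm_nn_self j
    · have h3 : permHom e7T.inList K (nL K L) ⟨fr j, fr_lt j⟩ = ng j :=
        Fin.ext ((ih hL.2 hj').trans (ng_val j).symm)
      rw [h3, ng_def, perm_neg e7T.inList _ (fr_lt j), perm_nn_ne fun h => hL.1 (by rw [h]; exact hj')]

theorem nL_mem (L : List (Fin 7)) : (nL K L : GL chevE7.Idx K) ∈ YG K := by
  induction L with
  | nil => exact one_mem _
  | cons i L ih =>
    have h1 : nL K (i :: L) = nn' K i * nL K L := by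
      unfold nL; rw [List.map_cons, List.prod_cons]
    rw [h1]
    exact mul_mem (Ps_mem_YG i _) ih

/-- the monomial elements commuting with `D` -/
theorem mono_mem [Finite K] (h2 : (2 : K) ≠ 0) {k : GL chevE7.Idx K} (hk : k ∈ chevE7.monomialSubgroup K)
    (hc : ∀ i, k * hG e7T.inList (fr i) (-1 : K) = hG e7T.inList (fr i) (-1 : K) * k) : k ∈ YT K := by
  classical
  have hD := e7T.inList
  have h1 : ∀ i, ((permHom e7T.inList K ⟨k, hk⟩ ⟨fr i, fr_lt i⟩ : Fin chevE7.nroots) : ℕ) = fr i ∨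
      ((permHom e7T.inList K ⟨k, hk⟩ ⟨fr i, fr_lt i⟩ : Fin chevE7.nroots) : ℕ) = chevE7.neg (fr i) := fun i =>
    perm_of_comm e7T.inList h2 (fr_lt i) (tabB_E7 _ (fr_mem i)) ⟨k, hk⟩ (hc i)
  let L : List (Fin 7) := (List.finRange 7).filter fun i =>
    decide (((permHom e7T.inList K ⟨k, hk⟩ ⟨fr i, fr_lt i⟩ : Fin chevE7.nroots) : ℕ) = chevE7.neg (fr i))
  have hLn : L.Nodup := (List.nodup_finRange 7).filter _
  have hfix : permHom e7T.inList K (⟨k, hk⟩ * nL K L) = 1 := by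
    refine fix_of_tabR e7T lt_E7 tabR_E7 _ fun r hr => ?_
    obtain ⟨i, rfl⟩ := exists_fr r hr
    rw [map_mul, Equiv.Perm.mul_apply]
    by_cases hi : i ∈ L
    · have h3 : permHom e7T.inList K (nL K L) ⟨fr i, fr_lt i⟩ = ng i :=
        Fin.ext ((perm_nL_mem hLn hi).trans (ng_val i).symm)
      rw [h3, ng_def]
      apply Fin.ext
      rw [perm_neg e7T.inList _ (fr_lt i)]
      have h4 := of_decide_eq_true (List.mem_filter.1 hi).2
      rw [h4]
      exact neg_neg_eq' e7T.inList (fr_lt i)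
    · rw [perm_nL_not hi]
      apply Fin.ext
      refine (h1 i).resolve_right fun h => hi (List.mem_filter.2 ⟨List.mem_finRange i, decide_eq_true h⟩)
  have hT : k * (nL K L : GL chevE7.Idx K) ∈ chevE7.diagonalSubgroup K := by
    have h3 : (⟨k, hk⟩ * nL K L : ↥(chevE7.monomialSubgroup K)) ∈ (permHom e7T.inList K).ker := hfix
    rw [ker_permHom e7T.inList K] at h3
    exact h3
  have h5 : k = k * (nL K L : GL chevE7.Idx K) * (nL K L : GL chevE7.Idx K)⁻¹ := by group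
  rw [h5]
  exact mul_mem (tor_le_YT hT) (inv_mem (YG_le_YT (nL_mem L)))

/-- **The centralizer of `D`.** -/
theorem cent_mem [Finite K] (h2 : (2 : K) ≠ 0) {g : GL chevE7.Idx K} (hg : g ∈ chevE7.group K)
    (hc : ∀ i, g * hG e7T.inList (fr i) (-1 : K) = hG e7T.inList (fr i) (-1 : K) * g) : g ∈ YT K := by
  have hc' : g ∈ centralizer (Zf K : Set (GL chevE7.Idx K)) := by
    rw [mem_centralizer_iff]
    intro x hx
    have h1 : Zf K ≤ centralizer {g} := by
      refine (closure_le _).2 ?_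
      rintro _ ⟨i, rfl⟩
      rw [SetLike.mem_coe, mem_centralizer_singleton_iff]
      exact (hc i).symm
    exact mem_centralizer_singleton_iff.1 (h1 hx)
  obtain ⟨u, hu, k, hk, hkc, v, hv, rfl⟩ := cent_form e7T.inList Zf_le hg hc'
  refine mul_mem (mul_mem (GS_le h2 hu) (mono_mem h2 hk fun i => ?_)) (GS_le h2 hv)
  exact (mem_centralizer_iff.1 hkc _ (hG_mem_Zf i)).symm

/-! ### the torus -/

theorem hG_mem_YG (i : Fin 7) (c : K) : hG e7T.inList (fr i) c ∈ YG K := by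
  have h := Ps_mem_YG (K := K) i (hS c)
  rwa [Ps, psi_hS e7T.inList (fr_lt i)] at h

/-- **`t² ∈ Y`** -/
theorem tor_sq {t : GL chevE7.Idx K} (ht : t ∈ chevE7.diagonalSubgroup K) : t * t ∈ YG K := by
  obtain ⟨c, hc, e, -⟩ := tor_data e7T.inList ht
  have hr : chevE7.rank = 7 := by decide
  -- the values
  have hchi : ∀ j : Fin 7, chi chevE7 K t (chevE7.simple j) = ∏ i : Fin 7, c i ^ chevE7.cartan i (chevE7.simple j) := by
    intro j
    have hs := _root_.Cfsg.Agent.ChevalleyStructure.NPerm.simple_lt e7T.inList (lt_rank e7T j)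
    rw [chi, dif_pos hs, e, Matrix.diagonal_apply_eq, Sum.elim_inr, hr,
      ← Fin.prod_univ_eq_prod_range (fun i => c i ^ chevE7.cartan i (chevE7.simple j))]
  have hc' : ∀ i : Fin 7, c i ≠ 0 := fun i => hc i (lt_rank e7T i)
  let d : Fin 7 → K := fun k => ∏ i : Fin 7, c i ^ prC chevE7 (fr k) (chevE7.simple i)
  have hd : ∀ k, d k ≠ 0 := fun k => Finset.prod_ne_zero_iff.2 fun i _ => zpow_ne_zero _ (hc' i)
  have hL : ∀ L : List (Fin 7), (L.map fun k : Fin 7 => hG e7T.inList (fr k) (d k)).prod ∈ YG K ∧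
      (L.map fun k : Fin 7 => hG e7T.inList (fr k) (d k)).prod ∈ chevE7.diagonalSubgroup K ∧
      ∀ s < chevE7.nroots, chi chevE7 K (L.map fun k : Fin 7 => hG e7T.inList (fr k) (d k)).prod s =
        (L.map fun k => d k ^ prC chevE7 (fr k) s).prod := by
    intro L
    induction L with
    | nil => exact ⟨one_mem _, one_mem _, fun s _ => chi_one s⟩
    | cons k L ih =>
      obtain ⟨ih1, ih2, ih3⟩ := ih
      simp only [List.map_cons, List.prod_cons]
      refine ⟨mul_mem (hG_mem_YG k _) ih1, mul_mem (hG_mem e7T.inList (fr_lt k) (hd k)) ih2, fun s hs => ?_⟩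
      rw [chi_mul e7T.inList (hG_mem e7T.inList (fr_lt k) (hd k)) ih2, ih3 s hs,
        chi_hG e7T.inList (fr_lt k) hs (hd k), pr_eq]
  obtain ⟨hw, hwT, hwc⟩ := hL (List.finRange 7)
  have e2 : t * t = ((List.finRange 7).map fun k : Fin 7 => hG e7T.inList (fr k) (d k)).prod := by
    refine tor_ext e7T (mul_mem ht ht) hwT fun j => ?_
    rw [chi_mul e7T.inList ht ht, hwc _ (_root_.Cfsg.Agent.ChevalleyStructure.NPerm.simple_lt e7T.inList (lt_rank e7T j)), hchi j, ← Fin.prod_univ_def]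
    have h1 : ∀ k : Fin 7, d k ^ prC chevE7 (fr k) (chevE7.simple j) =
        ∏ i : Fin 7, c i ^ (prC chevE7 (fr k) (chevE7.simple i) * prC chevE7 (fr k) (chevE7.simple j)) := by
      intro k
      rw [← Finset.prod_zpow]
      exact Finset.prod_congr rfl fun i _ => by rw [← zpow_mul]
    rw [Finset.prod_congr rfl fun k _ => h1 k, Finset.prod_comm, ← Finset.prod_mul_distrib]
    refine Finset.prod_congr rfl fun i _ => ?_
    rw [prod_zpow _ _ (hc' i), tabS i j, two_mul, zpow_add₀ (hc' i)]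
  rw [e2]
  exact hw

/-- the elements of `Y` act on the factors as inner automorphisms -/
theorem inner_YG {y : GL chevE7.Idx K} (hy : y ∈ YG K) (k : Fin 7) :
    ∃ B : Matrix.SpecialLinearGroup (Fin 2) K, ∀ A, y * Ps K k A * y⁻¹ = Ps K k (B * A * B⁻¹) := by
  let S : Subgroup (GL chevE7.Idx K) :=
    { carrier := {y | ∃ B : Matrix.SpecialLinearGroup (Fin 2) K, ∀ A, y * Ps K k A * y⁻¹ = Ps K k (B * A * B⁻¹)}
      one_mem' := ⟨1, fun A => by simp⟩
      mul_mem' := by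
        rintro y y' ⟨B, hB⟩ ⟨B', hB'⟩
        refine ⟨B * B', fun A => ?_⟩
        have e : y * y' * Ps K k A * (y * y')⁻¹ = y * (y' * Ps K k A * y'⁻¹) * y⁻¹ := by group
        rw [e, hB', hB]
        (with_reducible congr 1)
        group
      inv_mem' := by
        rintro y ⟨B, hB⟩
        refine ⟨B⁻¹, fun A => ?_⟩
        have e := hB (B⁻¹ * A * B⁻¹⁻¹)
        have e2 : B * (B⁻¹ * A * B⁻¹⁻¹) * B⁻¹ = A := by group
        rw [e2] at e
        rw [← e]
        group }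
  have h1 : YG K ≤ S := by
    refine iSup_le fun i => ?_
    rintro _ ⟨A, rfl⟩
    by_cases hi : i = k
    · subst hi
      exact ⟨A, fun A' => by rw [map_mul, map_mul, map_inv]⟩
    · refine ⟨1, fun A' => ?_⟩
      rw [Ps_comm hi, mul_inv_cancel_right, one_mul, inv_one, mul_one]
  exact h1 hy

/-- every element of `Y T` acts on the factors through `GL₂` -/
theorem tw_YT {g : GL chevE7.Idx K} (hg : g ∈ YT K) (k : Fin 7) :
    ∃ δ : GL (Fin 2) K, ∀ A, g * Ps K k A * g⁻¹ = Ps K k (tw δ A) := by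
  obtain ⟨y, hy, t, ht, rfl⟩ := hg
  obtain ⟨B, hB⟩ := inner_YG hy k
  refine ⟨Matrix.SpecialLinearGroup.toGL B * dg (chi chevE7 K t (fr k)) (chi_ne_zero e7T.inList ht _), fun A => ?_⟩
  have e : y * t * Ps K k A * (y * t)⁻¹ = y * (t * Ps K k A * t⁻¹) * y⁻¹ := by group
  rw [e, tor_conj ht, hB, tw_mul, tw_toGL]

/-- squares -/
theorem sq_YT {g : GL chevE7.Idx K} (hg : g ∈ YT K) : g * g ∈ YG K := by
  obtain ⟨y, hy, t, ht, rfl⟩ := hg
  have e : y * t * (y * t) = y * (t * y * t⁻¹) * (t * t) := by group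
  rw [e]
  exact mul_mem (mul_mem hy (tor_norm_YG ht hy)) (tor_sq ht)

end Basic

section Inj

variable {K : Type u} [Field K] [Fintype K]

theorem ringChar_ne (h2 : (2 : K) ≠ 0) : ringChar K ≠ 2 := by
  intro h
  apply h2
  have h1 : CharP K 2 := by rw [← h]; exact ringChar.charP K
  exact_mod_cast CharP.cast_eq_zero K 2

theorem up_eq (b : K) : (up b : Matrix.SpecialLinearGroup (Fin 2) K) = Cfsg.Agent.H984.SLTwo.upp 1 b := by
  classical
  apply Subtype.ext
  rw [Cfsg.Agent.H984.SLTwo.coe_upp]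
  show !![1, b; 0, 1] = _
  simp

/-- **the homomorphisms are injective** (also for three elements) -/
theorem Ps_inj (h2 : (2 : K) ≠ 0) (i : Fin 7) : Function.Injective (Ps K i) := by
  classical
  obtain ⟨j, hj⟩ := tabZ_spec e7T tabZ_E7 (fr_mem i)
  by_cases h4 : 4 ≤ Nat.card K
  · exact psi_injective e7T.inList h2 h4 (fr_lt i) (_root_.Cfsg.Agent.ChevalleyStructure.NPerm.simple_lt e7T.inList (lt_rank e7T j)) hj
  · have hc : Fintype.card K = 3 := by
      have h1 := FiniteField.odd_card_of_char_ne_two (ringChar_ne h2)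
      have h3 := Fintype.one_lt_card (α := K)
      rw [Nat.card_eq_fintype_card] at h4
      omega
    have hch : CharP K 3 := by
      obtain ⟨p, hp⟩ := CharP.exists K
      have : Fact p.Prime := ⟨CharP.char_is_prime K p⟩
      obtain ⟨n, hp', hn⟩ := FiniteField.card K p
      rw [hc] at hn
      have h5 : p ∣ 3 := by rw [hn]; exact dvd_pow_self p n.ne_zero
      have h6 : p = 3 := (Nat.prime_dvd_prime_iff_eq hp' Nat.prime_three).1 h5
      rw [← h6]; exact hp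
    have : Fact (Nat.Prime 3) := ⟨Nat.prime_three⟩
    rw [← MonoidHom.ker_eq_bot_iff, eq_bot_iff]
    intro A hA
    rw [Subgroup.mem_bot]
    by_contra hne
    have hfin : IsOfFinOrder A := isOfFinOrder_of_finite A
    obtain ⟨l, hl, hlA⟩ := Nat.exists_prime_and_dvd (n := orderOf A) (fun h => hne (orderOf_eq_one_iff.1 h))
    -- an element of order `l` of the kernel
    have hB : orderOf (A ^ (orderOf A / l)) = l := orderOf_pow_orderOf_div hfin.orderOf_pos.ne' hlA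
    set B := A ^ (orderOf A / l) with hBdef
    have hBk : B ∈ (Ps K i).ker := pow_mem hA _
    have hl24 : l ∣ 24 := by
      have h5 : orderOf B ∣ Nat.card (Matrix.SpecialLinearGroup (Fin 2) K) := _root_.orderOf_dvd_natCard B
      rw [Cfsg.Agent.H984.SLTwo.card_SL, hc, hB] at h5
      exact h5
    have hl23 : l = 2 ∨ l = 3 := by
      have h5 : l ∣ 2 ^ 3 * 3 := by simpa using hl24
      rcases (Nat.Prime.dvd_mul hl).1 h5 with h | h
      · exact Or.inl ((Nat.prime_dvd_prime_iff_eq hl Nat.prime_two).1 (hl.dvd_of_dvd_pow h))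
      · exact Or.inr ((Nat.prime_dvd_prime_iff_eq hl Nat.prime_three).1 h)
    rcases hl23 with rfl | rfl
    · have h5 : B * B = 1 := by
        have h9 := pow_orderOf_eq_one B
        rwa [hB, sq] at h9
      have h6 : B ≠ 1 := by
        intro h
        rw [h, orderOf_one] at hB
        omega
      have h7 := eq_hS h2 h5 h6
      rw [h7, MonoidHom.mem_ker, Ps, psi_hS e7T.inList (fr_lt i)] at hBk
      have h8 := chi_hG e7T.inList (fr_lt i) (_root_.Cfsg.Agent.ChevalleyStructure.NPerm.simple_lt e7T.inList (lt_rank e7T j)) (c := (-1 : K))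
        (neg_ne_zero.2 one_ne_zero)
      rw [hBk, chi_one] at h8
      exact hj (neg_one_zpow_eq h2 h8.symm)
    · obtain ⟨h5, h6⟩ := Cfsg.Agent.H984.SLTwo.of_orderOf 3 hB
      obtain ⟨b, hb, hBb⟩ := Cfsg.Agent.H984.SLTwo.exists_conj_upp h5 h6
      obtain ⟨X, hX⟩ := isConj_iff.1 hBb
      have h7 : (up b : Matrix.SpecialLinearGroup (Fin 2) K) ∈ (Ps K i).ker := by
        rw [up_eq, ← hX]
        exact (inferInstance : (Ps K i).ker.Normal).conj_mem B hBk X
      rw [MonoidHom.mem_ker, Ps, psi_up e7T.inList (fr_lt i), ← xG_zero e7T.inList (fr i)] at h7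
      exact hb (xG_injective e7T.inList (fr_lt i) h7)

theorem one_lt_nroots : 1 < chevE7.nroots := by decide

/-- **an element of the torus outside `Y`** -/
theorem exists_tor (h2 : (2 : K) ≠ 0) : ∃ t ∈ chevE7.diagonalSubgroup K, t ∉ YG K := by
  classical
  obtain ⟨c, hc⟩ := FiniteField.exists_nonsquare (ringChar_ne h2)
  have hc0 : c ≠ 0 := by
    rintro rfl
    exact hc (IsSquare.zero)
  have ht := hG_mem (K := K) e7T.inList one_lt_nroots hc0
  refine ⟨_, ht, fun hy => ?_⟩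
  have hchi : chi chevE7 K (hG e7T.inList 1 c) (fr 0) = c := by
    rw [chi_hG e7T.inList one_lt_nroots (fr_lt 0) hc0, pr_eq]
    have h1 : prC chevE7 1 (fr 0) = 1 := by (delta Cfsg.Agent.H808.RV.prC; rewrite [Cfsg.Agent.ChevFast.E7.cartan, Cfsg.Agent.ChevFast.E7.coroot]; decide +kernel)
    rw [h1, zpow_one]
  obtain ⟨B, hB⟩ := inner_YG hy 0
  have h3 := hB (up 1)
  rw [tor_conj ht] at h3
  have h4 := Ps_inj h2 0 h3
  rw [tw_dg_up, mul_one, hchi, up_eq, up_eq] at h4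
  have h5 : IsConj (Cfsg.Agent.H984.SLTwo.upp 1 (1 : K)) (Cfsg.Agent.H984.SLTwo.upp 1 c) :=
    isConj_iff.2 ⟨B, h4.symm⟩
  rw [Cfsg.Agent.H984.SLTwo.isConj_upp_iff one_ne_zero hc0, one_mul] at h5
  exact hc h5

end Inj

end Cfsg.Agent.H425.KKL
end

-- part: H425/KKL/Seven
section
/-!
# S4546, E7, part 3 (helper425)

`seven_no` : `D ≤ E₇(q)` of order 8 which is conjugate to `{1} ∪ {h_a(-1) : a ∈ FE7}`, `q` odd: there is no
character `θ` with `CfgB D x θ`.
-/

set_option autoImplicit false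
set_option linter.unusedSectionVars false

namespace Cfsg.Agent.H425.KKL

open Subgroup Cfsg Cfsg.Lie Cfsg.Lie.ChevalleyDatum Cfsg.Agent.ChevalleyStructure
  Cfsg.Agent.ChevalleyStructure.Elts Cfsg.Agent.ChevalleyStructure.NPerm Cfsg.Agent.ChevalleyStructure.CoxeterGeom
  Cfsg.Agent.ChevalleyStructure.CoxeterGeomTypes
  Cfsg.Agent.ChevalleyStructure.RootVec
  Cfsg.Agent.Nodes.RGDChev Cfsg.Agent.H412.OT Cfsg.Agent.H3.OT Cfsg.Agent.Nodes.Reps
open Cfsg.Agent.H808.RV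
open Cfsg.Agent.H613.KKL

universe u

section Basic

variable {K : Type u} [Field K]

theorem neg_one_sq : (-1 : Matrix.SpecialLinearGroup (Fin 2) K) * -1 = 1 := by
  apply Subtype.ext
  simp

theorem neg_one_comm (A : Matrix.SpecialLinearGroup (Fin 2) K) : -1 * A = A * -1 := by
  apply Subtype.ext
  simp

theorem tw_neg_one (δ : GL (Fin 2) K) : tw δ (-1) = -1 := by
  apply tw_of_not_NS
  unfold Cfsg.Agent.H984.SLTwo.NS
  simp only [_root_.Fin.isValue, _root_.Matrix.SpecialLinearGroup.coe_neg, _root_.Matrix.SpecialLinearGroup.coe_one, _root_.Matrix.neg_apply, _root_.ne_eq, _root_.zero_ne_one, _root_.not_false_eq_true, _root_.Matrix.one_apply_ne, _root_.neg_zero, _root_.not_true_eq_false, _root_.one_ne_zero, _root_.Matrix.one_apply_eq, _root_.or_self]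

/-- the involutions are different -/
theorem hG_ne (h2 : (2 : K) ≠ 0) {i j : Fin 7} (h : i ≠ j) :
    hG e7T.inList (fr i) (-1 : K) ≠ hG e7T.inList (fr j) (-1 : K) := by
  intro he
  obtain ⟨k, hk⟩ := tabN_spec e7T tabN_E7 (fr_mem i) (fr_mem j) fun e => h (fr_inj i j e)
  refine zP_ne_one (K := K) e7T h2 (I := [fr i, fr j]) ?_ hk ?_
  · intro a ha
    simp only [List.mem_cons, List.not_mem_nil, or_false] at ha
    rcases ha with h' | h' <;> rw [h'] <;> exact fr_lt _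
  · have h6 : zP e7T.inList K [fr i, fr j] = hG e7T.inList (fr i) (-1 : K) * hG e7T.inList (fr j) (-1 : K) := by
      unfold zP
      rw [List.map_cons, List.map_cons, List.map_nil, List.prod_cons, List.prod_cons, List.prod_nil, mul_one]
    rw [h6, ← he, ← Ps_neg_one, ← map_mul, neg_one_sq, map_one]

theorem hG_ne_one (h2 : (2 : K) ≠ 0) (i : Fin 7) : hG e7T.inList (fr i) (-1 : K) ≠ 1 := by
  intro he
  obtain ⟨k, hk⟩ := tabZ_spec e7T tabZ_E7 (fr_mem i)
  have h8 := chi_hG e7T.inList (fr_lt i) (_root_.Cfsg.Agent.ChevalleyStructure.NPerm.simple_lt e7T.inList (lt_rank e7T k)) (c := (-1 : K))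
    (neg_ne_zero.2 one_ne_zero)
  rw [he, chi_one] at h8
  exact hk (neg_one_zpow_eq h2 h8.symm)

/-- the torus commutes with the involutions -/
theorem tor_comm_hG {t : GL chevE7.Idx K} (ht : t ∈ chevE7.diagonalSubgroup K) (i : Fin 7) :
    t * hG e7T.inList (fr i) (-1 : K) = hG e7T.inList (fr i) (-1 : K) * t := by
  rw [← Ps_neg_one, ← mul_inv_eq_iff_eq_mul, tor_conj ht, tw_neg_one]

theorem Ps_comm_hG (i j : Fin 7) (A : Matrix.SpecialLinearGroup (Fin 2) K) :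
    Ps K i A * hG e7T.inList (fr j) (-1 : K) = hG e7T.inList (fr j) (-1 : K) * Ps K i A := by
  rw [← Ps_neg_one]
  by_cases h : i = j
  · subst h
    rw [← map_mul, ← map_mul, neg_one_comm]
  · exact Ps_comm h A _

end Basic

section Main

variable {K : Type u} [Field K] [Fintype K]

/-- **E7, part 3** -/
theorem seven_no (h2 : (2 : K) ≠ 0) {D : Subgroup ↥(chevE7.group K)} {x : ↥(chevE7.group K)}
    {θ : IrrCharacter ↥(centralizer (D : Set ↥(chevE7.group K)))}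
    (hg : ∃ g : ↥(chevE7.group K), ∀ r ∈ FE7, ∃ z ∈ D,
      ((g * z * g⁻¹ : ↥(chevE7.group K)) : GL chevE7.Idx K) = hG e7T.inList r (-1 : K)) : ¬ CfgB D x θ := by
  classical
  intro hc
  obtain ⟨g, hg⟩ := hg
  have hz : ∀ i : Fin 7, ∃ z ∈ D, ((g * z * g⁻¹ : ↥(chevE7.group K)) : GL chevE7.Idx K) =
      hG e7T.inList (fr i) (-1 : K) := fun i => hg _ (fr_mem i)
  choose z hzD hz using hz
  -- the elements of `D`
  have hD8 : Nat.card ↥D = 8 := hc.e8.card
  have hfinD : Finite ↥D := Nat.finite_of_card_ne_zero (by rw [hD8]; norm_num)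
  let e : Option (Fin 7) → ↥D := fun o => match o with
    | none => 1
    | some i => ⟨z i, hzD i⟩
  have he_inj : Function.Injective e := by
    rintro (_ | i) (_ | j) h
    · rfl
    · exfalso
      have h1 : (1 : ↥(chevE7.group K)) = z j := congrArg Subtype.val h
      have h3 := hz j
      rw [← h1] at h3
      apply hG_ne_one h2 j
      rw [← h3]; simp only [_root_.mul_one, _root_.mul_inv_cancel, _root_.OneMemClass.coe_one]
    · exfalso
      have h1 : z i = (1 : ↥(chevE7.group K)) := congrArg Subtype.val h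
      have h3 := hz i
      rw [h1] at h3
      apply hG_ne_one h2 i
      rw [← h3]; simp only [_root_.mul_one, _root_.mul_inv_cancel, _root_.OneMemClass.coe_one]
    · by_contra hne
      have hij : i ≠ j := fun h => hne (by rw [h])
      have h1 : z i = z j := congrArg Subtype.val h
      apply hG_ne h2 hij
      rw [← hz i, ← hz j, h1]
  have he_bij : Function.Bijective e := by
    rw [Nat.bijective_iff_injective_and_card]
    refine ⟨he_inj, ?_⟩
    rw [hD8, Nat.card_eq_fintype_card]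
    rfl
  have hDcases : ∀ d ∈ D, d = 1 ∨ ∃ i, d = z i := by
    intro d hd
    obtain ⟨o, ho⟩ := he_bij.2 ⟨d, hd⟩
    rcases o with _ | i
    · exact Or.inl (congrArg Subtype.val ho).symm
    · exact Or.inr ⟨i, (congrArg Subtype.val ho).symm⟩
  -- the homomorphism to `GL`
  let C : Subgroup ↥(chevE7.group K) := centralizer (D : Set ↥(chevE7.group K))
  let f : ↥C →* GL chevE7.Idx K :=
    ((chevE7.group K).subtype.comp (MulAut.conj g).toMonoidHom).comp C.subtype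
  have hf : ∀ c : ↥C, f c = (g : GL chevE7.Idx K) * ((c : ↥(chevE7.group K)) : GL chevE7.Idx K) *
      (g : GL chevE7.Idx K)⁻¹ := fun c => rfl
  have hfinj : Function.Injective f := by
    intro c c' h
    have h1 : (MulAut.conj g) (c : ↥(chevE7.group K)) = (MulAut.conj g) (c' : ↥(chevE7.group K)) := Subtype.ext h
    exact Subtype.ext ((MulAut.conj g).injective h1)
  -- elements of `C`
  have hmem : ∀ y : ↥(chevE7.group K), (∀ i, (y : GL chevE7.Idx K) * hG e7T.inList (fr i) (-1 : K) =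
      hG e7T.inList (fr i) (-1 : K) * (y : GL chevE7.Idx K)) → g⁻¹ * y * g ∈ C := by
    intro y hy
    rw [mem_centralizer_iff]
    intro d hd
    rcases hDcases d hd with rfl | ⟨i, rfl⟩
    · group
    · have h1 : y * (g * z i * g⁻¹) = g * z i * g⁻¹ * y := by
        apply Subtype.ext
        show (y : GL chevE7.Idx K) * ((g * z i * g⁻¹ : ↥(chevE7.group K)) : GL chevE7.Idx K) =
          ((g * z i * g⁻¹ : ↥(chevE7.group K)) : GL chevE7.Idx K) * (y : GL chevE7.Idx K)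
        rw [hz i]
        exact hy i
      calc z i * (g⁻¹ * y * g) = g⁻¹ * (g * z i * g⁻¹ * y) * g := by group
        _ = g⁻¹ * (y * (g * z i * g⁻¹)) * g := by rw [h1]
        _ = g⁻¹ * y * g * z i := by group
  have hcomm' : ∀ c : ↥C, ∀ i, f c * hG e7T.inList (fr i) (-1 : K) = hG e7T.inList (fr i) (-1 : K) * f c := by
    intro c i
    have h1 : z i * (c : ↥(chevE7.group K)) = (c : ↥(chevE7.group K)) * z i := mem_centralizer_iff.1 c.2 _ (hzD i)
    rw [← hz i]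
    show ((g * (c : ↥(chevE7.group K)) * g⁻¹ * (g * z i * g⁻¹) : ↥(chevE7.group K)) : GL chevE7.Idx K) =
      ((g * z i * g⁻¹ * (g * (c : ↥(chevE7.group K)) * g⁻¹) : ↥(chevE7.group K)) : GL chevE7.Idx K)
    (with_reducible congr 1)
    calc g * (c : ↥(chevE7.group K)) * g⁻¹ * (g * z i * g⁻¹) = g * ((c : ↥(chevE7.group K)) * z i) * g⁻¹ := by group
      _ = g * (z i * (c : ↥(chevE7.group K))) * g⁻¹ := by rw [h1]
      _ = _ := by group
  have hfYT : ∀ c : ↥C, f c ∈ YT K := fun c =>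
    cent_mem h2 (g := f c) (by
      show ((g * (c : ↥(chevE7.group K)) * g⁻¹ : ↥(chevE7.group K)) : GL chevE7.Idx K) ∈ chevE7.group K
      exact Subtype.prop _) (hcomm' c)
  -- the homomorphisms
  have hPC : ∀ (i : Fin 7) (A : Matrix.SpecialLinearGroup (Fin 2) K),
      (MulAut.conj g⁻¹) (⟨Ps K i A, Ps_mem i A⟩ : ↥(chevE7.group K)) ∈ C := by
    intro i A
    have h1 := hmem ⟨Ps K i A, Ps_mem i A⟩ fun j => Ps_comm_hG i j A
    rw [MulAut.conj_apply, inv_inv]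
    exact h1
  let φ : Fin 7 → Matrix.SpecialLinearGroup (Fin 2) K →* ↥C := fun i =>
    ((MulAut.conj g⁻¹).toMonoidHom.comp ((Ps K i).codRestrict (chevE7.group K) (Ps_mem i))).codRestrict C
      (hPC i)
  have hfφ : ∀ i A, f (φ i A) = Ps K i A := by
    intro i A
    rw [hf]
    show (g : GL chevE7.Idx K) * (((g⁻¹ : ↥(chevE7.group K)) : GL chevE7.Idx K) * Ps K i A *
      (((g⁻¹ : ↥(chevE7.group K))⁻¹ : ↥(chevE7.group K)) : GL chevE7.Idx K)) * (g : GL chevE7.Idx K)⁻¹ = Ps K i A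
    rw [inv_inv, Subgroup.coe_inv]
    group
  have hφcomm : Pairwise fun i j : Fin 7 => ∀ a b : Matrix.SpecialLinearGroup (Fin 2) K,
      Commute (φ i a) (φ j b) := by
    intro i j hij a b
    apply hfinj
    rw [map_mul, map_mul, hfφ, hfφ]
    exact Ps_comm hij a b
  have hφinj : ∀ i, Function.Injective (φ i) := by
    intro i a b h
    apply Ps_inj h2 i
    rw [← hfφ, ← hfφ, h]
  have hφcl : 8 ≤ Nat.card ↥(_root_.Subgroup.closure (Set.range fun i => φ i (-1))) := by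
    let e' : Option (Fin 7) → ↥(closure (Set.range fun i => φ i (-1))) := fun o => match o with
      | none => 1
      | some i => ⟨φ i (-1), subset_closure ⟨i, rfl⟩⟩
    have he' : Function.Injective e' := by
      rintro (_ | i) (_ | j) h
      · rfl
      · exfalso
        have h1 : (1 : ↥C) = φ j (-1) := congrArg Subtype.val h
        apply hG_ne_one h2 j
        rw [← Ps_neg_one, ← hfφ, ← h1, map_one]
      · exfalso
        have h1 : φ i (-1) = (1 : ↥C) := congrArg Subtype.val h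
        apply hG_ne_one h2 i
        rw [← Ps_neg_one, ← hfφ, h1, map_one]
      · by_contra hne
        have hij : i ≠ j := fun h => hne (by rw [h])
        have h1 : φ i (-1) = φ j (-1) := congrArg Subtype.val h
        apply hG_ne h2 hij
        rw [← Ps_neg_one, ← Ps_neg_one, ← hfφ, ← hfφ, h1]
    have h3 := Nat.card_le_card_of_injective _ he'
    rw [Nat.card_eq_fintype_card] at h3
    exact h3
  have hφconj : ∀ (c : ↥C) (i : Fin 7), ∃ δ : GL (Fin 2) K, ∀ a, c * φ i a * c⁻¹ = φ i (tw δ a) := by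
    intro c i
    obtain ⟨δ, hδ⟩ := tw_YT (hfYT c) i
    refine ⟨δ, fun a => hfinj ?_⟩
    rw [map_mul, map_mul, map_inv, hfφ, hfφ, hδ]
  -- the image of the product
  have hYG : (cp φ hφcomm).range.map f = YG K := by
    rw [cp_range, Subgroup.map_iSup]
    unfold YG
    refine iSup_congr fun i => ?_
    rw [MonoidHom.map_range]
    congr 1
    ext1 A
    exact hfφ i A
  have hmemY : ∀ c : ↥C, f c ∈ YG K ↔ c ∈ (cp φ hφcomm).range := by
    intro c
    rw [← hYG]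
    constructor
    · rintro ⟨c', hc', h⟩
      rw [← hfinj h]; exact hc'
    · exact fun h => ⟨c, h, rfl⟩
  have hirr : IsIrrCharacter ↥C (θ : ↥C → ℂ) := θ.2
  have hθ1 : (θ : ↥C → ℂ) 1 = ((charDegree (θ : ↥C → ℂ) : ℕ) : ℂ) :=
    Cfsg.Agent.Blocks.Basic.irr_one_eq_charDegree hirr
  have hzero : (charDegree (θ : ↥C → ℂ)).factorization 2 + 3 = (Nat.card ↥C).factorization 2 := hc.zero
  have hfinC : Finite ↥C := inferInstance
  have h7 : Fintype.card (Fin 7) = 7 := Fintype.card_fin 7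
  have hpow : ∀ c : ↥C, ∃ k : ℕ, c ^ 2 ^ k ∈ (cp φ hφcomm).range := by
    intro c
    refine ⟨1, ?_⟩
    rw [← hmemY, pow_one, sq, map_mul]
    exact sq_YT (hfYT c)
  have hne : (cp φ hφcomm).range ≠ ⊤ := by
    intro htop
    obtain ⟨t, ht, htY⟩ := exists_tor (K := K) h2
    obtain ⟨tt, htt⟩ : ∃ tt : ↥(chevE7.group K), (tt : GL chevE7.Idx K) = t :=
      ⟨⟨t, diagonal_le_group e7T.inList K ht⟩, rfl⟩
    have h1 : g⁻¹ * tt * g ∈ C := hmem tt fun i => by rw [htt]; exact tor_comm_hG ht i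
    apply htY
    have h3 : f (⟨g⁻¹ * tt * g, h1⟩ : ↥C) = t := by
      rw [hf]
      have h4 : ((g * (g⁻¹ * tt * g) * g⁻¹ : ↥(chevE7.group K)) : GL chevE7.Idx K) = t := by
        rw [← htt]
        congr 1
        group
      exact h4
    rw [← h3, hmemY, htop]
    exact mem_top _
  exact abs_main φ hφcomm (ringChar_ne h2) h7 hφinj hφcl hφconj hpow hne hirr hθ1 hzero

end Main

end Cfsg.Agent.H425.KKL
end

-- part: H351/KKL/E7Asm0
section
/-!
# S4546, E7 (helper351): assembly of `E_E7` from X2a (helper392) and part 1 (helper553)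
-/

set_option autoImplicit false
set_option linter.unusedSectionVars false
set_option maxHeartbeats 400000

namespace Cfsg.Agent.H351.KKL

open CoxeterSystem Cfsg.Agent.ChevalleyStructure.CoxeterGeom Cfsg.Agent.Tits.Roots Cfsg.Agent.Tits.Core
  Cfsg.Agent.Tits.RootComb Cfsg.Agent.Nodes.Reps Cfsg.Agent.Nodes.BNOf
  Cfsg.Agent.Nodes.RGDLib Cfsg.Agent.Nodes.Bruhat Cfsg.Agent.Nodes.Coroot Cfsg.Agent.KFacts.RgdSL
open Cfsg Cfsg.Lie Cfsg.Agent.ChevalleyStructure Cfsg.Agent.ChevalleyStructure.CoxeterGeomTypes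
  Cfsg.Agent.ChevalleyStructure.Elts Cfsg.Agent.ChevalleyStructure.RootVec Cfsg.Agent.Nodes.RGDChev
open Cfsg.Agent.KFacts.RgdChevCoord (TT XX nc coords)
open Cfsg.Agent.H974.Exc (sl_E7 cf isRoot_of cpr_of)
open Cfsg.Agent.H557.LrTor (AA)
open Cfsg.Agent.H557.LrIso (AA_conj)
open Cfsg.Agent.H557.LrRho (actW rep_word)
open Cfsg.Agent.H557.LrChev (range_phi)
open Cfsg.Agent.GenExc.Chev (zS)
open Cfsg.Agent.OddHalf.LongSL.Chev (phi)
open Cfsg.Agent.Nodes.RGDFoldSL (wS hS coe_wS coe_hS psi psi_up psi_lo psi_hS psi_mem)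
open Cfsg.Agent.H808.RV
open Cfsg.Agent.H613.KKL
open Cfsg.Agent.UGT.U2.FOne (isType_E7)

set_option backward.isDefEq.respectTransparency false

set_option maxRecDepth 20000

/-- from the first simple root to the highest root -/
theorem tab_w0 : actW AE [0, 2, 3, 4, 5, 6, 1, 3, 4, 5, 2, 3, 4, 1, 3, 2] (sr 0) = c0 := by
  (delta Cfsg.Agent.ChevalleyStructure.CoxeterGeomTypes.cartanOf Cfsg.Agent.H351.KKL.AE; rewrite [Cfsg.Agent.ChevFast.E7.cartan]; decide +kernel)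

theorem two_ne {F : Type} [Field F] {p : ℕ} [Fact p.Prime] [CharP F p] (hp2 : p ≠ 2) : (2 : F) ≠ 0 := by
  intro h
  have h1 : ((2 : ℕ) : F) = 0 := by exact_mod_cast h
  rw [CharP.cast_eq_zero_iff F p] at h1
  exact hp2 ((Nat.prime_dvd_prime_iff_eq (Fact.out : p.Prime) Nat.prime_two).1 h1)

/-- the statement `x2a_E7` of helper392 -/
def X2aE7 (F : Type) [Field F] : Prop :=
  ∃ J : GE F → Subgroup (GE F), J (zS isType_E7 F [0]) = (phi isType_E7 F 0).range ∧
    (∀ t, IsConj (zS isType_E7 F [0]) t → CI t (J t)) ∧ ∀ y t g : GE F, y * g * y⁻¹ ∈ J (y * t * y⁻¹) ↔ g ∈ J t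

/-- the statement `seven_classical` of helper553 -/
def SevenE7 (F : Type) [Field F] : Prop :=
  ∀ {D : Subgroup (GE F)}, E8 D → ∀ {y : GE F}, Seven D y → ∀ d ∈ D, d ≠ 1 → IsConj (zS isType_E7 F [0]) d

/-- **`E_E7`** from X2a and part 1 -/
theorem E_E7_of {F : Type} [Field F] [Finite F] {p : ℕ} [Fact p.Prime] [CharP F p] (hp2 : p ≠ 2) (hX : X2aE7 F)
    (hS : SevenE7 F) (D : Subgroup (GE F)) (x : GE F) (θ : IrrCharacter ↥(Subgroup.centralizer (D : Set (GE F)))) :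
    ¬ CfgB D x θ := by
  intro hc
  have := Fintype.ofFinite F
  have h2 : (2 : F) ≠ 0 := two_ne hp2
  obtain ⟨J, hJ1, hJ2, hJ3⟩ := hX
  obtain ⟨y, hy⟩ := hc.seven
  have hcl := hS hc.e8 hy
  obtain ⟨-, hcm, -⟩ := H40.KKL.X1 hc.toCfg0 J (fun t ht ht1 => hJ2 t (hcl t ht ht1)) (fun y t _ _ g => hJ3 y t g)
    (k := F) h2 (V := F) (1 : GE F →* Module.End F F)
  -- the root `c0`
  obtain ⟨cs, hcs⟩ : ∃ cs, cs = (CoxeterMatrix.E₇).toCoxeterSystem := ⟨_, rfl⟩
  have hW : Finite (CoxeterMatrix.E₇).Group := Cfsg.Agent.Nodes.RGDChev.finite_W isType_E7 cs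
  have R := rgd (K := F) isType_E7 cs p
  obtain ⟨z, hz⟩ := exists_rp cs R.nsys (cs.wordProd [0, 2, 3, 4, 5, 6, 1, 3, 4, 5, 2, 3, 4, 1, 3, 2])
  have a0 : cj z (AA (XX chevE7 7 F) (sr 0)) = AA (XX chevE7 7 F) c0 := by
    rw [cj_AA R (isRoot_sr cs _ 0) hz, rep_word, tab_w0]
  have mem0 : (0 : ℕ) ∈ FE7 := by decide
  have J0 : AA (XX chevE7 7 F) c0 = JJ isType_E7.inList F 0 := by
    rw [← JJ_eq isType_E7 (lt_E7 0 mem0), tab_vec.1, AA_neg]
  have hphi : (phi isType_E7 F 0).range = AA (XX chevE7 7 F) (sr 0) := range_phi isType_E7 (K := F) 0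
  obtain ⟨s, hs⟩ : ∃ s, s = zS isType_E7 F [0] := ⟨_, rfl⟩
  have hs0 : s = phi isType_E7 F 0 (-1) := by rw [hs]; exact mul_one _
  rw [← hs] at hJ1
  have hmul : (-1 : Matrix.SpecialLinearGroup (Fin 2) F) * -1 = 1 := by simp
  have hzs : z * s * z⁻¹ = tt isType_E7.inList F 0 := by
    refine inv_unique isType_E7.inList h2 (lt_E7 0 mem0) (hG_ne_one h2 mem0) ?_ ?_ ?_
    · rw [← J0, ← a0, conj_mem_cj, ← hphi, hs0]
      exact ⟨-1, rfl⟩
    · have e : z * s * z⁻¹ * (z * s * z⁻¹) = z * (s * s) * z⁻¹ := by group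
      rw [e, hs0, ← map_mul, hmul, map_one, mul_one, mul_inv_cancel]
    · intro h5
      have e : s = z⁻¹ * (z * s * z⁻¹) * z := by group
      have hs1 : s = 1 := by rw [e, h5]; group
      -- all nontrivial elements of `D` would be trivial
      obtain ⟨d, hd, hd1⟩ := exists_not_mem D {1} (by rw [hc.e8.card, Finset.card_singleton]; norm_num)
      rw [Finset.mem_singleton] at hd1
      have h6 := hcl d hd hd1
      rw [← hs, hs1] at h6
      exact hd1 (isConj_one_right.1 h6)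
  have hJt : J (tt isType_E7.inList F 0) = JJ isType_E7.inList F 0 := by
    rw [← hzs, ← J0, ← a0, ← hphi, ← hJ1]
    ext x
    rw [mem_cj, ← hJ3 z s (z⁻¹ * x * z)]
    have e : z * (z⁻¹ * x * z) * z⁻¹ = x := by group
    rw [e]
  obtain ⟨g, hg⟩ := toral_E7 (F := F) hp2 hc.e8.card hc.e8.inv (fun t ht ht1 => by
    obtain ⟨c, hc⟩ := isConj_iff.1 (hcl t ht ht1)
    refine ⟨c * z⁻¹, ?_⟩
    rw [← hzs, ← hc, ← hs]
    group) J hJt hJ3 hcm
  refine Cfsg.Agent.H425.KKL.seven_no h2 ⟨g, fun r hr => ⟨_, hg r hr, ?_⟩⟩ hc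
  have e : g * (g⁻¹ * tt isType_E7.inList F r * g) * g⁻¹ = tt isType_E7.inList F r := by group
  rw [e]
  rfl

end Cfsg.Agent.H351.KKL
end

-- part: H351/KKL/E7Fin0
section
/-!
# S4546, E7 (helper351): `E_E7` from X2a
-/

set_option autoImplicit false

namespace Cfsg.Agent.H351.KKL

open Cfsg Cfsg.Lie Cfsg.Agent.H613.KKL

theorem odd_card_of {F : Type} [Field F] [Fintype F] {p : ℕ} [Fact p.Prime] [CharP F p] (hp2 : p ≠ 2) :
    Odd (Fintype.card F) := by
  obtain ⟨n, -, hn⟩ := FiniteField.card F p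
  rw [hn]
  exact ((Fact.out : p.Prime).odd_of_ne_two hp2).pow

theorem sevenE7 {F : Type} [Field F] [Fintype F] {p : ℕ} [Fact p.Prime] [CharP F p] (hp2 : p ≠ 2) : SevenE7 F :=
  fun h _ hy d hd hd1 => H553.KKL.seven_classical (odd_card_of (p := p) hp2) h hy d hd hd1

/-- `E_E7` from X2a -/
theorem E_E7_of' {F : Type} [Field F] [Fintype F] {p : ℕ} [Fact p.Prime] [CharP F p] (hp2 : p ≠ 2) (hX : X2aE7 F)
    (D : Subgroup ↥(Lie.chevE7.group F)) (x : ↥(Lie.chevE7.group F))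
    (θ : IrrCharacter ↥(Subgroup.centralizer (D : Set ↥(Lie.chevE7.group F)))) : ¬ CfgB D x θ :=
  E_E7_of hp2 hX (sevenE7 (p := p) hp2) D x θ

end Cfsg.Agent.H351.KKL
end

-- part: H351/KKL/E7Fin
section
/-!
# S4546, E7 (helper351): **`E_E7`**
-/

set_option autoImplicit false

namespace Cfsg.Agent.H351.KKL

open Cfsg Cfsg.Lie Cfsg.Agent.H613.KKL

/-- **`E_E7`** -/
theorem E_E7 {F : Type} [Field F] [Fintype F] {p : ℕ} [Fact p.Prime] [CharP F p] (hp : p ≠ 2)
    (D : Subgroup ↥(Lie.chevE7.group F)) (x : ↥(Lie.chevE7.group F))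
    (θ : IrrCharacter ↥(Subgroup.centralizer (D : Set ↥(Lie.chevE7.group F)))) : ¬ CfgB D x θ :=
  E_E7_of' hp (H392.KKL.x2a_E7 (two_ne (p := p) hp)) D x θ

end Cfsg.Agent.H351.KKL
end

private theorem dce_b031eadaaf71 : _root_.True := by
  try have : _root_.True := by simp only [_root_.Cfsg.Agent.H351.KKL.tt.congr_simp]
  try have : _root_.True := by simp only [_root_.Cfsg.Agent.H425.KKL.Ps.eq_1]
  exact _root_.True.intro
end
end
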